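import Mathlib
import Cfsg.Prelude.Def_Characters
import Cfsg.Agent.Helper77.D1Defs
import Cfsg.Agent.Helper77.D1Defs2
import Cfsg.Agent.Helper80.CharOrtho
import Cfsg.Agent.Helper79.Quotient
import Cfsg.Agent.Helper75.LatGroup

/-!
# Piece IB of CALL S4442B (helper74): orthogonality of the `θ`-coefficients

`∑_χ dco θ χ (x^i) conj (dco θ' χ (x^i')) = p` if some `n` conjugates `x^i` to `x^i'` and `θ` to
`θ'`, and `= 0` otherwise.
-/

universe u
set_option autoImplicit false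
open Cfsg Cfsg.Agent.Helper77
open scoped ComplexConjugate

namespace Cfsg.Agent.Helper74

variable {G : Type u} [Group G] [Finite G]

omit [Finite G] in
/-- Uniqueness of the decomposition into commuting `p`-part and `p'`-part. -/
theorem d1ib_split {p m : ℕ} (hpm : Nat.Coprime m p) {a b c d : G} (hab : Commute a b)
    (hcd : Commute c d) (ha : a ^ p = 1) (hc : c ^ p = 1) (hb : b ^ m = 1) (hd : d ^ m = 1)
    (h : a * b = c * d) : a = c ∧ b = d := by
  have h1 : a ^ m = c ^ m := by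
    have h2 : (a * b) ^ m = (c * d) ^ m := by rw [h]
    rw [hab.mul_pow, hcd.mul_pow, hb, hd, mul_one, mul_one] at h2
    exact h2
  have key : ∀ g : G, g ^ p = 1 → g = (g ^ m) ^ (Nat.gcdA m p) := by
    intro g hg
    have h2 : ((m : ℤ) * Nat.gcdA m p + (p : ℤ) * Nat.gcdB m p) = 1 := by
      rw [← Nat.gcd_eq_gcd_ab, hpm.gcd_eq_one, Nat.cast_one]
    calc g = g ^ (1 : ℤ) := (zpow_one g).symm
      _ = g ^ ((m : ℤ) * Nat.gcdA m p + (p : ℤ) * Nat.gcdB m p) := by rw [h2]
      _ = (g ^ m) ^ (Nat.gcdA m p) := by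
        rw [zpow_add, zpow_mul, zpow_mul, zpow_natCast, zpow_natCast, hg, one_zpow, mul_one]
  have hac : a = c := by rw [key a ha, key c hc, h1]
  refine ⟨hac, ?_⟩
  subst hac
  exact mul_left_cancel h

omit [Finite G] in
theorem d1ib_gen (p : ℕ) [Fact p.Prime] (x : G) (hx : orderOf x = p) (i : ℕ) (hi : ¬ p ∣ i) :
    ∃ j : ℕ, (x ^ i) ^ j = x := by
  have hp : p.Prime := Fact.out
  apply exists_pow_eq_self_of_coprime
  rw [hx]
  exact ((Nat.Prime.coprime_iff_not_dvd hp).mpr hi).symm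

omit [Finite G] in
theorem d1ib_comm (p : ℕ) [Fact p.Prime] (x : G) (hx : orderOf x = p) (i : ℕ) (hi : ¬ p ∣ i)
    (g : G) : g * x ^ i = x ^ i * g ↔ g * x = x * g := by
  constructor
  · intro h
    obtain ⟨j, hj⟩ := d1ib_gen p x hx i hi
    have h1 : Commute g ((x ^ i) ^ j) := Commute.pow_right (show Commute g (x ^ i) from h) j
    rw [hj] at h1
    exact h1
  · intro h
    exact Commute.pow_right (show Commute g x from h) i

theorem d1ib_norm (p : ℕ) [Fact p.Prime] (x : G) (hx : orderOf x = p) (i i' : ℕ) (hi : ¬ p ∣ i)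
    (n : G) (hn : n * x ^ i * n⁻¹ = x ^ i') :
    n ∈ Subgroup.normalizer ((Subgroup.zpowers x : Subgroup G) : Set G) := by
  obtain ⟨j, hj⟩ := d1ib_gen p x hx i hi
  apply Subgroup.mem_normalizer_fintype
  intro g hg
  rw [SetLike.mem_coe, Subgroup.mem_zpowers_iff] at hg ⊢
  obtain ⟨a, rfl⟩ := hg
  refine ⟨((i' * j : ℕ) : ℤ) * a, ?_⟩
  have h1 : n * x * n⁻¹ = x ^ (i' * j) := by
    conv_lhs => rw [← hj]
    rw [← conj_pow, hn, ← pow_mul]
  rw [← conj_zpow, h1, zpow_mul, zpow_natCast]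

theorem d1_dco_orth (p : ℕ) [Fact p.Prime] (x : G) (K : Subgroup G) (h : D1Hyp p x K)
    (θ θ' : Cfsg.IrrCharacter K) (i i' : ℕ) (hi : ¬ p ∣ i) (hi' : ¬ p ∣ i') :
    ((∃ n : G, n * x ^ i * n⁻¹ = x ^ i' ∧ thetaConj K n (θ : K → ℂ) (θ' : K → ℂ)) →
      ∑ᶠ χ : Cfsg.IrrCharacter G, dco K (θ : K → ℂ) (χ : G → ℂ) (x ^ i)
        * conj (dco K (θ' : K → ℂ) (χ : G → ℂ) (x ^ i')) = (p : ℂ)) ∧
    ((¬ ∃ n : G, n * x ^ i * n⁻¹ = x ^ i' ∧ thetaConj K n (θ : K → ℂ) (θ' : K → ℂ)) →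
      ∑ᶠ χ : Cfsg.IrrCharacter G, dco K (θ : K → ℂ) (χ : G → ℂ) (x ^ i)
        * conj (dco K (θ' : K → ℂ) (χ : G → ℂ) (x ^ i')) = 0) := by
  classical
  have hp : p.Prime := Fact.out
  letI : Fintype G := Fintype.ofFinite G
  letI : Fintype (Cfsg.IrrCharacter G) := Fintype.ofFinite _
  letI : Fintype K := Fintype.ofFinite K
  have hcardK : (Nat.card K : ℂ) ≠ 0 := by exact_mod_cast Nat.card_pos.ne'
  have hcop : Nat.Coprime (Nat.card K) p := ((Nat.Prime.coprime_iff_not_dvd hp).mpr h.hK).symm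
  have hxp : x ^ p = 1 := by rw [← h.hx]; exact pow_orderOf_eq_one x
  have hKm : ∀ k : K, (k : G) ^ Nat.card K = 1 := by
    intro k
    have := pow_card_eq_one' (G := K) (x := k)
    exact congrArg Subtype.val this
  have hKx : ∀ k : K, (k : G) * x = x * (k : G) := fun k =>
    (h.hC k).mpr ⟨0, k, k.2, by simp⟩
  -- the conjugacy criterion
  have hsplit : ∀ (n : G) (k k' : K), n * (x ^ i * (k : G)) * n⁻¹ = x ^ i' * (k' : G) ↔
      (n * x ^ i * n⁻¹ = x ^ i' ∧ n * (k : G) * n⁻¹ = (k' : G)) := by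
    intro n k k'
    constructor
    · intro hc
      have hyk : x ^ i * (k : G) = (k : G) * x ^ i := (Commute.pow_right (hKx k) i).symm
      have hyk' : Commute (x ^ i') (k' : G) := (Commute.pow_right (hKx k') i').symm
      refine d1ib_split hcop ?_ hyk' ?_ ?_ ?_ (hKm k') ?_
      · show (n * x ^ i * n⁻¹) * (n * (k : G) * n⁻¹) = (n * (k : G) * n⁻¹) * (n * x ^ i * n⁻¹)
        calc (n * x ^ i * n⁻¹) * (n * (k : G) * n⁻¹) = n * (x ^ i * (k : G)) * n⁻¹ := by group
          _ = n * ((k : G) * x ^ i) * n⁻¹ := by rw [hyk]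
          _ = (n * (k : G) * n⁻¹) * (n * x ^ i * n⁻¹) := by group
      · rw [conj_pow, ← pow_mul, mul_comm, pow_mul, hxp, one_pow, mul_one, mul_inv_cancel]
      · rw [← pow_mul, mul_comm, pow_mul, hxp, one_pow]
      · rw [conj_pow, hKm k, mul_one, mul_inv_cancel]
      · rw [← hc]; group
    · rintro ⟨h1, h2⟩
      rw [← h1, ← h2]; group
  set A : Finset G := Finset.univ.filter
    (fun n : G => n * x ^ i * n⁻¹ = x ^ i' ∧ thetaConj K n (θ : K → ℂ) (θ' : K → ℂ)) with hA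
  have hd : ∀ (ψ : K → ℂ) (χ : G → ℂ) (z : G), dco K ψ χ z
      = (Nat.card K : ℂ)⁻¹ * ∑ k : K, χ (z * (k : G)) * conj (ψ k) := by
    intro ψ χ z
    unfold dco
    rw [finsum_eq_sum_of_fintype]
  -- inner sum for a fixed `n`
  have hinner : ∀ n : G, ∑ k : K, ∑ k' : K,
      (if n * (x ^ i * (k : G)) * n⁻¹ = x ^ i' * (k' : G) then
        conj ((θ : K → ℂ) k) * (θ' : K → ℂ) k' else 0)
      = if (n * x ^ i * n⁻¹ = x ^ i' ∧ thetaConj K n (θ : K → ℂ) (θ' : K → ℂ)) then
          (Nat.card K : ℂ) else 0 := by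
    intro n
    by_cases hQ : n * x ^ i * n⁻¹ = x ^ i'
    · have hnN := d1ib_norm p x h.hx i i' hi n hQ
      have hnK : ∀ k : G, k ∈ K → n * k * n⁻¹ ∈ K := fun k hk =>
        Cfsg.Agent.Helper75.lat_K_normal p x h.hx K h.hK h.hC n hnN k hk
      have hnK' : ∀ k : G, k ∈ K → n⁻¹ * k * n ∈ K := fun k hk => by
        have := Cfsg.Agent.Helper75.lat_K_normal p x h.hx K h.hK h.hC n⁻¹ (inv_mem hnN) k hk
        rwa [inv_inv] at this
      let e : K ≃* K :=
        { toFun := fun k => ⟨n * (k : G) * n⁻¹, hnK k k.2⟩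
          invFun := fun k => ⟨n⁻¹ * (k : G) * n, hnK' k k.2⟩
          left_inv := by intro k; apply Subtype.ext; show n⁻¹ * (n * (k : G) * n⁻¹) * n = k; group
          right_inv := by intro k; apply Subtype.ext; show n * (n⁻¹ * (k : G) * n) * n⁻¹ = k; group
          map_mul' := by
            intro a b; apply Subtype.ext
            show n * ((a : G) * (b : G)) * n⁻¹ = (n * (a : G) * n⁻¹) * (n * (b : G) * n⁻¹)
            group }
      have he : ∀ k : K, ((e k : K) : G) = n * (k : G) * n⁻¹ := fun k => rfl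
      let θ'' : Cfsg.IrrCharacter K := ⟨fun k => (θ' : K → ℂ) (e k),
        (Cfsg.Agent.Helper79.isIrrCharacter_mulEquiv e).mpr θ'.2⟩
      have hθ'' : ∀ k : K, (θ'' : K → ℂ) k = (θ' : K → ℂ) (e k) := fun k => rfl
      have h1 : ∀ k : K, ∑ k' : K,
          (if n * (x ^ i * (k : G)) * n⁻¹ = x ^ i' * (k' : G) then
            conj ((θ : K → ℂ) k) * (θ' : K → ℂ) k' else 0)
          = (θ'' : K → ℂ) k * conj ((θ : K → ℂ) k) := by
        intro k
        rw [Finset.sum_eq_single (e k)]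
        · rw [if_pos ((hsplit n k (e k)).mpr ⟨hQ, (he k).symm⟩), hθ'', mul_comm]
        · intro k' _ hk'
          rw [if_neg]
          intro hc
          exact hk' (Subtype.ext (by rw [he]; exact ((hsplit n k k').mp hc).2.symm))
        · intro hne; exact absurd (Finset.mem_univ _) hne
      rw [Finset.sum_congr rfl (fun k _ => h1 k), Cfsg.Agent.Helper80.irr_orthogonality_conj θ'' θ,
        Nat.card_eq_fintype_card]
      have hiff : θ'' = θ ↔ thetaConj K n (θ : K → ℂ) (θ' : K → ℂ) := by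
        constructor
        · intro heq k k' hk'
          have h2 : e k = k' := Subtype.ext (by rw [he]; exact hk'.symm)
          rw [← h2, ← hθ'', heq]
        · intro hth
          apply Subtype.ext
          funext k
          exact hth k (e k) rfl
      by_cases hth : thetaConj K n (θ : K → ℂ) (θ' : K → ℂ)
      · rw [if_pos (hiff.mpr hth), if_pos ⟨hQ, hth⟩]
      · rw [if_neg (fun hc => hth (hiff.mp hc)), if_neg (fun hc => hth hc.2)]
    · rw [if_neg (fun hc => hQ hc.1)]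
      apply Finset.sum_eq_zero
      intro k _
      apply Finset.sum_eq_zero
      intro k' _
      rw [if_neg (fun hc => hQ ((hsplit n k k').mp hc).1)]
  have key : ∑ᶠ χ : Cfsg.IrrCharacter G, dco K (θ : K → ℂ) (χ : G → ℂ) (x ^ i)
        * conj (dco K (θ' : K → ℂ) (χ : G → ℂ) (x ^ i')) = (Nat.card K : ℂ)⁻¹ * (A.card : ℂ) := by
    rw [finsum_eq_sum_of_fintype]
    have h1 : ∀ χ : Cfsg.IrrCharacter G, dco K (θ : K → ℂ) (χ : G → ℂ) (x ^ i)
        * conj (dco K (θ' : K → ℂ) (χ : G → ℂ) (x ^ i'))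
        = ((Nat.card K : ℂ)⁻¹) ^ 2 * ∑ k : K, ∑ k' : K,
          ((χ : G → ℂ) (x ^ i * (k : G)) * conj ((χ : G → ℂ) (x ^ i' * (k' : G))))
            * (conj ((θ : K → ℂ) k) * (θ' : K → ℂ) k') := by
      intro χ
      rw [hd, hd, map_mul, map_inv₀, map_natCast, map_sum]
      simp only [map_mul, Complex.conj_conj]
      rw [mul_mul_mul_comm, Finset.sum_mul_sum, ← sq]
      congr 1
      refine Finset.sum_congr rfl (fun k _ => Finset.sum_congr rfl (fun k' _ => ?_))
      ring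
    rw [Finset.sum_congr rfl (fun χ _ => h1 χ), ← Finset.mul_sum, Finset.sum_comm]
    have h2 : ∀ k : K, ∑ χ : Cfsg.IrrCharacter G, ∑ k' : K,
          ((χ : G → ℂ) (x ^ i * (k : G)) * conj ((χ : G → ℂ) (x ^ i' * (k' : G))))
            * (conj ((θ : K → ℂ) k) * (θ' : K → ℂ) k')
        = ∑ n : G, ∑ k' : K, (if n * (x ^ i * (k : G)) * n⁻¹ = x ^ i' * (k' : G) then
            conj ((θ : K → ℂ) k) * (θ' : K → ℂ) k' else 0) := by
      intro k
      rw [Finset.sum_comm]
      rw [Finset.sum_comm (s := (Finset.univ : Finset G))]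
      refine Finset.sum_congr rfl (fun k' _ => ?_)
      rw [← Finset.sum_mul, Cfsg.Agent.Helper80.irr_sum_mul_conj, Finset.natCast_card_filter,
        Finset.sum_mul]
      refine Finset.sum_congr rfl (fun n _ => ?_)
      split_ifs <;> simp
    rw [Finset.sum_congr rfl (fun k _ => h2 k), Finset.sum_comm,
      Finset.sum_congr rfl (fun n _ => hinner n), hA, Finset.natCast_card_filter, Finset.mul_sum,
      Finset.mul_sum]
    refine Finset.sum_congr rfl (fun n _ => ?_)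
    split_ifs
    · field_simp
    · simp
  constructor
  · rintro ⟨n₁, hn₁, hth⟩
    rw [key]
    have hcard : A.card = p * Nat.card K := by
      let f : Fin p × K → G := fun c => n₁ * x ^ (c.1 : ℕ) * (c.2 : G)
      have hf : Function.Injective f := by
        rintro ⟨j, k⟩ ⟨j', k'⟩ hjk
        have h1 : x ^ (j : ℕ) * (k : G) = x ^ (j' : ℕ) * (k' : G) := by
          have h2 : n₁ * (x ^ (j : ℕ) * (k : G)) = n₁ * (x ^ (j' : ℕ) * (k' : G)) := by
            rw [← mul_assoc, ← mul_assoc]; exact hjk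
          exact mul_left_cancel h2
        have h3 := d1ib_split hcop (Commute.pow_right (hKx k) (j : ℕ)).symm
          (Commute.pow_right (hKx k') (j' : ℕ)).symm
          (by rw [← pow_mul, mul_comm, pow_mul, hxp, one_pow])
          (by rw [← pow_mul, mul_comm, pow_mul, hxp, one_pow]) (hKm k) (hKm k') h1
        have h4 : (j : ℕ) = (j' : ℕ) := by
          apply pow_injOn_Iio_orderOf (x := x)
          · rw [h.hx]; exact j.2
          · rw [h.hx]; exact j'.2
          · exact h3.1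
        exact Prod.ext (Fin.ext h4) (Subtype.ext h3.2)
      have hAimg : A = Finset.univ.image f := by
        ext n
        rw [hA, Finset.mem_filter, Finset.mem_image]
        constructor
        · rintro ⟨-, hn, -⟩
          have hc : (n₁⁻¹ * n) * x ^ i = x ^ i * (n₁⁻¹ * n) := by
            have h5 : n * x ^ i * n⁻¹ = n₁ * x ^ i * n₁⁻¹ := by rw [hn, hn₁]
            calc (n₁⁻¹ * n) * x ^ i = n₁⁻¹ * (n * x ^ i * n⁻¹) * n := by group
              _ = n₁⁻¹ * (n₁ * x ^ i * n₁⁻¹) * n := by rw [h5]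
              _ = x ^ i * (n₁⁻¹ * n) := by group
          obtain ⟨a, k₀, hk₀, hak⟩ := (h.hC _).mp ((d1ib_comm p x h.hx i hi _).mp hc)
          refine ⟨(⟨a % p, Nat.mod_lt _ hp.pos⟩, ⟨k₀, hk₀⟩), Finset.mem_univ _, ?_⟩
          show n₁ * x ^ (a % p) * k₀ = n
          have h6 : x ^ (a % p) = x ^ a := by
            have := pow_mod_orderOf x a
            rwa [h.hx] at this
          rw [h6, mul_assoc, ← hak]; group
        · rintro ⟨⟨j, k₀⟩, -, rfl⟩
          refine ⟨Finset.mem_univ _, ?_, ?_⟩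
          · show n₁ * x ^ (j : ℕ) * (k₀ : G) * x ^ i * (n₁ * x ^ (j : ℕ) * (k₀ : G))⁻¹ = x ^ i'
            have hc : (x ^ (j : ℕ) * (k₀ : G)) * x ^ i = x ^ i * (x ^ (j : ℕ) * (k₀ : G)) :=
              (d1ib_comm p x h.hx i hi _).mpr ((h.hC _).mpr ⟨j, k₀, k₀.2, rfl⟩)
            calc n₁ * x ^ (j : ℕ) * (k₀ : G) * x ^ i * (n₁ * x ^ (j : ℕ) * (k₀ : G))⁻¹
                = n₁ * ((x ^ (j : ℕ) * (k₀ : G)) * x ^ i) * (x ^ (j : ℕ) * (k₀ : G))⁻¹ * n₁⁻¹ := by
                  group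
              _ = n₁ * (x ^ i * (x ^ (j : ℕ) * (k₀ : G))) * (x ^ (j : ℕ) * (k₀ : G))⁻¹ * n₁⁻¹ := by
                  rw [hc]
              _ = n₁ * x ^ i * n₁⁻¹ := by group
              _ = x ^ i' := hn₁
          · intro k k' hk'
            have hcl : (θ : K → ℂ) (k₀ * k * k₀⁻¹) = (θ : K → ℂ) k :=
              Cfsg.Agent.Helper80.isCharacter_conj
                (Cfsg.Agent.Helper80.isCharacter_of_irr θ.2) k k₀
            rw [← hcl]
            apply hth (k₀ * k * k₀⁻¹) k'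
            rw [hk']
            have hxk : x ^ (j : ℕ) * ((k₀ : G) * (k : G) * (k₀ : G)⁻¹)
                = ((k₀ : G) * (k : G) * (k₀ : G)⁻¹) * x ^ (j : ℕ) :=
              (Commute.pow_right (hKx (k₀ * k * k₀⁻¹)) (j : ℕ)).symm
            show n₁ * x ^ (j : ℕ) * (k₀ : G) * (k : G) * (n₁ * x ^ (j : ℕ) * (k₀ : G))⁻¹
              = n₁ * ((k₀ : G) * (k : G) * (k₀ : G)⁻¹) * n₁⁻¹
            calc n₁ * x ^ (j : ℕ) * (k₀ : G) * (k : G) * (n₁ * x ^ (j : ℕ) * (k₀ : G))⁻¹
                = n₁ * (x ^ (j : ℕ) * ((k₀ : G) * (k : G) * (k₀ : G)⁻¹)) * (x ^ (j : ℕ))⁻¹ * n₁⁻¹ := by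
                  group
              _ = n₁ * (((k₀ : G) * (k : G) * (k₀ : G)⁻¹) * x ^ (j : ℕ)) * (x ^ (j : ℕ))⁻¹ * n₁⁻¹ := by
                  rw [hxk]
              _ = n₁ * ((k₀ : G) * (k : G) * (k₀ : G)⁻¹) * n₁⁻¹ := by group
      rw [hAimg, Finset.card_image_of_injective _ hf, Finset.card_univ, Fintype.card_prod,
        Fintype.card_fin, Nat.card_eq_fintype_card]
    rw [hcard]
    push_cast
    field_simp
  · intro hne
    rw [key]
    have hA0 : A = ∅ := by
      rw [hA, Finset.filter_eq_empty_iff]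
      intro n _ hn
      exact hne ⟨n, hn⟩
    rw [hA0, Finset.card_empty, Nat.cast_zero, mul_zero]

end Cfsg.Agent.Helper74
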