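import Cfsg.Agent.Helper79.FrobSchur

/-!
# Helper74: Frobenius–Schur and invariant bilinear forms

For an irreducible matrix representation with real character, the space of invariant bilinear
forms `{M | ∀ g, X(g)ᵀ M X(g) = M}` is one-dimensional and transposition acts on it as the
Frobenius–Schur indicator.
-/

set_option autoImplicit false

namespace Cfsg.Agent.Helper74

open Representation

variable {G : Type*} [Group G]

/-- The representation of `G` on `n × n` matrices, `M ↦ X(g⁻¹)ᵀ M X(g⁻¹)`. -/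
noncomputable def formRep {n : ℕ} (ρ : Representation ℂ G (Fin n → ℂ)) :
    Representation ℂ G (Matrix (Fin n) (Fin n) ℂ) where
  toFun g :=
    { toFun := fun M => (LinearMap.toMatrix' (ρ g⁻¹)).transpose * M * LinearMap.toMatrix' (ρ g⁻¹)
      map_add' := fun M N => by rw [Matrix.mul_add, Matrix.add_mul]
      map_smul' := fun c M => by simp }
  map_one' := by
    ext M : 1
    simp
  map_mul' := fun g h => by
    ext M : 1
    simp only [LinearMap.coe_mk, AddHom.coe_mk, Module.End.mul_apply, mul_inv_rev, map_mul]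
    rw [Module.End.mul_eq_comp, LinearMap.toMatrix'_comp, Matrix.transpose_mul]
    simp only [Matrix.mul_assoc]

theorem formRep_apply {n : ℕ} (ρ : Representation ℂ G (Fin n → ℂ)) (g : G)
    (M : Matrix (Fin n) (Fin n) ℂ) :
    formRep ρ g M =
      (LinearMap.toMatrix' (ρ g⁻¹)).transpose * M * LinearMap.toMatrix' (ρ g⁻¹) := rfl

theorem mul_single_mul_apply {n : ℕ} (A B : Matrix (Fin n) (Fin n) ℂ) (i j k l : Fin n) :
    (A * Matrix.single i j (1 : ℂ) * B) k l = A k i * B j l := by
  classical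
  rw [Matrix.mul_apply]
  have h1 : ∀ x, (A * Matrix.single i j (1 : ℂ)) k x = if j = x then A k i else 0 := by
    intro x
    rw [Matrix.mul_apply]
    simp [Matrix.single_apply, ite_and]
  simp [h1]

/-- Trace of `M ↦ A M B` on the matrix space. -/
theorem trace_mul_mul {n : ℕ} (A B : Matrix (Fin n) (Fin n) ℂ)
    (f : Matrix (Fin n) (Fin n) ℂ →ₗ[ℂ] Matrix (Fin n) (Fin n) ℂ)
    (hf : ∀ M, f M = A * M * B) :
    LinearMap.trace ℂ _ f = A.trace * B.trace := by
  classical
  rw [LinearMap.trace_eq_matrix_trace ℂ (Matrix.stdBasis ℂ (Fin n) (Fin n)), Matrix.trace,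
    Fintype.sum_prod_type, Matrix.trace, Matrix.trace, Finset.sum_mul_sum]
  refine Finset.sum_congr rfl fun i _ => Finset.sum_congr rfl fun j _ => ?_
  rw [Matrix.diag_apply, LinearMap.toMatrix_apply, hf, Matrix.stdBasis_eq_single]
  have h2 : ∀ N : Matrix (Fin n) (Fin n) ℂ,
      (Matrix.stdBasis ℂ (Fin n) (Fin n)).repr N (i, j) = N i j := by
    intro N
    simp [Matrix.stdBasis]
  rw [h2, mul_single_mul_apply, Matrix.diag_apply, Matrix.diag_apply]

/-- Trace of `M ↦ (A M B)ᵀ` on the matrix space. -/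
theorem trace_transpose_mul_mul {n : ℕ} (A B : Matrix (Fin n) (Fin n) ℂ)
    (f : Matrix (Fin n) (Fin n) ℂ →ₗ[ℂ] Matrix (Fin n) (Fin n) ℂ)
    (hf : ∀ M, f M = (A * M * B).transpose) :
    LinearMap.trace ℂ _ f = (A * B.transpose).trace := by
  classical
  rw [LinearMap.trace_eq_matrix_trace ℂ (Matrix.stdBasis ℂ (Fin n) (Fin n)), Matrix.trace,
    Fintype.sum_prod_type, Matrix.trace, Finset.sum_comm]
  refine Finset.sum_congr rfl fun i _ => ?_
  rw [Matrix.diag_apply, Matrix.mul_apply]
  refine Finset.sum_congr rfl fun j _ => ?_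
  rw [Matrix.diag_apply, LinearMap.toMatrix_apply, hf, Matrix.stdBasis_eq_single]
  have h2 : ∀ N : Matrix (Fin n) (Fin n) ℂ,
      (Matrix.stdBasis ℂ (Fin n) (Fin n)).repr N (j, i) = N j i := by
    intro N
    simp [Matrix.stdBasis]
  rw [h2, Matrix.transpose_apply, mul_single_mul_apply, Matrix.transpose_apply]

theorem trace_toMatrix' {n : ℕ} (f : (Fin n → ℂ) →ₗ[ℂ] (Fin n → ℂ)) :
    (LinearMap.toMatrix' f).trace = LinearMap.trace ℂ _ f := by
  rw [LinearMap.trace_eq_matrix_trace ℂ (Pi.basisFun ℂ (Fin n)), LinearMap.toMatrix_eq_toMatrix']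

theorem formRep_character {n : ℕ} (ρ : Representation ℂ G (Fin n → ℂ)) (g : G) :
    (formRep ρ).character g = ρ.character g⁻¹ * ρ.character g⁻¹ := by
  unfold Representation.character
  rw [trace_mul_mul _ _ (formRep ρ g) (fun M => rfl), Matrix.trace_transpose, trace_toMatrix']

theorem trace_transpose_formRep {n : ℕ} (ρ : Representation ℂ G (Fin n → ℂ)) (g : G) :
    LinearMap.trace ℂ _ ((Matrix.transposeLinearEquiv (Fin n) (Fin n) ℂ ℂ).toLinearMap ∘ₗ
      formRep ρ g) = ρ.character (g⁻¹ * g⁻¹) := by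
  rw [trace_transpose_mul_mul _ _ _ (fun M => rfl),
    ← Matrix.transpose_mul, Matrix.trace_transpose, ← LinearMap.toMatrix'_comp, trace_toMatrix']
  unfold Representation.character
  rw [map_mul]
  rfl

/-- **Frobenius–Schur, bilinear form version.** -/
theorem invariant_form_transpose [Fintype G] {n : ℕ} (ρ : Representation ℂ G (Fin n → ℂ))
    (hirr : ρ.IsIrreducible) (hreal : ∀ g : G, (ρ.character g).im = 0) :
    (∃ M : Matrix (Fin n) (Fin n) ℂ, M ≠ 0 ∧ ∀ g : G,
      (LinearMap.toMatrix' (ρ g)).transpose * M * LinearMap.toMatrix' (ρ g) = M) ∧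
    ∀ M : Matrix (Fin n) (Fin n) ℂ,
      (∀ g : G, (LinearMap.toMatrix' (ρ g)).transpose * M * LinearMap.toMatrix' (ρ g) = M) →
      M.transpose = ((Nat.card G : ℂ)⁻¹ * ∑ s : G, ρ.character (s * s)) • M := by
  classical
  have hcard : (Nat.card G : ℂ) ≠ 0 := by exact_mod_cast Nat.card_pos.ne'
  let _i1 : Invertible (Nat.card G : ℂ) := invertibleOfNonzero hcard
  let _i2 : Invertible (Fintype.card G : ℂ) :=
    invertibleOfNonzero (by rw [Fintype.card_eq_nat_card]; exact hcard)
  set σ : Representation ℂ G (Matrix (Fin n) (Fin n) ℂ) := formRep ρ with hσ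
  set T : Module.End ℂ (Matrix (Fin n) (Fin n) ℂ) :=
    (Matrix.transposeLinearEquiv (Fin n) (Fin n) ℂ ℂ).toLinearMap with hT
  set ν := (Nat.card G : ℂ)⁻¹ * ∑ s : G, ρ.character (s * s) with hν
  have hTapp : ∀ M, T M = M.transpose := fun M => rfl
  -- invariance
  have hinv : ∀ M : Matrix (Fin n) (Fin n) ℂ, M ∈ invariants σ ↔
      ∀ g : G, (LinearMap.toMatrix' (ρ g)).transpose * M * LinearMap.toMatrix' (ρ g) = M := by
    intro M
    constructor
    · intro h g
      have := h g⁻¹
      rw [hσ, formRep_apply, inv_inv] at this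
      exact this
    · intro h g
      rw [hσ, formRep_apply]
      exact h g⁻¹
  -- ν as a trace
  have hνtr : LinearMap.trace ℂ _ (T ∘ₗ averageMap σ) = ν := by
    show LinearMap.trace ℂ _ (T * averageMap σ) = ν
    rw [Helper79.averageMap_eq_sum, mul_smul_comm, Finset.mul_sum, map_smul, map_sum, hν,
      smul_eq_mul]
    congr 1
    rw [← Equiv.sum_comp (Equiv.inv G)]
    refine Finset.sum_congr rfl fun g _ => ?_
    have := trace_transpose_formRep ρ g⁻¹
    rw [inv_inv] at this
    exact this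
  -- dimension of the invariants
  have hd : (Module.finrank ℂ (invariants σ) : ℂ) = 1 := by
    rw [← card_inv_mul_sum_char_eq_finrank σ, ← (Helper79.sum_char_sq ρ hirr).1 hreal]
    congr 1
    rw [← Equiv.sum_comp (Equiv.inv G)]
    refine Finset.sum_congr rfl fun g _ => ?_
    rw [hσ, formRep_character]
    simp
  have hfin : Module.finrank ℂ (invariants σ) = 1 := by exact_mod_cast hd
  have hTT : ∀ w, T (T w) = w := fun w => by rw [hTapp, hTapp, Matrix.transpose_transpose]
  have hTinv : ∀ w ∈ invariants σ, T w ∈ invariants σ := by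
    intro w hw
    rw [hinv] at hw ⊢
    intro g
    have := congrArg Matrix.transpose (hw g)
    rw [Matrix.transpose_mul, Matrix.transpose_mul, Matrix.transpose_transpose,
      ← Matrix.mul_assoc] at this
    rw [hTapp]
    exact this
  have hproj := isProj_averageMap σ
  obtain ⟨M₀, hM₀, hspan⟩ := (finrank_eq_one_iff' (K := ℂ) (V := invariants σ)).mp hfin
  obtain ⟨ε, hε⟩ := hspan ⟨T M₀, hTinv _ M₀.2⟩
  have hε' : T (M₀ : Matrix (Fin n) (Fin n) ℂ) = ε • (M₀ : _) := by
    have := congrArg Subtype.val hε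
    simpa using this.symm
  have hM₀' : (M₀ : Matrix (Fin n) (Fin n) ℂ) ≠ 0 := fun h => hM₀ (Subtype.ext h)
  have hTP : T ∘ₗ averageMap σ = ε • averageMap σ := by
    refine LinearMap.ext fun w => ?_
    simp only [LinearMap.comp_apply, LinearMap.smul_apply]
    obtain ⟨c, hc⟩ := hspan ⟨averageMap σ w, hproj.map_mem w⟩
    have hc' : averageMap σ w = c • (M₀ : Matrix (Fin n) (Fin n) ℂ) := by
      have := congrArg Subtype.val hc
      simpa using this.symm
    rw [hc', map_smul, hε', smul_comm]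
  have hνε : ν = ε := by
    rw [← hνtr, hTP, map_smul, hproj.trace, hfin]
    simp
  refine ⟨⟨M₀, hM₀', (hinv _).mp M₀.2⟩, fun M hM => ?_⟩
  obtain ⟨c, hc⟩ := hspan ⟨M, (hinv M).mpr hM⟩
  have hc' : M = c • (M₀ : Matrix (Fin n) (Fin n) ℂ) := by
    have := congrArg Subtype.val hc
    simpa using this.symm
  rw [hνε, ← hTapp, hc', map_smul, hε', smul_comm]

end Cfsg.Agent.Helper74
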