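import Cfsg.Agent.Helper74.RealForm

/-!
# Helper74: indicator one implies realizable over the reals

A complex matrix representation `X` with a matrix `A` such that `A Ā = 1` and `X A = A X̄`
is conjugate to a real representation (Hilbert 90 for `GL_n(ℂ)/GL_n(ℝ)`).  For an irreducible
representation with a symmetric invariant bilinear form such an `A` exists.
-/

set_option autoImplicit false

namespace Cfsg.Agent.Helper74

open Representation

open scoped ComplexOrder

variable {G : Type*} [Group G]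

/-- Entrywise complex conjugation of square matrices, as a ring homomorphism. -/
noncomputable abbrev cj {n : ℕ} : Matrix (Fin n) (Fin n) ℂ →+* Matrix (Fin n) (Fin n) ℂ :=
  (starRingEnd ℂ).mapMatrix

theorem cj_cj {n : ℕ} (A : Matrix (Fin n) (Fin n) ℂ) : cj (cj A) = A := by
  ext i j
  simp [cj]

theorem cj_transpose {n : ℕ} (A : Matrix (Fin n) (Fin n) ℂ) :
    cj A.transpose = A.conjTranspose := by
  ext i j
  simp [cj]

theorem cj_smul {n : ℕ} (z : ℂ) (A : Matrix (Fin n) (Fin n) ℂ) :
    cj (z • A) = (starRingEnd ℂ z) • cj A := by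
  ext i j
  simp [cj]

/-- Hilbert 90: a matrix `A` with `A Ā = 1` is of the form `P P̄⁻¹`; consequently a matrix
representation conjugated to its complex conjugate by `A` is equivalent to a real one. -/
theorem exists_real_of_conj {n : ℕ} (X : G → Matrix (Fin n) (Fin n) ℂ)
    (hmul : ∀ g h, X (g * h) = X g * X h) (h1 : X 1 = 1)
    (A : Matrix (Fin n) (Fin n) ℂ) (hA : A * cj A = 1)
    (hXA : ∀ g, X g * A = A * cj (X g)) :
    ∃ ρ : Representation ℝ G (Fin n → ℝ),
      ∀ g, ((LinearMap.trace ℝ (Fin n → ℝ) (ρ g) : ℝ) : ℂ) = (X g).trace := by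
  classical
  have hA' : cj A * A = 1 := by
    have := congrArg cj hA
    rwa [map_mul, cj_cj, map_one] at this
  set P₁ : Matrix (Fin n) (Fin n) ℂ := 1 + A with hP₁
  set P₂ : Matrix (Fin n) (Fin n) ℂ := Complex.I • (1 - A) with hP₂
  have hP : ∀ t : ℝ, A * cj (P₁ + (t : ℂ) • P₂) = P₁ + (t : ℂ) • P₂ := by
    intro t
    rw [hP₁, hP₂, map_add, map_add, map_one, cj_smul, cj_smul, map_sub, map_one,
      Complex.conj_ofReal, Complex.conj_I, mul_add, mul_add, mul_one, hA, Matrix.mul_smul,
      Matrix.mul_smul, mul_sub, mul_one, hA]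
    module
  -- the determinant polynomial
  set MP : Matrix (Fin n) (Fin n) (Polynomial ℂ) :=
    (Polynomial.C : ℂ →+* Polynomial ℂ).mapMatrix P₁ +
      (Polynomial.X : Polynomial ℂ) • (Polynomial.C : ℂ →+* Polynomial ℂ).mapMatrix P₂ with hMP
  set p : Polynomial ℂ := MP.det with hp
  have heval : ∀ z : ℂ, p.eval z = (P₁ + z • P₂).det := by
    intro z
    have e1 := RingHom.map_det (Polynomial.evalRingHom z) MP
    have e2 : (Polynomial.evalRingHom z).mapMatrix MP = P₁ + z • P₂ := by
      ext i j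
      simp [hMP]
      exact mul_comm _ _
    rw [e2] at e1
    exact e1
  have hp0 : p ≠ 0 := by
    intro h0
    have e1 := heval (-Complex.I)
    rw [h0, Polynomial.eval_zero] at e1
    have e2 : P₁ + (-Complex.I) • P₂ = (2 : ℂ) • (1 : Matrix (Fin n) (Fin n) ℂ) := by
      rw [hP₁, hP₂, smul_smul]
      have : -Complex.I * Complex.I = 1 := by rw [neg_mul, Complex.I_mul_I, neg_neg]
      rw [this]
      module
    rw [e2, Matrix.det_smul, Matrix.det_one, mul_one] at e1
    exact pow_ne_zero _ two_ne_zero e1.symm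
  obtain ⟨t, ht⟩ : ∃ t : ℝ, p.eval (t : ℂ) ≠ 0 := by
    by_contra hcon
    push Not at hcon
    apply hp0
    apply Polynomial.eq_zero_of_infinite_isRoot
    apply Set.Infinite.mono (s := Set.range (Complex.ofReal))
    · rintro _ ⟨t, rfl⟩
      exact hcon t
    · exact Set.infinite_range_of_injective Complex.ofReal_injective
  rw [heval] at ht
  set P : Matrix (Fin n) (Fin n) ℂ := P₁ + (t : ℂ) • P₂ with hPdef
  have hPu : IsUnit P.det := isUnit_iff_ne_zero.mpr ht
  set Q : Matrix (Fin n) (Fin n) ℂ := P⁻¹ with hQ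
  have hQP : Q * P = 1 := Matrix.nonsing_inv_mul _ hPu
  have hPQ : P * Q = 1 := Matrix.mul_nonsing_inv _ hPu
  have hAP : A * cj P = P := hP t
  have hcjQ : cj Q = Q * A := by
    have e1 : cj P * cj Q = 1 := by rw [← map_mul, hPQ, map_one]
    calc cj Q = (Q * P) * cj Q := by rw [hQP, one_mul]
      _ = Q * (A * cj P) * cj Q := by rw [hAP]
      _ = Q * A * (cj P * cj Q) := by simp only [Matrix.mul_assoc]
      _ = Q * A := by rw [e1, mul_one]
  set Y : G → Matrix (Fin n) (Fin n) ℂ := fun g => Q * X g * P with hY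
  have hcjY : ∀ g, cj (Y g) = Y g := by
    intro g
    simp only [hY]
    rw [map_mul, map_mul, hcjQ]
    calc Q * A * cj (X g) * cj P = Q * (A * cj (X g)) * cj P := by simp only [Matrix.mul_assoc]
      _ = Q * (X g * A) * cj P := by rw [hXA]
      _ = Q * X g * (A * cj P) := by simp only [Matrix.mul_assoc]
      _ = Q * X g * P := by rw [hAP]
  have hYmul : ∀ g h, Y (g * h) = Y g * Y h := by
    intro g h
    simp only [hY]
    calc Q * X (g * h) * P = Q * X g * 1 * X h * P := by rw [hmul, mul_one]; simp only [Matrix.mul_assoc]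
      _ = Q * X g * P * (Q * X h * P) := by rw [← hPQ]; simp only [Matrix.mul_assoc]
  have hY1 : Y 1 = 1 := by
    simp only [hY]
    rw [h1, mul_one, hQP]
  set Z : G → Matrix (Fin n) (Fin n) ℝ := fun g => (Y g).map Complex.re with hZ
  have hZY : ∀ g, Complex.ofRealHom.mapMatrix (Z g) = Y g := by
    intro g
    ext i j
    have e1 : (starRingEnd ℂ) (Y g i j) = Y g i j := by
      have := congrFun (congrFun (hcjY g) i) j
      simpa [cj] using this
    have e2 := Complex.conj_eq_iff_re.mp e1
    simpa [hZ] using e2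
  have hinj : Function.Injective
      (Complex.ofRealHom.mapMatrix : Matrix (Fin n) (Fin n) ℝ → Matrix (Fin n) (Fin n) ℂ) := by
    intro M N hMN
    ext i j
    have := congrFun (congrFun hMN i) j
    simpa using this
  have hZmul : ∀ g h, Z (g * h) = Z g * Z h := by
    intro g h
    apply hinj
    rw [map_mul, hZY, hZY, hZY, hYmul]
  have hZ1 : Z 1 = 1 := by
    apply hinj
    rw [hZY, hY1, map_one]
  refine ⟨{ toFun := fun g => Matrix.toLin' (Z g)
            map_one' := by rw [hZ1, Matrix.toLin'_one]; rfl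
            map_mul' := fun g h => by rw [hZmul, Matrix.toLin'_mul]; rfl }, fun g => ?_⟩
  show ((LinearMap.trace ℝ (Fin n → ℝ) (Matrix.toLin' (Z g)) : ℝ) : ℂ) = _
  rw [LinearMap.trace_eq_matrix_trace ℝ (Pi.basisFun ℝ (Fin n)), LinearMap.toMatrix_eq_toMatrix',
    LinearMap.toMatrix'_toLin']
  have e1 : (((Z g).trace : ℝ) : ℂ) = (Complex.ofRealHom.mapMatrix (Z g)).trace := by
    simp [Matrix.trace]
  rw [e1, hZY]
  simp only [hY]
  rw [Matrix.trace_mul_cycle, hPQ, one_mul]

/-- For an irreducible matrix representation with a nonzero symmetric invariant bilinear form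
there is `A` with `A Ā = 1` and `X A = A X̄`. -/
theorem exists_conj_intertwiner [Fintype G] {n : ℕ} (ρ : Representation ℂ G (Fin n → ℂ))
    (hirr : ρ.IsIrreducible) (M : Matrix (Fin n) (Fin n) ℂ) (hM0 : M ≠ 0)
    (hMsymm : M.transpose = M)
    (hMinv : ∀ g : G,
      (LinearMap.toMatrix' (ρ g)).transpose * M * LinearMap.toMatrix' (ρ g) = M) :
    ∃ A : Matrix (Fin n) (Fin n) ℂ, A * cj A = 1 ∧
      ∀ g : G, LinearMap.toMatrix' (ρ g) * A = A * cj (LinearMap.toMatrix' (ρ g)) := by
  classical
  have _inst := hirr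
  set X : G → Matrix (Fin n) (Fin n) ℂ := fun g => LinearMap.toMatrix' (ρ g) with hX
  have hXmul : ∀ g h, X (g * h) = X g * X h := fun g h => by
    simp only [hX]
    rw [map_mul, Module.End.mul_eq_comp, LinearMap.toMatrix'_comp]
  have hX1 : X 1 = 1 := by
    simp only [hX]
    rw [map_one, LinearMap.toMatrix'_one]
  have hXinv : ∀ g, X g⁻¹ * X g = 1 := fun g => by rw [← hXmul, inv_mul_cancel, hX1]
  have hMinv' : ∀ g : G, (X g).transpose * M * X g = M := hMinv
  -- the invariant Hermitian form
  set H : Matrix (Fin n) (Fin n) ℂ := ∑ g : G, (X g).conjTranspose * X g with hH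
  have hHinv : ∀ h : G, (X h).conjTranspose * H * X h = H := by
    intro h
    rw [hH, Finset.mul_sum, Finset.sum_mul]
    rw [← Equiv.sum_comp (Equiv.mulRight h) (fun g => (X g).conjTranspose * X g)]
    refine Finset.sum_congr rfl fun g _ => ?_
    simp only [Equiv.coe_mulRight, hXmul, Matrix.conjTranspose_mul, Matrix.mul_assoc]
  have hXinj : ∀ g, Function.Injective (X g).mulVec := by
    intro g
    apply Function.LeftInverse.injective (g := (X g⁻¹).mulVec)
    intro u
    rw [Matrix.mulVec_mulVec, hXinv, Matrix.one_mulVec]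
  have hHpd : H.PosDef :=
    Matrix.posDef_sum Finset.univ_nonempty
      (fun g _ => Matrix.PosDef.conjTranspose_mul_self (X g) (hXinj g))
  have hHunit : IsUnit H.det := (Matrix.isUnit_iff_isUnit_det _).mp hHpd.isUnit
  set K : Matrix (Fin n) (Fin n) ℂ := H⁻¹ with hK
  have hKH : K * H = 1 := Matrix.nonsing_inv_mul _ hHunit
  have hHK : H * K = 1 := Matrix.mul_nonsing_inv _ hHunit
  have ha : ∀ g, (X g⁻¹).conjTranspose * H = H * X g := by
    intro g
    calc (X g⁻¹).conjTranspose * H = (X g⁻¹).conjTranspose * H * (X g⁻¹ * X g) := by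
          rw [hXinv, mul_one]
      _ = ((X g⁻¹).conjTranspose * H * X g⁻¹) * X g := by simp only [Matrix.mul_assoc]
      _ = H * X g := by rw [hHinv]
  have hb : ∀ g, X g * K = K * (X g⁻¹).conjTranspose := by
    intro g
    calc X g * K = (K * H) * X g * K := by rw [hKH, one_mul]
      _ = K * (H * X g) * K := by simp only [Matrix.mul_assoc]
      _ = K * ((X g⁻¹).conjTranspose * H) * K := by rw [ha]
      _ = K * (X g⁻¹).conjTranspose * (H * K) := by simp only [Matrix.mul_assoc]
      _ = K * (X g⁻¹).conjTranspose := by rw [hHK, mul_one]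
  have hc : ∀ g, (X g⁻¹).transpose * M = M * X g := by
    intro g
    calc (X g⁻¹).transpose * M = (X g⁻¹).transpose * M * (X g⁻¹ * X g) := by
          rw [hXinv, mul_one]
      _ = ((X g⁻¹).transpose * M * X g⁻¹) * X g := by simp only [Matrix.mul_assoc]
      _ = M * X g := by rw [hMinv']
  have hd : ∀ g, cj M * cj (X g) = (X g⁻¹).conjTranspose * cj M := by
    intro g
    rw [← map_mul, ← hc, map_mul, cj_transpose]
  set A₁ : Matrix (Fin n) (Fin n) ℂ := K * cj M with hA₁
  have he : ∀ g, X g * A₁ = A₁ * cj (X g) := by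
    intro g
    calc X g * A₁ = (X g * K) * cj M := by rw [hA₁]; simp only [Matrix.mul_assoc]
      _ = K * ((X g⁻¹).conjTranspose * cj M) := by rw [hb]; simp only [Matrix.mul_assoc]
      _ = A₁ * cj (X g) := by rw [← hd, hA₁]; simp only [Matrix.mul_assoc]
  set T : Matrix (Fin n) (Fin n) ℂ := A₁ * cj A₁ with hT
  have hf : ∀ g, T * X g = X g * T := by
    intro g
    calc T * X g = A₁ * cj (A₁ * cj (X g)) := by
          rw [map_mul, cj_cj, hT]; simp only [Matrix.mul_assoc]
      _ = A₁ * cj (X g * A₁) := by rw [he]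
      _ = (A₁ * cj (X g)) * cj A₁ := by rw [map_mul]; simp only [Matrix.mul_assoc]
      _ = X g * T := by rw [← he, hT]; simp only [Matrix.mul_assoc]
  -- Schur
  obtain ⟨c, hcT⟩ := Helper80.schur_scalar ρ (Matrix.toLin' T) (fun g => by
    have e1 : ρ g = Matrix.toLin' (X g) := (Matrix.toLin'_toMatrix' (ρ g)).symm
    rw [e1, Module.End.mul_eq_comp, Module.End.mul_eq_comp, ← Matrix.toLin'_mul,
      ← Matrix.toLin'_mul, hf])
  have hTc : T = c • (1 : Matrix (Fin n) (Fin n) ℂ) := by
    have := congrArg LinearMap.toMatrix' hcT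
    rw [LinearMap.toMatrix'_toLin'] at this
    rw [this]
    ext i j
    simp [Matrix.one_apply, LinearMap.toMatrix'_apply, Pi.single_apply]
  -- positivity
  have hcjM : cj M = M.conjTranspose := by rw [← cj_transpose, hMsymm]
  have hKpd : K.PosDef := hHpd.inv
  have hcjK : cj K = K.transpose := by
    have h1 : K.conjTranspose = K := hKpd.isHermitian
    ext i j
    have := congrFun (congrFun h1 j) i
    simpa [cj] using this
  have hKT : K.transpose.PosDef := hKpd.transpose
  have hHT : c • H = M.conjTranspose * K.transpose * M := by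
    calc c • H = H * T := by rw [hTc, Matrix.mul_smul, mul_one]
      _ = (H * K) * cj M * (cj K * cj (cj M)) := by
          rw [hT, hA₁, map_mul]; simp only [Matrix.mul_assoc]
      _ = M.conjTranspose * K.transpose * M := by
          rw [hHK, one_mul, cj_cj, hcjK, hcjM]; simp only [Matrix.mul_assoc]
  obtain ⟨u, hu⟩ : ∃ u : Fin n → ℂ, M.mulVec u ≠ 0 := by
    by_contra hall
    push Not at hall
    apply hM0
    ext i j
    have := congrFun (hall (Pi.single j 1)) i
    simpa [Matrix.mulVec_single_one] using this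
  have hu0 : u ≠ 0 := by
    rintro rfl
    exact hu (Matrix.mulVec_zero _)
  have hapos : 0 < star u ⬝ᵥ (H.mulVec u) := hHpd.dotProduct_mulVec_pos hu0
  have hbpos : 0 < star u ⬝ᵥ ((M.conjTranspose * K.transpose * M).mulVec u) := by
    simpa only [Matrix.star_mulVec, Matrix.dotProduct_mulVec, Matrix.vecMul_vecMul] using
      hKT.dotProduct_mulVec_pos hu
  rw [← hHT, Matrix.smul_mulVec, dotProduct_smul, smul_eq_mul] at hbpos
  set a := star u ⬝ᵥ (H.mulVec u) with ha_def
  obtain ⟨ha1, ha2⟩ := Complex.pos_iff.mp hapos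
  obtain ⟨hb1, hb2⟩ := Complex.pos_iff.mp hbpos
  have hare : a = (a.re : ℂ) := by
    apply Complex.ext
    · simp
    · simp [ha2.symm]
  have hcim : c.im = 0 := by
    rw [hare] at hb2
    have : (c * (a.re : ℂ)).im = c.im * a.re := by simp
    rw [this] at hb2
    rcases mul_eq_zero.mp hb2.symm with h | h
    · exact h
    · exact absurd h ha1.ne'
  have hcre : 0 < c.re := by
    rw [hare] at hb1
    have : (c * (a.re : ℂ)).re = c.re * a.re := by simp
    rw [this] at hb1
    exact (mul_pos_iff_of_pos_right ha1).mp hb1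
  have hcc : c = (c.re : ℂ) := by
    apply Complex.ext
    · simp
    · simp [hcim]
  set s : ℝ := Real.sqrt c.re with hs
  have hspos : 0 < s := Real.sqrt_pos.mpr hcre
  have hss : s * s = c.re := Real.mul_self_sqrt hcre.le
  refine ⟨((s⁻¹ : ℝ) : ℂ) • A₁, ?_, fun g => ?_⟩
  · rw [cj_smul, Complex.conj_ofReal, Matrix.smul_mul, Matrix.mul_smul, smul_smul]
    show _ • T = 1
    rw [hTc, smul_smul, hcc, ← hss]
    have : ((s⁻¹ : ℝ) : ℂ) * ((s⁻¹ : ℝ) : ℂ) * ((s * s : ℝ) : ℂ) = 1 := by
      have hs0 : (s : ℂ) ≠ 0 := by exact_mod_cast hspos.ne'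
      push_cast
      field_simp
    rw [this, one_smul]
  · show X g * _ = _ * cj (X g)
    rw [Matrix.mul_smul, he, Matrix.smul_mul]

/-- An irreducible character with Frobenius–Schur indicator `1` is afforded by a real
representation. -/
theorem exists_real_of_indicator_eq_one [Fintype G] (χ : Cfsg.IrrCharacter G)
    (hν : (Nat.card G : ℂ)⁻¹ * ∑ s : G, (χ : G → ℂ) (s * s) = 1) :
    ∃ (n : ℕ) (ρ : Representation ℝ G (Fin n → ℝ)),
      ∀ g : G, ((LinearMap.trace ℝ (Fin n → ℝ) (ρ g) : ℝ) : ℂ) = (χ : G → ℂ) g := by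
  classical
  obtain ⟨n, ρ, hirr, hχ⟩ := χ.2
  have hreal : ∀ g : G, (ρ.character g).im = 0 := by
    intro g
    rw [hχ]
    exact Complex.conj_eq_iff_im.mp
      (Helper79.irr_real_of_indicator_ne_zero χ.2 (by rw [hν]; exact one_ne_zero) g)
  obtain ⟨⟨M, hM0, hMinv⟩, hall⟩ := invariant_form_transpose ρ hirr hreal
  have hMsymm : M.transpose = M := by
    have := hall M hMinv
    rw [hχ, hν, one_smul] at this
    exact this
  obtain ⟨A, hA, hXA⟩ := exists_conj_intertwiner ρ hirr M hM0 hMsymm hMinv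
  obtain ⟨ρr, hρr⟩ := exists_real_of_conj (fun g => LinearMap.toMatrix' (ρ g))
    (fun g h => by
      show LinearMap.toMatrix' (ρ (g * h)) = _
      rw [map_mul, Module.End.mul_eq_comp, LinearMap.toMatrix'_comp])
    (by
      show LinearMap.toMatrix' (ρ 1) = 1
      rw [map_one, LinearMap.toMatrix'_one]) A hA hXA
  refine ⟨n, ρr, fun g => ?_⟩
  rw [hρr g, trace_toMatrix', ← hχ]
  rfl

end Cfsg.Agent.Helper74
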