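import Mathlib
import Cfsg.Prelude.Def_OddOrderLocal

/-! CALL S1435 (helper23), piece FIN2. -/

set_option autoImplicit false

namespace Cfsg.Agent.Helper74

open Cfsg Subgroup

open scoped commutatorElement

universe u

variable {G : Type u} [Group G] [Finite G] {M K U Mstar H : Subgroup G}

/-- FIN2 (pure). A cyclic subgroup `K ≤ E` centralizing the abelian group `[E, E]` lies in
`F(E)` (`K [E, E]` is an abelian normal subgroup of `E`). -/
theorem bg65_le_fitting {E K : Subgroup G} (hKE : K ≤ E) (hKc : IsCyclic K)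
    (hE' : ∀ a ∈ ⁅E, E⁆, ∀ b ∈ ⁅E, E⁆, a * b = b * a)
    (hcent : ∀ k ∈ K, ∀ a ∈ ⁅E, E⁆, k * a = a * k) : K ≤ fittingOf E := by
  -- `K` is abelian
  have hKab : ∀ a ∈ K, ∀ b ∈ K, a * b = b * a := by
    intro a ha b hb
    obtain ⟨g, hg⟩ := hKc.exists_generator
    obtain ⟨i, hi⟩ := Subgroup.mem_zpowers_iff.1 (hg ⟨a, ha⟩)
    obtain ⟨j, hj⟩ := Subgroup.mem_zpowers_iff.1 (hg ⟨b, hb⟩)
    have h1 : a = (g : G) ^ i := by
      have := congrArg Subtype.val hi
      simpa using this.symm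
    have h2 : b = (g : G) ^ j := by
      have := congrArg Subtype.val hj
      simpa using this.symm
    rw [h1, h2, ← zpow_add, ← zpow_add, add_comm]
  -- the generating set of `K ⊔ [E, E]` is pairwise commuting
  have hT : ∀ x ∈ ((K : Set G) ∪ ((⁅E, E⁆ : Subgroup G) : Set G)),
      ∀ y ∈ ((K : Set G) ∪ ((⁅E, E⁆ : Subgroup G) : Set G)), x * y = y * x := by
    rintro x (hx | hx) y (hy | hy)
    · exact hKab x hx y hy
    · exact hcent x hx y hy
    · exact (hcent y hy x hx).symm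
    · exact hE' x hx y hy
  have hsup : K ⊔ ⁅E, E⁆ = closure ((K : Set G) ∪ ((⁅E, E⁆ : Subgroup G) : Set G)) := by
    rw [Subgroup.closure_union, Subgroup.closure_eq, Subgroup.closure_eq]
  have h1 : K ⊔ ⁅E, E⁆ ≤ centralizer ((K : Set G) ∪ ((⁅E, E⁆ : Subgroup G) : Set G)) := by
    rw [hsup, Subgroup.closure_le]
    intro x hx
    rw [SetLike.mem_coe, Subgroup.mem_centralizer_iff]
    intro y hy
    exact hT y hy x hx
  have hcomm : ∀ x ∈ K ⊔ ⁅E, E⁆, ∀ y ∈ K ⊔ ⁅E, E⁆, x * y = y * x := by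
    intro x hx
    have h2 : K ⊔ ⁅E, E⁆ ≤ centralizer ({x} : Set G) := by
      rw [hsup, Subgroup.closure_le]
      intro y hy
      rw [SetLike.mem_coe, Subgroup.mem_centralizer_iff]
      intro z hz
      rw [Set.mem_singleton_iff] at hz
      subst hz
      have := h1 hx
      rw [Subgroup.mem_centralizer_iff] at this
      exact (this y hy).symm
    intro y hy
    have := h2 hy
    rw [Subgroup.mem_centralizer_iff] at this
    exact this x rfl
  -- the normal abelian subgroup `N = K [E, E]` of `E`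
  have hNn : ((K ⊔ ⁅E, E⁆).subgroupOf E).Normal := by
    constructor
    intro n hn e
    rw [Subgroup.mem_subgroupOf] at hn ⊢
    have h3 : ((e * n * e⁻¹ : ↥E) : G) = ⁅(e : G), (n : G)⁆ * (n : G) := by
      simp [commutatorElement_def]
    rw [h3]
    exact mul_mem ((le_sup_right : ⁅E, E⁆ ≤ K ⊔ ⁅E, E⁆)
      (Subgroup.commutator_mem_commutator e.2 n.2)) hn
  have hNnil : Group.IsNilpotent ↥((K ⊔ ⁅E, E⁆).subgroupOf E) := by
    let _ : CommGroup ↥((K ⊔ ⁅E, E⁆).subgroupOf E) :=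
      { (inferInstance : Group ↥((K ⊔ ⁅E, E⁆).subgroupOf E)) with
        mul_comm := fun a b => Subtype.ext (Subtype.ext
          (hcomm (a : ↥E) (Subgroup.mem_subgroupOf.1 a.2) (b : ↥E) (Subgroup.mem_subgroupOf.1 b.2))) }
    infer_instance
  intro k hk
  refine ⟨⟨k, hKE hk⟩, ?_, rfl⟩
  have hle : (K ⊔ ⁅E, E⁆).subgroupOf E ≤ fittingSubgroup ↥E :=
    le_sSup (show (K ⊔ ⁅E, E⁆).subgroupOf E ∈ {N : Subgroup ↥E | N.Normal ∧ Group.IsNilpotent N}
      from ⟨hNn, hNnil⟩)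
  apply hle
  rw [Subgroup.mem_subgroupOf]
  exact (le_sup_left : K ≤ K ⊔ ⁅E, E⁆) hk

end Cfsg.Agent.Helper74
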