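import Mathlib
import Cfsg.Prelude.Def_OddOrderLocal

/-! CALL S1435 (helper23), piece FIN3. -/

set_option autoImplicit false

namespace Cfsg.Agent.Helper74

open Cfsg Subgroup

open scoped commutatorElement

universe u

variable {G : Type u} [Group G] [Finite G] {M K U Mstar H : Subgroup G}

/-- FIN3 (pure). `H ∩ M* = E` for a complement `E ≤ M*` of `S` in `H` with `M* ∩ S = 1`. -/
theorem bg65_inter_eq {H Mstar E S : Subgroup G} (hE : IsComplIn E S H) (hEM : E ≤ Mstar)
    (hint : Mstar ⊓ S = ⊥) : H ⊓ Mstar = E := by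
  obtain ⟨hEH, -, -, hprod⟩ := hE
  apply le_antisymm
  · rintro m ⟨hmH, hmM⟩
    obtain ⟨a, ha, b, hb, rfl⟩ := hprod m hmH
    have hbM : b ∈ Mstar := by
      have h1 : b = a⁻¹ * (a * b) := by group
      rw [h1]
      exact mul_mem (inv_mem (hEM ha)) hmM
    have hb1 : b ∈ Mstar ⊓ S := ⟨hbM, hb⟩
    rw [hint, Subgroup.mem_bot] at hb1
    rw [hb1, mul_one]
    exact ha
  · exact le_inf hEH hEM

end Cfsg.Agent.Helper74
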