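import Mathlib
import Cfsg.Agent.Helper81.C3SPHI
import Cfsg.Agent.Helper59.TIMAXTI

/-!
Piece KND of CALL S5975 (helper35): a `K'`-invariant `F`-subspace on which a `K'`-self-adjoint,
`K'`-alternating form is nondegenerate has `F`-dimension divisible by `2 [K' : F]`.
-/

set_option autoImplicit false

namespace Cfsg.Agent.Helper74

open Matrix Module

variable {F : Type*} [Field F] {K' : Type*} [Field K'] [Algebra F K'] {V : Type*}
  [AddCommGroup V] [Module F V] [Module K' V] [IsScalarTower F K' V] [FiniteDimensional F V]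

/-- PIECE KND -/
theorem c3e_knd [Finite F] [Finite K'] (B : LinearMap.BilinForm F V)
    (hnd : ∀ u, (∀ v, B u v = 0) → u = 0)
    (hsa : ∀ (c : K') (u v : V), B (c • u) v = B u (c • v))
    (hka : ∀ (c : K') (v : V), B (c • v) v = 0)
    (W : Submodule F V) (hW : ∀ (c : K') (w : V), w ∈ W → c • w ∈ W)
    (hWnd : ∀ w ∈ W, (∀ w' ∈ W, B w w' = 0) → w = 0) :
    2 * Module.finrank F K' ∣ Module.finrank F W := by
  obtain ⟨φ, hφtr, hφalt, -⟩ := Helper81.C3S.exists_phi B hsa hka hnd
  haveI : FiniteDimensional K' V := FiniteDimensional.right F K' V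
  let W' : Submodule K' V :=
    { carrier := (W : Set V)
      add_mem' := fun ha hb => W.add_mem ha hb
      zero_mem' := W.zero_mem
      smul_mem' := fun c w hw => hW c w hw }
  let e : ↥W ≃ₗ[F] ↥W' :=
    { toFun := fun w => ⟨w.1, w.2⟩
      invFun := fun w => ⟨w.1, w.2⟩
      map_add' := fun _ _ => rfl
      map_smul' := fun _ _ => rfl
      left_inv := fun _ => rfl
      right_inv := fun _ => rfl }
  have hndW : Helper13.TIsp.NondegOn φ W' := by
    intro w hw h
    apply hWnd w hw
    intro w' hw'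
    rw [← hφtr, h w' hw', map_zero]
  obtain ⟨⟨t, ht⟩, -⟩ := Helper59.TI5955.ti_lag φ hφalt W' hndW
  rw [e.finrank_eq, ← Module.finrank_mul_finrank F K' ↥W', ht]
  exact Dvd.intro t (by ring)

end Cfsg.Agent.Helper74
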