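import Mathlib

/-!
Piece CNT of CALL S3413 (helper52): if `p ∥ |G|`, the number of elements of order `p` is
`(p - 1)` times the number of Sylow `p`-subgroups.
-/

set_option autoImplicit false

namespace Cfsg.Agent.Helper74

open Subgroup

theorem cgmcnt_sylow_card {G : Type*} [Group G] [Finite G] (p : ℕ) [Fact p.Prime]
    (hp : p ∣ Nat.card G) (hp2 : ¬ p ^ 2 ∣ Nat.card G) (P : Sylow p G) :
    Nat.card ↥(P : Subgroup G) = p := by
  have hpp : p.Prime := Fact.out
  have hG : Nat.card G ≠ 0 := Nat.card_pos.ne'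
  rw [P.card_eq_multiplicity]
  have h1 : 1 ≤ (Nat.card G).factorization p := (hpp.dvd_iff_one_le_factorization hG).mp hp
  have h2 : ¬ 2 ≤ (Nat.card G).factorization p :=
    fun h => hp2 ((hpp.pow_dvd_iff_le_factorization hG).mpr h)
  have h3 : (Nat.card G).factorization p = 1 := by omega
  rw [h3, pow_one]

theorem cgmcnt_orderOf_of_mem {G : Type*} [Group G] [Finite G] (p : ℕ) [Fact p.Prime]
    (hp : p ∣ Nat.card G) (hp2 : ¬ p ^ 2 ∣ Nat.card G) (P : Sylow p G) {g : G}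
    (hg : g ∈ (P : Subgroup G)) (hg1 : g ≠ 1) : orderOf g = p := by
  have hpp : p.Prime := Fact.out
  have h1 : orderOf g ∣ p := by
    have h2 : orderOf (⟨g, hg⟩ : ↥(P : Subgroup G)) ∣ Nat.card ↥(P : Subgroup G) :=
      orderOf_dvd_natCard _
    rw [cgmcnt_sylow_card p hp hp2 P] at h2
    rw [← Subgroup.orderOf_coe] at h2
    exact h2
  rcases (Nat.dvd_prime hpp).mp h1 with h | h
  · exact absurd (orderOf_eq_one_iff.mp h) hg1
  · exact h

theorem cgmcnt_sylow_eq_zpowers {G : Type*} [Group G] [Finite G] (p : ℕ) [Fact p.Prime]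
    (hp : p ∣ Nat.card G) (hp2 : ¬ p ^ 2 ∣ Nat.card G) (P : Sylow p G) {g : G}
    (hg : g ∈ (P : Subgroup G)) (hg1 : g ≠ 1) : (P : Subgroup G) = zpowers g := by
  symm
  apply Subgroup.eq_of_le_of_card_ge ((zpowers_le).mpr hg)
  rw [cgmcnt_sylow_card p hp hp2 P, Nat.card_zpowers, cgmcnt_orderOf_of_mem p hp hp2 P hg hg1]

/-- CNT -/
theorem cgm_card_orderOf_prime {G : Type*} [Group G] [Finite G] (p : ℕ) [Fact p.Prime]
    (hp : p ∣ Nat.card G) (hp2 : ¬ p ^ 2 ∣ Nat.card G) :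
    Nat.card {g : G // orderOf g = p} = (p - 1) * Nat.card (Sylow p G) := by
  have hpp : p.Prime := Fact.out
  have e : {q : Sylow p G × G // q.2 ∈ (q.1 : Subgroup G) ∧ q.2 ≠ 1} ≃
      {g : G // orderOf g = p} := by
    refine Equiv.ofBijective
      (fun q => ⟨q.1.2, cgmcnt_orderOf_of_mem p hp hp2 q.1.1 q.2.1 q.2.2⟩) ⟨?_, ?_⟩
    · rintro ⟨⟨P, g⟩, hg, hg1⟩ ⟨⟨P', g'⟩, hg', hg1'⟩ h
      have hgg : g = g' := congrArg Subtype.val h
      subst hgg
      have hPP : P = P' := Sylow.ext ((cgmcnt_sylow_eq_zpowers p hp hp2 P hg hg1).trans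
        (cgmcnt_sylow_eq_zpowers p hp hp2 P' hg' hg1').symm)
      subst hPP
      rfl
    · rintro ⟨g, hg⟩
      obtain ⟨P, hP⟩ := (IsPGroup.of_card (n := 1) (by rw [Nat.card_zpowers, hg, pow_one]) :
        IsPGroup p (zpowers g)).exists_le_sylow
      have hg1 : g ≠ 1 := by
        rintro rfl
        rw [orderOf_one] at hg
        exact hpp.one_lt.ne hg
      exact ⟨⟨(P, g), hP (mem_zpowers g), hg1⟩, rfl⟩
  rw [← Nat.card_congr e, Nat.card_congr (Equiv.subtypeProdEquivSigmaSubtype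
    (fun (P : Sylow p G) (g : G) => g ∈ (P : Subgroup G) ∧ g ≠ 1))]
  have : Fintype (Sylow p G) := Fintype.ofFinite _
  rw [Nat.card_sigma]
  have hfib : ∀ P : Sylow p G, Nat.card {g : G // g ∈ (P : Subgroup G) ∧ g ≠ 1} = p - 1 := by
    intro P
    have h1 : Nat.card {g : G // g ∈ (P : Subgroup G) ∧ g ≠ 1} =
        (((P : Subgroup G) : Set G) \ {1}).ncard := by
      rw [← Nat.card_coe_set_eq]; rfl
    rw [h1, Set.ncard_sdiff_singleton_of_mem (one_mem _)]
    have h2 : ((P : Subgroup G) : Set G).ncard = p := by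
      rw [← Nat.card_coe_set_eq]
      exact cgmcnt_sylow_card p hp hp2 P
    rw [h2]
  simp [hfib, Nat.card_eq_fintype_card, mul_comm]

end Cfsg.Agent.Helper74
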