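import Mathlib
import Cfsg.Prelude.Def_Characters
import Cfsg.Prelude.Def_Blocks
import Cfsg.Agent.Helper77.D1Defs
import Cfsg.Agent.Helper77.D1Defs2
import Cfsg.Agent.Helper77.LocalRing
import Cfsg.Agent.Helper80.CharOrtho
import Cfsg.Agent.Helper79.Quotient
import Cfsg.Agent.Helper75.LatGroup
import Cfsg.Agent.Helper74.D1IB

/-!
# Piece CB of CALL S4442B (helper74): `D1InjStmt`

Characters `θ, θ'` of `K` whose induced central characters `omTheta` agree modulo `M` are
conjugate under `N_G(⟨x⟩)`.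
-/

universe u
set_option autoImplicit false
open Cfsg Cfsg.Agent.Helper77
open scoped ComplexConjugate

namespace Cfsg.Agent.Helper74

variable {G : Type u} [Group G] [Finite G]

omit [Finite G] in
theorem d1cb_split (p : ℕ) [Fact p.Prime] (x : G) (K : Subgroup G) (h : D1Hyp p x K) (n : G)
    (j : ℕ) (k₀ k : K) :
    n * (x * (k₀ : G)) * n⁻¹ = x ^ j * (k : G) ↔
      (n * x * n⁻¹ = x ^ j ∧ n * (k₀ : G) * n⁻¹ = (k : G)) := by
  have hp : p.Prime := Fact.out
  have hcop : Nat.Coprime (Nat.card K) p := ((Nat.Prime.coprime_iff_not_dvd hp).mpr h.hK).symm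
  have hxp : x ^ p = 1 := by rw [← h.hx]; exact pow_orderOf_eq_one x
  have hKm : ∀ k : K, (k : G) ^ Nat.card K = 1 := by
    intro k
    have := pow_card_eq_one' (G := K) (x := k)
    exact congrArg Subtype.val this
  have hKx : ∀ k : K, (k : G) * x = x * (k : G) := fun k =>
    (h.hC k).mpr ⟨0, k, k.2, by simp⟩
  constructor
  · intro hc
    have hyk : x * (k₀ : G) = (k₀ : G) * x := (hKx k₀).symm
    have hyk' : Commute (x ^ j) (k : G) := (Commute.pow_right (hKx k) j).symm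
    refine d1ib_split hcop ?_ hyk' ?_ ?_ ?_ (hKm k) ?_
    · show (n * x * n⁻¹) * (n * (k₀ : G) * n⁻¹) = (n * (k₀ : G) * n⁻¹) * (n * x * n⁻¹)
      calc (n * x * n⁻¹) * (n * (k₀ : G) * n⁻¹) = n * (x * (k₀ : G)) * n⁻¹ := by group
        _ = n * ((k₀ : G) * x) * n⁻¹ := by rw [hyk]
        _ = (n * (k₀ : G) * n⁻¹) * (n * x * n⁻¹) := by group
    · rw [conj_pow, hxp, mul_one, mul_inv_cancel]
    · rw [← pow_mul, mul_comm, pow_mul, hxp, one_pow]
    · rw [conj_pow, hKm k₀, mul_one, mul_inv_cancel]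
    · rw [← hc]; group
  · rintro ⟨h1, h2⟩
    rw [← h1, ← h2]; group

open scoped Classical in
/-- First orthogonality for `θ` and the `n`-conjugate of `ψ`. -/
theorem d1cb_orth (p : ℕ) [Fact p.Prime] (x : G) (K : Subgroup G) (h : D1Hyp p x K)
    [Fintype K] (θ ψ : Cfsg.IrrCharacter K) (n : G)
    (hn : n ∈ Subgroup.normalizer ((Subgroup.zpowers x : Subgroup G) : Set G)) :
    ∑ k₀ : K, ∑ k : K,
      (if n * (k₀ : G) * n⁻¹ = (k : G) then conj ((θ : K → ℂ) k₀) * (ψ : K → ℂ) k else 0)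
      = if thetaConj K n (θ : K → ℂ) (ψ : K → ℂ) then (Nat.card K : ℂ) else 0 := by
  have hnK : ∀ k : G, k ∈ K → n * k * n⁻¹ ∈ K := fun k hk =>
    Cfsg.Agent.Helper75.lat_K_normal p x h.hx K h.hK h.hC n hn k hk
  have hnK' : ∀ k : G, k ∈ K → n⁻¹ * k * n ∈ K := fun k hk => by
    have := Cfsg.Agent.Helper75.lat_K_normal p x h.hx K h.hK h.hC n⁻¹ (inv_mem hn) k hk
    rwa [inv_inv] at this
  let e : K ≃* K :=
    { toFun := fun k => ⟨n * (k : G) * n⁻¹, hnK k k.2⟩
      invFun := fun k => ⟨n⁻¹ * (k : G) * n, hnK' k k.2⟩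
      left_inv := by intro k; apply Subtype.ext; show n⁻¹ * (n * (k : G) * n⁻¹) * n = k; group
      right_inv := by intro k; apply Subtype.ext; show n * (n⁻¹ * (k : G) * n) * n⁻¹ = k; group
      map_mul' := by
        intro a b; apply Subtype.ext
        show n * ((a : G) * (b : G)) * n⁻¹ = (n * (a : G) * n⁻¹) * (n * (b : G) * n⁻¹)
        group }
  have he : ∀ k : K, ((e k : K) : G) = n * (k : G) * n⁻¹ := fun k => rfl
  let θ'' : Cfsg.IrrCharacter K := ⟨fun k => (ψ : K → ℂ) (e k),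
    (Cfsg.Agent.Helper79.isIrrCharacter_mulEquiv e).mpr ψ.2⟩
  have hθ'' : ∀ k : K, (θ'' : K → ℂ) k = (ψ : K → ℂ) (e k) := fun k => rfl
  have h1 : ∀ k₀ : K, ∑ k : K,
      (if n * (k₀ : G) * n⁻¹ = (k : G) then conj ((θ : K → ℂ) k₀) * (ψ : K → ℂ) k else 0)
      = (θ'' : K → ℂ) k₀ * conj ((θ : K → ℂ) k₀) := by
    intro k₀
    rw [Finset.sum_eq_single (e k₀)]
    · rw [if_pos (he k₀).symm, hθ'', mul_comm]
    · intro k _ hk
      rw [if_neg]
      intro hc
      exact hk (Subtype.ext (by rw [he]; exact hc.symm))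
    · intro hne; exact absurd (Finset.mem_univ _) hne
  rw [Finset.sum_congr rfl (fun k _ => h1 k), Cfsg.Agent.Helper80.irr_orthogonality_conj θ'' θ,
    Nat.card_eq_fintype_card]
  have hiff : θ'' = θ ↔ thetaConj K n (θ : K → ℂ) (ψ : K → ℂ) := by
    constructor
    · intro heq k k' hk'
      have h2 : e k = k' := Subtype.ext (by rw [he]; exact hk'.symm)
      rw [← h2, ← hθ'', heq]
    · intro hth
      apply Subtype.ext
      funext k
      exact hth k (e k) rfl
  by_cases hth : thetaConj K n (θ : K → ℂ) (ψ : K → ℂ)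
  · rw [if_pos (hiff.mpr hth), if_pos hth]
  · rw [if_neg (fun hc => hth (hiff.mp hc)), if_neg hth]

open scoped Classical in
/-- `|C_G(x k₀)| · omTheta ψ (x k₀)` as a sum over the normalizer of `⟨x⟩`. -/
theorem d1cb_om (p : ℕ) [Fact p.Prime] (x : G) (K : Subgroup G) (h : D1Hyp p x K)
    [Fintype G] [Fintype K] (ψ : K → ℂ) (k₀ : K) :
    (Nat.card (Subgroup.centralizer ({x * (k₀ : G)} : Set G)) : ℂ)
        * omTheta p x K ψ (x * (k₀ : G))
      = ∑ n : G, ∑ k : K,
          if (n ∈ Subgroup.normalizer ((Subgroup.zpowers x : Subgroup G) : Set G) ∧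
            n * (k₀ : G) * n⁻¹ = (k : G)) then ψ k / ψ 1 else 0 := by
  have hp : p.Prime := Fact.out
  unfold omTheta
  rw [finsum_mem_def, finsum_eq_sum_of_fintype, Finset.mul_sum]
  have h1 : ∀ c : Fin p × K,
      (Nat.card (Subgroup.centralizer ({x * (k₀ : G)} : Set G)) : ℂ)
        * Set.indicator {c : Fin p × K | IsConj (x * (k₀ : G)) (x ^ (c.1 : ℕ) * (c.2 : G))}
            (fun c => ψ c.2 / ψ 1) c
      = ∑ n : G, if n * (x * (k₀ : G)) * n⁻¹ = x ^ (c.1 : ℕ) * (c.2 : G) then ψ c.2 / ψ 1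
          else 0 := by
    intro c
    have h2 : ∀ n : G, (if n * (x * (k₀ : G)) * n⁻¹ = x ^ (c.1 : ℕ) * (c.2 : G) then
        ψ c.2 / ψ 1 else 0)
        = (if n * (x * (k₀ : G)) * n⁻¹ = x ^ (c.1 : ℕ) * (c.2 : G) then (1 : ℂ) else 0)
          * (ψ c.2 / ψ 1) := by
      intro n; split_ifs <;> simp
    rw [Finset.sum_congr rfl (fun n _ => h2 n), ← Finset.sum_mul, Finset.sum_boole,
      Cfsg.Agent.Helper80.card_conj_eq, Set.indicator_apply]
    by_cases hc : IsConj (x * (k₀ : G)) (x ^ (c.1 : ℕ) * (c.2 : G))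
    · rw [if_pos hc, if_pos (show c ∈ {c : Fin p × K |
        IsConj (x * (k₀ : G)) (x ^ (c.1 : ℕ) * (c.2 : G))} from hc)]
    · rw [if_neg hc, if_neg (show c ∉ {c : Fin p × K |
        IsConj (x * (k₀ : G)) (x ^ (c.1 : ℕ) * (c.2 : G))} from hc)]
      simp
  rw [Finset.sum_congr rfl (fun c _ => h1 c), Finset.sum_comm]
  refine Finset.sum_congr rfl (fun n _ => ?_)
  rw [Fintype.sum_prod_type, Finset.sum_comm]
  refine Finset.sum_congr rfl (fun k _ => ?_)
  by_cases hcond : n ∈ Subgroup.normalizer ((Subgroup.zpowers x : Subgroup G) : Set G) ∧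
      n * (k₀ : G) * n⁻¹ = (k : G)
  · obtain ⟨j₀, hj₀⟩ := Cfsg.Agent.Helper75.lat_conj_pow x n hcond.1
    have hj₁ : n * x * n⁻¹ = x ^ (j₀ % p) := by
      rw [hj₀]
      have := pow_mod_orderOf x j₀
      rw [h.hx] at this
      exact this.symm
    rw [if_pos hcond, Finset.sum_eq_single (⟨j₀ % p, Nat.mod_lt _ hp.pos⟩ : Fin p)]
    · rw [if_pos ((d1cb_split p x K h n _ k₀ k).mpr ⟨hj₁, hcond.2⟩)]
    · intro j _ hj
      rw [if_neg]
      intro hc
      apply hj
      have h3 := ((d1cb_split p x K h n _ k₀ k).mp hc).1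
      rw [hj₁] at h3
      apply Fin.ext
      apply pow_injOn_Iio_orderOf (x := x)
      · rw [h.hx]; exact j.2
      · rw [h.hx]; exact Nat.mod_lt _ hp.pos
      · exact h3.symm
    · intro hne; exact absurd (Finset.mem_univ _) hne
  · rw [if_neg hcond]
    apply Finset.sum_eq_zero
    intro j _
    rw [if_neg]
    intro hc
    apply hcond
    obtain ⟨h3, h4⟩ := (d1cb_split p x K h n _ k₀ k).mp hc
    refine ⟨d1ib_norm p x h.hx 1 (j : ℕ) (fun hd => hp.one_lt.ne' (Nat.dvd_one.mp hd)) n ?_, h4⟩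
    rw [pow_one]; exact h3

theorem d1_inj (p : ℕ) [Fact p.Prime] : D1InjStmt G p := by
  intro M x K hM h θ θ' hloc
  classical
  have hp : p.Prime := Fact.out
  letI : Fintype G := Fintype.ofFinite G
  letI : Fintype K := Fintype.ofFinite K
  by_contra hcon
  have hKx : ∀ k : K, (k : G) * x = x * (k : G) := fun k =>
    (h.hC k).mpr ⟨0, k, k.2, by simp⟩
  have hcon' : ∀ n : G, ¬ (n ∈ Subgroup.normalizer ((Subgroup.zpowers x : Subgroup G) : Set G) ∧
      thetaConj K n (θ : K → ℂ) (θ' : K → ℂ)) := by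
    rintro n ⟨hn, hth⟩
    exact hcon ⟨n, (Subgroup.mem_normalizer_iff.mp hn x).mp (Subgroup.mem_zpowers x), hth⟩
  have hΦ : ∀ ψ : Cfsg.IrrCharacter K,
      ∑ k₀ : K, conj ((θ : K → ℂ) k₀) *
        ((Nat.card (Subgroup.centralizer ({x * (k₀ : G)} : Set G)) : ℂ)
          * omTheta p x K (ψ : K → ℂ) (x * (k₀ : G)))
      = ((ψ : K → ℂ) 1)⁻¹ * ((Nat.card K : ℂ) * ((Finset.univ.filter (fun n : G =>
          n ∈ Subgroup.normalizer ((Subgroup.zpowers x : Subgroup G) : Set G) ∧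
            thetaConj K n (θ : K → ℂ) (ψ : K → ℂ))).card : ℂ)) := by
    intro ψ
    have h1 : ∀ k₀ : K, conj ((θ : K → ℂ) k₀) *
        ((Nat.card (Subgroup.centralizer ({x * (k₀ : G)} : Set G)) : ℂ)
          * omTheta p x K (ψ : K → ℂ) (x * (k₀ : G)))
        = ((ψ : K → ℂ) 1)⁻¹ * ∑ n : G, ∑ k : K,
          if (n ∈ Subgroup.normalizer ((Subgroup.zpowers x : Subgroup G) : Set G) ∧
            n * (k₀ : G) * n⁻¹ = (k : G)) then conj ((θ : K → ℂ) k₀) * (ψ : K → ℂ) k else 0 := by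
      intro k₀
      rw [d1cb_om p x K h (ψ : K → ℂ) k₀, Finset.mul_sum, Finset.mul_sum]
      refine Finset.sum_congr rfl (fun n _ => ?_)
      rw [Finset.mul_sum, Finset.mul_sum]
      refine Finset.sum_congr rfl (fun k _ => ?_)
      split_ifs
      · ring
      · simp
    rw [Finset.sum_congr rfl (fun k₀ _ => h1 k₀), ← Finset.mul_sum, Finset.sum_comm]
    congr 1
    rw [Finset.natCast_card_filter, Finset.mul_sum]
    refine Finset.sum_congr rfl (fun n _ => ?_)
    by_cases hn : n ∈ Subgroup.normalizer ((Subgroup.zpowers x : Subgroup G) : Set G)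
    · have h2 := d1cb_orth p x K h θ ψ n hn
      simp only [hn, true_and]
      rw [h2]
      split_ifs <;> simp
    · simp [hn]
  -- the stabilizer of `θ` in the normalizer
  let S : Subgroup G :=
    { carrier := {n | n ∈ Subgroup.normalizer ((Subgroup.zpowers x : Subgroup G) : Set G) ∧
        thetaConj K n (θ : K → ℂ) (θ : K → ℂ)}
      mul_mem' := by
        rintro a b ⟨ha, hat⟩ ⟨hb, hbt⟩
        refine ⟨mul_mem ha hb, ?_⟩
        intro k k' hk'
        have hbk : b * (k : G) * b⁻¹ ∈ K :=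
          Cfsg.Agent.Helper75.lat_K_normal p x h.hx K h.hK h.hC b hb k k.2
        have h1 := hbt k ⟨b * (k : G) * b⁻¹, hbk⟩ rfl
        have h2 := hat ⟨b * (k : G) * b⁻¹, hbk⟩ k' (by rw [hk']; group)
        rw [h2, h1]
      one_mem' := by
        refine ⟨one_mem _, ?_⟩
        intro k k' hk'
        have : k' = k := Subtype.ext (by rw [hk']; group)
        rw [this]
      inv_mem' := by
        rintro a ⟨ha, hat⟩
        refine ⟨inv_mem ha, ?_⟩
        intro k k' hk'
        exact (hat k' k (by rw [hk']; group)).symm }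
  have hSmem : ∀ n : G, n ∈ S ↔
      (n ∈ Subgroup.normalizer ((Subgroup.zpowers x : Subgroup G) : Set G) ∧
        thetaConj K n (θ : K → ℂ) (θ : K → ℂ)) := fun n => Iff.rfl
  have hScard : (Finset.univ.filter (fun n : G =>
      n ∈ Subgroup.normalizer ((Subgroup.zpowers x : Subgroup G) : Set G) ∧
        thetaConj K n (θ : K → ℂ) (θ : K → ℂ))).card = Nat.card S := by
    rw [Nat.card_eq_fintype_card, Fintype.card_subtype]
    congr 1
    ext n
    simp only [Finset.mem_filter, Finset.mem_univ, true_and]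
    exact (hSmem n).symm
  have hxS : x ∈ S := by
    rw [hSmem]
    refine ⟨?_, ?_⟩
    · exact Subgroup.le_normalizer (Subgroup.mem_zpowers x)
    · intro k k' hk'
      have : k' = k := Subtype.ext (by rw [hk', ← hKx k]; group)
      rw [this]
  obtain ⟨s, hs⟩ : p ∣ Nat.card S := by
    rw [← h.hx]; exact Subgroup.orderOf_dvd_natCard S hxS
  have hm : ∀ k₀ : K, ∃ m : ℕ,
      Nat.card (Subgroup.centralizer ({x * (k₀ : G)} : Set G)) = p * m := by
    intro k₀
    have hxC : x ∈ Subgroup.centralizer ({x * (k₀ : G)} : Set G) := by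
      rw [Subgroup.mem_centralizer_iff]
      intro g hg
      rw [Set.mem_singleton_iff] at hg
      subst hg
      rw [mul_assoc, hKx k₀]
    have := Subgroup.orderOf_dvd_natCard _ hxC
    rw [h.hx] at this
    exact this
  choose m hm using hm
  set Z : ℂ := ∑ k₀ : K, conj ((θ : K → ℂ) k₀) * ((m k₀ : ℂ) *
    (omTheta p x K (θ : K → ℂ) (x * (k₀ : G)) - omTheta p x K (θ' : K → ℂ) (x * (k₀ : G))))
    with hZ
  have hθchar := Cfsg.Agent.Helper80.isCharacter_of_irr θ.2
  have hZloc : Cfsg.MemLocalIdeal M Z := by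
    apply memLocalIdeal_sum hM.2.1
    intro k₀ _
    apply memLocalIdeal_mul hM.2.1
    · apply memLocalRing_of_isIntegral hM.2.1
      rw [← Cfsg.Agent.Helper80.isCharacter_inv hθchar]
      exact Cfsg.Agent.Helper80.isCharacter_isIntegral hθchar _
    · apply memLocalIdeal_mul hM.2.1
      · apply memLocalRing_of_isIntegral hM.2.1
        have h5 : IsIntegral ℤ (algebraMap ℤ ℂ (m k₀ : ℤ)) := isIntegral_algebraMap
        simpa using h5
      · exact hloc _
  have hΦθ := hΦ θ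
  have hΦθ' := hΦ θ'
  have h0 : (Finset.univ.filter (fun n : G =>
      n ∈ Subgroup.normalizer ((Subgroup.zpowers x : Subgroup G) : Set G) ∧
        thetaConj K n (θ : K → ℂ) (θ' : K → ℂ))).card = 0 := by
    rw [Finset.card_eq_zero, Finset.filter_eq_empty_iff]
    intro n _
    exact hcon' n
  rw [h0, Nat.cast_zero, mul_zero, mul_zero] at hΦθ'
  rw [hScard, hs] at hΦθ
  have hpZ : (p : ℂ) * Z = ((θ : K → ℂ) 1)⁻¹ * ((Nat.card K : ℂ) * ((p * s : ℕ) : ℂ)) := by
    rw [← hΦθ, ← sub_zero (∑ k₀ : K, conj ((θ : K → ℂ) k₀) *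
        ((Nat.card (Subgroup.centralizer ({x * (k₀ : G)} : Set G)) : ℂ)
          * omTheta p x K (θ : K → ℂ) (x * (k₀ : G)))), ← hΦθ', ← Finset.sum_sub_distrib, hZ,
      Finset.mul_sum]
    refine Finset.sum_congr rfl (fun k₀ _ => ?_)
    rw [hm k₀]
    push_cast
    ring
  have hp0 : (p : ℂ) ≠ 0 := by exact_mod_cast hp.ne_zero
  have hθ1 : (θ : K → ℂ) 1 ≠ 0 := Cfsg.Agent.Helper80.irr_one_ne_zero θ
  have hfin : ((Nat.card K * s : ℕ) : ℂ) = (θ : K → ℂ) 1 * Z := by
    apply mul_left_cancel₀ hp0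
    rw [mul_left_comm, hpZ]
    push_cast
    field_simp
  have hmem : Cfsg.MemLocalIdeal M ((Nat.card K * s : ℕ) : ℂ) := by
    rw [hfin]
    exact memLocalIdeal_mul hM.2.1 (memLocalRing_of_isIntegral hM.2.1
      (Cfsg.Agent.Helper80.isCharacter_isIntegral hθchar 1)) hZloc
  have hdvd : p ∣ Nat.card K * s := by
    by_contra hnd
    exact not_memLocalIdeal_natCast hM hnd hmem
  have hps : p ∣ s := (hp.dvd_mul.mp hdvd).resolve_left h.hK
  apply h.hsq
  have h2 : p ^ 2 ∣ Nat.card S := by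
    rw [hs, sq]; exact Nat.mul_dvd_mul_left p hps
  exact h2.trans (Subgroup.card_subgroup_dvd_card S)

end Cfsg.Agent.Helper74
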