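-- helper74: piece LC of CALL S4442L (helper77): Maschke decomposition of a matrix representation
-- into minimal stable subspaces and a commuting matrix with many distinct nonzero eigenvalues.
import Mathlib

universe u
set_option autoImplicit false
open Matrix

namespace Cfsg.Agent.Helper74

section D1LC

variable {k : Type*} [Field k] {H : Type*} [Group H] {a : ℕ}

theorem d1lc_mat_ext {A B : Matrix (Fin a) (Fin a) k} (h : ∀ x, A *ᵥ x = B *ᵥ x) : A = B := by
  apply Matrix.toLin'.injective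
  apply LinearMap.ext
  intro x
  simp only [Matrix.toLin'_apply]
  exact h x

/-- Maschke by averaging a projection. -/
theorem d1lc_maschke [Finite H] (hH : (Nat.card H : k) ≠ 0) (R : H →* Matrix (Fin a) (Fin a) k)
    (W : Submodule k (Fin a → k)) (hW : ∀ h, ∀ w ∈ W, R h *ᵥ w ∈ W) :
    ∃ F : Matrix (Fin a) (Fin a) k, (∀ h, F * R h = R h * F) ∧ (∀ x, F *ᵥ x ∈ W) ∧
      (∀ w ∈ W, F *ᵥ w = w) := by
  classical
  haveI : Fintype H := Fintype.ofFinite H
  obtain ⟨f, hf⟩ := LinearMap.exists_leftInverse_of_injective W.subtype (by simp)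
  obtain ⟨P0, hP0def⟩ : ∃ P0 : Matrix (Fin a) (Fin a) k, P0 = LinearMap.toMatrix' (W.subtype ∘ₗ f) :=
    ⟨_, rfl⟩
  have hP0 : ∀ x, P0 *ᵥ x = (f x : Fin a → k) := by
    intro x
    rw [hP0def, LinearMap.toMatrix'_mulVec]
    rfl
  have hP0W : ∀ w ∈ W, P0 *ᵥ w = w := by
    intro w hw
    rw [hP0]
    have h1 := congrArg (fun g => g ⟨w, hw⟩) hf
    simp only [LinearMap.coe_comp, Function.comp_apply, Submodule.subtype_apply,
      LinearMap.id_coe, id_eq] at h1
    rw [h1]
  have hRR : ∀ g : H, R g * R g⁻¹ = 1 := by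
    intro g
    rw [← map_mul, mul_inv_cancel, map_one]
  have hRR' : ∀ g : H, R g⁻¹ * R g = 1 := by
    intro g
    rw [← map_mul, inv_mul_cancel, map_one]
  have key : ∀ g, (∑ h : H, R h * P0 * R h⁻¹) * R g = R g * ∑ h : H, R h * P0 * R h⁻¹ := by
    intro g
    rw [Finset.sum_mul, Finset.mul_sum]
    apply Fintype.sum_equiv (Equiv.mulLeft g⁻¹)
    intro h
    simp only [Equiv.coe_mulLeft, _root_.mul_inv_rev, inv_inv, map_mul]
    calc R h * P0 * R h⁻¹ * R g = (R g * R g⁻¹) * R h * P0 * (R h⁻¹ * R g) := by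
          rw [hRR, one_mul]
          simp only [mul_assoc]
      _ = R g * (R g⁻¹ * R h * P0 * (R h⁻¹ * R g)) := by
          simp only [mul_assoc]
  have hterm : ∀ (h : H) (x : Fin a → k), (R h * P0 * R h⁻¹) *ᵥ x ∈ W := by
    intro h x
    rw [← Matrix.mulVec_mulVec, ← Matrix.mulVec_mulVec]
    apply hW
    rw [hP0]
    exact (f _).2
  have htermW : ∀ (h : H), ∀ w ∈ W, (R h * P0 * R h⁻¹) *ᵥ w = w := by
    intro h w hw
    rw [← Matrix.mulVec_mulVec, ← Matrix.mulVec_mulVec, hP0W _ (hW h⁻¹ w hw),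
      Matrix.mulVec_mulVec, hRR, Matrix.one_mulVec]
  refine ⟨(Nat.card H : k)⁻¹ • ∑ h : H, R h * P0 * R h⁻¹, ?_, ?_, ?_⟩
  · intro g
    rw [Matrix.smul_mul, Matrix.mul_smul, key]
  · intro x
    rw [Matrix.smul_mulVec, Matrix.sum_mulVec]
    apply W.smul_mem
    apply W.sum_mem
    intro h _
    exact hterm h x
  · intro w hw
    rw [Matrix.smul_mulVec, Matrix.sum_mulVec]
    rw [Finset.sum_congr rfl (fun h _ => htermW h w hw)]
    rw [Finset.sum_const, Finset.card_univ, ← Nat.card_eq_fintype_card, ← Nat.cast_smul_eq_nsmul k,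
      smul_smul, inv_mul_cancel₀ hH, one_smul]

/-- A nonzero stable subspace contains a minimal nonzero stable subspace. -/
theorem d1lc_min (R : H →* Matrix (Fin a) (Fin a) k) (U : Submodule k (Fin a → k))
    (hU : ∀ h, ∀ w ∈ U, R h *ᵥ w ∈ U) (hU0 : U ≠ ⊥) :
    ∃ W : Submodule k (Fin a → k), W ≤ U ∧ (∀ h, ∀ w ∈ W, R h *ᵥ w ∈ W) ∧ W ≠ ⊥ ∧
      ∀ W' : Submodule k (Fin a → k), W' ≤ W → (∀ h, ∀ w ∈ W', R h *ᵥ w ∈ W') →
        W' = ⊥ ∨ W' = W := by
  classical
  have hS : ∃ n : ℕ, ∃ W : Submodule k (Fin a → k), W ≤ U ∧ (∀ h, ∀ w ∈ W, R h *ᵥ w ∈ W) ∧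
      W ≠ ⊥ ∧ Module.finrank k W = n := ⟨_, U, le_rfl, hU, hU0, rfl⟩
  obtain ⟨W, hWU, hWs, hW0, hWn⟩ := Nat.find_spec hS
  refine ⟨W, hWU, hWs, hW0, ?_⟩
  intro W' hW'W hW's
  by_cases h0 : W' = ⊥
  · exact Or.inl h0
  · right
    have h1 : Nat.find hS ≤ Module.finrank k W' :=
      Nat.find_min' hS ⟨W', le_trans hW'W hWU, hW's, h0, rfl⟩
    have h2 : Module.finrank k W' ≤ Module.finrank k W := Submodule.finrank_mono hW'W
    exact Submodule.eq_of_le_of_finrank_eq hW'W (by omega)

theorem d1lc_ind [Finite H] [Infinite k] (hH : (Nat.card H : k) ≠ 0)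
    (R : H →* Matrix (Fin a) (Fin a) k) (D : ℕ)
    (hD : ∀ W : Submodule k (Fin a → k), (∀ h, ∀ w ∈ W, R h *ᵥ w ∈ W) → W ≠ ⊥ →
      (∀ W' : Submodule k (Fin a → k), W' ≤ W → (∀ h, ∀ w ∈ W', R h *ᵥ w ∈ W') →
        W' = ⊥ ∨ W' = W) → Module.finrank k W ≤ D) :
    ∀ n : ℕ, ∀ E : Matrix (Fin a) (Fin a) k, E * E = E → (∀ h, E * R h = R h * E) →
      Module.finrank k (LinearMap.range E.mulVecLin) = n →
      ∃ (ν : ℕ) (β : Matrix (Fin a) (Fin a) k) (v : Fin ν → (Fin a → k)) (c : Fin ν → k),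
        (∀ h, β * R h = R h * β) ∧ E * β = β ∧ β * E = β ∧ (∀ j, v j ≠ 0) ∧ (∀ j, c j ≠ 0) ∧
        Function.Injective c ∧ (∀ j, β *ᵥ v j = c j • v j) ∧ n ≤ ν * D := by
  classical
  intro n
  induction n using Nat.strong_induction_on with
  | _ n ih =>
    intro E hEE hER hn
    by_cases hbot : LinearMap.range E.mulVecLin = ⊥
    · refine ⟨0, 0, Fin.elim0, Fin.elim0, ?_, ?_, ?_, ?_, ?_, ?_, ?_, ?_⟩
      · intro h; simp
      · simp
      · simp
      · intro j; exact j.elim0
      · intro j; exact j.elim0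
      · intro j; exact j.elim0
      · intro j; exact j.elim0
      · rw [hbot, finrank_bot] at hn
        omega
    · -- the range of E is a nonzero stable subspace
      have hmemU : ∀ x : Fin a → k, x ∈ LinearMap.range E.mulVecLin ↔ E *ᵥ x = x := by
        intro x
        constructor
        · rintro ⟨y, rfl⟩
          rw [Matrix.mulVecLin_apply, Matrix.mulVec_mulVec, hEE]
        · intro hx
          exact ⟨x, by rw [Matrix.mulVecLin_apply, hx]⟩
      have hUs : ∀ h, ∀ w ∈ LinearMap.range E.mulVecLin, R h *ᵥ w ∈ LinearMap.range E.mulVecLin := by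
        intro h w hw
        rw [hmemU] at hw ⊢
        rw [Matrix.mulVec_mulVec, hER, ← Matrix.mulVec_mulVec, hw]
      obtain ⟨W, hWU, hWs, hW0, hWmin⟩ := d1lc_min R _ hUs hbot
      obtain ⟨F, hFR, hFW, hFw⟩ := d1lc_maschke hH R W hWs
      have hEw : ∀ w ∈ W, E *ᵥ w = w := fun w hw => (hmemU w).mp (hWU hw)
      have hEF : E * F = F := by
        apply d1lc_mat_ext
        intro x
        rw [← Matrix.mulVec_mulVec, hEw _ (hFW x)]
      have hFF : F * F = F := by
        apply d1lc_mat_ext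
        intro x
        rw [← Matrix.mulVec_mulVec, hFw _ (hFW x)]
      obtain ⟨F', hF'def⟩ : ∃ F' : Matrix (Fin a) (Fin a) k, F' = F * E := ⟨_, rfl⟩
      obtain ⟨E', hE'def⟩ : ∃ E' : Matrix (Fin a) (Fin a) k, E' = E - F' := ⟨_, rfl⟩
      have hEF' : E * F' = F' := by rw [hF'def, ← mul_assoc, hEF]
      have hF'E : F' * E = F' := by rw [hF'def, mul_assoc, hEE]
      have hF'F' : F' * F' = F' := by
        rw [hF'def]
        calc F * E * (F * E) = F * (E * F) * E := by simp only [mul_assoc]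
          _ = F * E := by rw [hEF, hFF]
      have hF'R : ∀ h, F' * R h = R h * F' := by
        intro h
        rw [hF'def, mul_assoc, hER, ← mul_assoc, hFR, mul_assoc]
      have hE'E' : E' * E' = E' := by
        rw [hE'def, sub_mul, mul_sub, mul_sub, hEE, hEF', hF'E, hF'F']
        abel
      have hE'R : ∀ h, E' * R h = R h * E' := by
        intro h
        rw [hE'def, sub_mul, mul_sub, hER, hF'R]
      have hF'E' : F' * E' = 0 := by
        rw [hE'def, mul_sub, hF'E, hF'F', sub_self]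
      have hEE' : E * E' = E' := by
        rw [hE'def, mul_sub, hEE, hEF']
      have hE'E : E' * E = E' := by
        rw [hE'def, sub_mul, hEE, hF'E]
      have hF'W : ∀ x, F' *ᵥ x ∈ W := by
        intro x
        rw [hF'def, ← Matrix.mulVec_mulVec]
        exact hFW _
      have hF'w : ∀ w ∈ W, F' *ᵥ w = w := by
        intro w hw
        rw [hF'def, ← Matrix.mulVec_mulVec, hEw w hw, hFw w hw]
      have hE'w : ∀ w ∈ W, E' *ᵥ w = 0 := by
        intro w hw
        rw [hE'def, Matrix.sub_mulVec, hEw w hw, hF'w w hw, sub_self]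
      have hle : LinearMap.range E'.mulVecLin ≤ LinearMap.range E.mulVecLin := by
        rintro x ⟨y, rfl⟩
        rw [hmemU, Matrix.mulVecLin_apply, Matrix.mulVec_mulVec, hEE']
      obtain ⟨w, hwW, hw0⟩ := (Submodule.ne_bot_iff W).mp hW0
      have hlt : LinearMap.range E'.mulVecLin < LinearMap.range E.mulVecLin := by
        refine lt_of_le_of_ne hle ?_
        intro heq
        have hwU : w ∈ LinearMap.range E'.mulVecLin := by
          rw [heq]
          exact hWU hwW
        obtain ⟨y, hy⟩ := hwU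
        rw [Matrix.mulVecLin_apply] at hy
        apply hw0
        have h1 : F' *ᵥ w = 0 := by
          rw [← hy, Matrix.mulVec_mulVec, hF'E', Matrix.zero_mulVec]
        rw [hF'w w hwW] at h1
        exact h1
      have hlt' : Module.finrank k (LinearMap.range E'.mulVecLin) < n := by
        rw [← hn]
        exact Submodule.finrank_lt_finrank_of_lt hlt
      obtain ⟨ν', β', v', c', hβ'R, hE'β', hβ'E', hv', hc', hc'inj, heig', hbound'⟩ :=
        ih _ hlt' E' hE'E' hE'R rfl
      -- a new eigenvalue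
      obtain ⟨c0, hc0⟩ := Infinite.exists_notMem_finset (insert (0 : k) (Finset.univ.image c'))
      have hc00 : c0 ≠ 0 := by
        intro h
        apply hc0
        rw [h]
        exact Finset.mem_insert_self _ _
      have hc0c' : ∀ j, c' j ≠ c0 := by
        intro j h
        apply hc0
        rw [← h]
        exact Finset.mem_insert_of_mem (Finset.mem_image_of_mem c' (Finset.mem_univ j))
      have hF'β' : F' * β' = 0 := by
        rw [← hE'β', ← mul_assoc, hF'E', zero_mul]
      have hF'v' : ∀ j, F' *ᵥ v' j = 0 := by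
        intro j
        have h1 : F' *ᵥ (β' *ᵥ v' j) = 0 := by
          rw [Matrix.mulVec_mulVec, hF'β', Matrix.zero_mulVec]
        rw [heig' j, Matrix.mulVec_smul] at h1
        rcases smul_eq_zero.mp h1 with h2 | h2
        · exact absurd h2 (hc' j)
        · exact h2
      refine ⟨ν' + 1, β' + c0 • F', Fin.cons w v', Fin.cons c0 c', ?_, ?_, ?_, ?_, ?_, ?_, ?_, ?_⟩
      · intro h
        rw [add_mul, mul_add, hβ'R, Matrix.smul_mul, Matrix.mul_smul, hF'R]
      · rw [mul_add, Matrix.mul_smul, hEF']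
        congr 1
        rw [← hE'β', ← mul_assoc, hEE']
      · rw [add_mul, Matrix.smul_mul, hF'E]
        congr 1
        rw [← hβ'E', mul_assoc, hE'E]
      · intro j
        refine Fin.cases ?_ (fun i => ?_) j
        · simpa using hw0
        · simpa using hv' i
      · intro j
        refine Fin.cases ?_ (fun i => ?_) j
        · simpa using hc00
        · simpa using hc' i
      · rw [Fin.cons_injective_iff]
        refine ⟨?_, hc'inj⟩
        rintro ⟨j, hj⟩
        exact hc0c' j hj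
      · intro j
        refine Fin.cases ?_ (fun i => ?_) j
        · simp only [Fin.cons_zero]
          rw [Matrix.add_mulVec, Matrix.smul_mulVec, hF'w w hwW]
          have h1 : β' *ᵥ w = 0 := by
            rw [← hβ'E', ← Matrix.mulVec_mulVec, hE'w w hwW, Matrix.mulVec_zero]
          rw [h1, zero_add]
        · simp only [Fin.cons_succ]
          rw [Matrix.add_mulVec, Matrix.smul_mulVec, hF'v' i, smul_zero, add_zero, heig' i]
      · have h1 : LinearMap.range E.mulVecLin ≤ LinearMap.range E'.mulVecLin ⊔ W := by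
          rintro x ⟨y, rfl⟩
          rw [Matrix.mulVecLin_apply]
          have h2 : E *ᵥ y = E' *ᵥ y + F' *ᵥ y := by
            rw [hE'def, Matrix.sub_mulVec, sub_add_cancel]
          rw [h2]
          exact Submodule.add_mem_sup ⟨y, rfl⟩ (hF'W y)
        have h3 := Submodule.finrank_mono h1
        have h4 := Submodule.finrank_add_le_finrank_add_finrank (LinearMap.range E'.mulVecLin) W
        have h5 := hD W hWs hW0 hWmin
        rw [hn] at h3
        calc n ≤ Module.finrank k (LinearMap.range E'.mulVecLin) + Module.finrank k W := by omega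
          _ ≤ ν' * D + D := by omega
          _ = (ν' + 1) * D := by ring

end D1LC

/-- Piece LC of CALL S4442L. -/
theorem d1_mod_main {k : Type*} [Field k] [Infinite k] {H : Type*} [Group H] [Finite H]
    (hH : (Nat.card H : k) ≠ 0) {a : ℕ} (R : H →* Matrix (Fin a) (Fin a) k) (D : ℕ)
    (hD : ∀ W : Submodule k (Fin a → k), (∀ h, ∀ w ∈ W, R h *ᵥ w ∈ W) → W ≠ ⊥ →
      (∀ W' : Submodule k (Fin a → k), W' ≤ W → (∀ h, ∀ w ∈ W', R h *ᵥ w ∈ W') →
        W' = ⊥ ∨ W' = W) → Module.finrank k W ≤ D) :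
    ∃ (ν : ℕ) (β : Matrix (Fin a) (Fin a) k) (v : Fin ν → (Fin a → k)) (c : Fin ν → k),
      (∀ h, β * R h = R h * β) ∧ (∀ j, v j ≠ 0) ∧ (∀ j, c j ≠ 0) ∧ Function.Injective c ∧
      (∀ j, β *ᵥ v j = c j • v j) ∧ a ≤ ν * D := by
  have hrank : Module.finrank k (LinearMap.range (1 : Matrix (Fin a) (Fin a) k).mulVecLin) = a := by
    rw [Matrix.mulVecLin_one, LinearMap.range_id, finrank_top, Module.finrank_fin_fun]
  obtain ⟨ν, β, v, c, h1, -, -, h2, h3, h4, h5, h6⟩ :=
    d1lc_ind hH R D hD a 1 (one_mul 1) (fun h => by rw [one_mul, mul_one]) hrank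
  exact ⟨ν, β, v, c, h1, h2, h3, h4, h5, h6⟩

end Cfsg.Agent.Helper74
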