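-- helper74: piece LE of CALL S4442L (helper77): Clifford degree bound over a normal subgroup with
-- cyclic quotient: an irreducible character over a `z ^ r`-invariant `θ` has degree `≤ r θ(1)`.
import Mathlib
import Cfsg.Prelude.Def_Characters
import Cfsg.Prelude.Def_Blocks
import Cfsg.Agent.S0886
import Cfsg.Agent.Helper15.Gallagher
import Cfsg.Agent.Helper15.Gallagher2
import Cfsg.Agent.Helper75.CliffordCorr
import Cfsg.Agent.Helper75.AbelianQuot
import Cfsg.Agent.Helper79.Induced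
import Cfsg.Agent.Helper79.Quotient
import Cfsg.Agent.Helper80.CharIrr

universe u
set_option autoImplicit false
open Cfsg Matrix
open scoped ComplexConjugate

namespace Cfsg.Agent.Helper74

open Cfsg.Agent.Helper75 in
/-- Core of piece LE, for a normal subgroup `N` of the whole group `Γ = ⟨z⟩ N`. -/
theorem d1le_core {Γ : Type u} [Group Γ] [Fintype Γ] (N : Subgroup Γ) [hN : N.Normal]
    [Fintype N] (z : Γ) (hgen : ∀ g : Γ, ∃ i : ℕ, ∃ k ∈ N, g = z ^ i * k)
    (θ : N → ℂ) (hθ : IsIrrCharacter N θ) (r : ℕ) (hr0 : 0 < r)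
    (hr : conjFun N (z ^ r) θ = θ)
    (η : Γ → ℂ) (hη : IsIrrCharacter Γ η)
    (hne : classInner (fun n : N => η n) θ ≠ 0) :
    charDegree η ≤ r * charDegree θ := by
  classical
  -- the inertia group
  let T : Subgroup Γ :=
    { carrier := {g | conjFun N g θ = θ}
      mul_mem' := by
        intro a b ha hb
        have ha' : conjFun N a θ = θ := ha
        have hb' : conjFun N b θ = θ := hb
        show conjFun N (a * b) θ = θ
        rw [conjFun_mul, ha', hb']
      one_mem' := conjFun_one N θ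
      inv_mem' := by
        intro a ha
        have ha' : conjFun N a θ = θ := ha
        show conjFun N a⁻¹ θ = θ
        have h1 := conjFun_conjFun_inv N a θ
        rw [ha'] at h1
        exact h1 }
  have hT : ∀ g : Γ, g ∈ T ↔ conjFun N g θ = θ := fun g => Iff.rfl
  have hθc : IsCharacter N θ := Helper80.isCharacter_of_irr hθ
  have hηc : IsCharacter Γ η := Helper80.isCharacter_of_irr hη
  have hNT : N ≤ T := by
    intro n hn
    rw [hT]
    funext h
    rw [conjFun_apply]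
    have hcl := Helper15.isClassFunction_of_isChar hθc
    exact hcl h ⟨n, hn⟩
  have hzr : z ^ r ∈ T := (hT _).mpr hr
  -- Clifford correspondence
  obtain ⟨ψ, hψ, hc, hf⟩ := exists_irr_over hNT hθc hηc hne
  have hind := (clifford_correspondence hNT hθ hT hψ hη hf hc).1
  have hψc : IsCharacter T ψ := Helper80.isCharacter_of_irr hψ
  have hdegη : charDegree η = T.index * charDegree ψ := by
    rw [← hind]
    exact Helper79.charDegree_indFun T hψc
  -- the quotient Γ / N is commutative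
  have hcommQ : ∀ a b : Γ ⧸ N, a * b = b * a := by
    intro a b
    obtain ⟨a, rfl⟩ := QuotientGroup.mk_surjective a
    obtain ⟨b, rfl⟩ := QuotientGroup.mk_surjective b
    obtain ⟨i, k, hk, rfl⟩ := hgen a
    obtain ⟨j, k', hk', rfl⟩ := hgen b
    have e1 : ((z ^ i * k : Γ) : Γ ⧸ N) = (z : Γ ⧸ N) ^ i := by
      rw [QuotientGroup.mk_mul, (QuotientGroup.eq_one_iff k).mpr hk, mul_one, QuotientGroup.mk_pow]
    have e2 : ((z ^ j * k' : Γ) : Γ ⧸ N) = (z : Γ ⧸ N) ^ j := by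
      rw [QuotientGroup.mk_mul, (QuotientGroup.eq_one_iff k').mpr hk', mul_one,
        QuotientGroup.mk_pow]
    rw [e1, e2]
    exact pow_mul_comm _ _ _
  have hcommN : ∀ a b : Γ, a * b * a⁻¹ * b⁻¹ ∈ N := by
    intro a b
    rw [← QuotientGroup.eq_one_iff]
    rw [QuotientGroup.mk_mul, QuotientGroup.mk_mul, QuotientGroup.mk_mul, QuotientGroup.mk_inv,
      QuotientGroup.mk_inv, hcommQ (a : Γ ⧸ N) (b : Γ ⧸ N)]
    group
  -- T / N is cyclic
  have hcycQ : IsCyclic (Γ ⧸ N) := by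
    refine ⟨⟨(z : Γ ⧸ N), fun x => ?_⟩⟩
    obtain ⟨g, rfl⟩ := QuotientGroup.mk_surjective x
    obtain ⟨i, k, hk, rfl⟩ := hgen g
    refine ⟨(i : ℤ), ?_⟩
    simp only [zpow_natCast]
    rw [QuotientGroup.mk_mul, (QuotientGroup.eq_one_iff k).mpr hk, mul_one, QuotientGroup.mk_pow]
  let f : (↥T ⧸ N.subgroupOf T) →* (Γ ⧸ N) :=
    QuotientGroup.map (N.subgroupOf T) N T.subtype (fun x hx => hx)
  have hfinj : Function.Injective f := by
    rw [injective_iff_map_eq_one]
    intro q hq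
    obtain ⟨t, rfl⟩ := QuotientGroup.mk_surjective q
    have h1 : f (t : ↥T ⧸ N.subgroupOf T) = (((t : Γ)) : Γ ⧸ N) := rfl
    rw [h1, QuotientGroup.eq_one_iff] at hq
    rw [QuotientGroup.eq_one_iff]
    exact hq
  have hcyc : IsCyclic (↥T ⧸ N.subgroupOf T) := isCyclic_of_injective f hfinj
  -- transport θ to N.subgroupOf T and extend it to T
  obtain ⟨θ', hθ'def⟩ : ∃ θ' : ↥(N.subgroupOf T) → ℂ,
      θ' = fun x => θ (Subgroup.subgroupOfEquivOfLe hNT x) := ⟨_, rfl⟩
  have hθ' : IsIrrCharacter ↥(N.subgroupOf T) θ' := by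
    rw [hθ'def]
    exact (Helper79.isIrrCharacter_mulEquiv (Subgroup.subgroupOfEquivOfLe hNT)).mpr hθ
  have hinv : ∀ (g : ↥T) (n : ↥(N.subgroupOf T)),
      θ' ⟨g * n * g⁻¹, (inferInstance : (N.subgroupOf T).Normal).conj_mem (n : ↥T) n.2 g⟩ = θ' n := by
    intro g n
    rw [hθ'def]
    have h1 := congrFun ((hT (g : Γ)).mp g.2) (Subgroup.subgroupOfEquivOfLe hNT n)
    rw [conjFun_apply] at h1
    exact h1
  obtain ⟨χ, hχ, hext⟩ := Cfsg.Agent.S0886.result (N.subgroupOf T) hcyc θ' hθ' hinv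
  have hχc : IsCharacter T χ := Helper80.isCharacter_of_irr hχ
  -- ψ lies over θ'
  have h2 : classInner (fun n : ↥(N.subgroupOf T) => ψ n) θ' ≠ 0 := by
    rw [hθ'def, classInner_subgroupOf hNT ψ θ]
    exact hf
  have h3 : classInner (indFun (N.subgroupOf T) θ') ψ ≠ 0 := by
    rw [Helper3.frobenius_reciprocity (N.subgroupOf T) θ' ψ
      (Helper15.isClassFunction_of_isChar hψc)]
    rw [classInner_conj_symm (fun n : ↥(N.subgroupOf T) => ψ n) θ']
    intro h
    apply h2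
    have h4 := congrArg (starRingEnd ℂ) h
    simpa using h4
  have hone : ((fun _ => (1 : ℂ)) * θ' : ↥(N.subgroupOf T) → ℂ) = θ' := by
    funext x
    simp
  obtain ⟨β, hβ, hβ1, hβχ⟩ := Helper15.gallagher_surj (N.subgroupOf T) (fun _ => (1 : ℂ)) θ'
    Helper79.isIrrCharacter_one (fun _ _ => rfl) (by rw [hone]; exact hθ') χ hχc hext ψ hψ
    (by rw [hone]; exact h3)
  have hβker := (Helper15.inner_ind_one_ne_zero_iff (N.subgroupOf T) hβ).mp hβ1
  have hβ1' : β 1 = 1 := by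
    apply irr_one_eq_one_of_comm_mod_ker hβ
    intro x y
    apply hβker
    rw [Subgroup.mem_subgroupOf]
    exact hcommN (x : Γ) (y : Γ)
  have hψ1 : ψ 1 = θ 1 := by
    rw [← hβχ, Pi.mul_apply, hβ1', one_mul]
    have h5 := hext 1
    rw [hθ'def] at h5
    simpa using h5
  have hdegψ : charDegree ψ = charDegree θ := by
    unfold charDegree
    rw [hψ1]
  -- the index of T is at most r
  have hidx : T.index ≤ r := by
    have hsurj : Function.Surjective (fun i : Fin r => ((z ^ (i : ℕ) : Γ) : Γ ⧸ T)) := by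
      intro q
      obtain ⟨g, rfl⟩ := QuotientGroup.mk_surjective q
      obtain ⟨j, k, hk, rfl⟩ := hgen g
      refine ⟨⟨j % r, Nat.mod_lt j hr0⟩, ?_⟩
      show ((z ^ (j % r) : Γ) : Γ ⧸ T) = ((z ^ j * k : Γ) : Γ ⧸ T)
      rw [QuotientGroup.eq]
      have h6 : (z ^ (j % r))⁻¹ * (z ^ j * k) = (z ^ r) ^ (j / r) * k := by
        have h7 : z ^ j = z ^ (j % r) * (z ^ r) ^ (j / r) := by
          rw [← pow_mul, ← pow_add, Nat.mod_add_div]
        rw [h7]
        group
      rw [h6]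
      exact T.mul_mem (T.pow_mem hzr _) (hNT hk)
    have h8 := Nat.card_le_card_of_surjective _ hsurj
    rw [Nat.card_fin] at h8
    exact h8
  rw [hdegη, hdegψ]
  exact Nat.mul_le_mul_right _ hidx

/-- Piece LE of CALL S4442L. -/
theorem d1_clifford_bound {G : Type u} [Group G] [Finite G] (H K : Subgroup G) (hKH : K ≤ H)
    (hnorm : ∀ h ∈ H, ∀ k ∈ K, h * k * h⁻¹ ∈ K) (z : G) (hz : z ∈ H)
    (hgen : ∀ h ∈ H, ∃ i : ℕ, ∃ k ∈ K, h = z ^ i * k)
    (θ : Cfsg.IrrCharacter K) (r : ℕ) (hr0 : 0 < r)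
    (hr : ∀ k k' : K, (k' : G) = z ^ r * (k : G) * (z ^ r)⁻¹ → (θ : K → ℂ) k' = (θ : K → ℂ) k)
    (η : Cfsg.IrrCharacter H)
    (hη : ∑ᶠ k : K, (η : H → ℂ) ⟨(k : G), hKH k.2⟩ * conj ((θ : K → ℂ) k) ≠ 0) :
    Cfsg.charDegree (η : H → ℂ) ≤ r * Cfsg.charDegree (θ : K → ℂ) := by
  classical
  haveI : Fintype G := Fintype.ofFinite G
  haveI hNn : (K.subgroupOf H).Normal := by
    constructor
    intro n hn g
    rw [Subgroup.mem_subgroupOf] at hn ⊢
    exact hnorm (g : G) g.2 (n : G) hn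
  obtain ⟨θ', hθ'def⟩ : ∃ θ' : ↥(K.subgroupOf H) → ℂ,
      θ' = fun x => (θ : K → ℂ) (Subgroup.subgroupOfEquivOfLe hKH x) := ⟨_, rfl⟩
  have hθ' : IsIrrCharacter ↥(K.subgroupOf H) θ' := by
    rw [hθ'def]
    exact (Helper79.isIrrCharacter_mulEquiv (Subgroup.subgroupOfEquivOfLe hKH)).mpr θ.2
  have hgen' : ∀ g : ↥H, ∃ i : ℕ, ∃ k ∈ K.subgroupOf H, g = (⟨z, hz⟩ : ↥H) ^ i * k := by
    intro g
    obtain ⟨i, k, hk, hgk⟩ := hgen (g : G) g.2
    refine ⟨i, ⟨k, hKH hk⟩, ?_, ?_⟩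
    · rw [Subgroup.mem_subgroupOf]
      exact hk
    · apply Subtype.ext
      rw [hgk]
      simp
  have hr' : Helper75.conjFun (K.subgroupOf H) ((⟨z, hz⟩ : ↥H) ^ r) θ' = θ' := by
    funext n
    rw [Helper75.conjFun_apply, hθ'def]
    apply hr
    simp
  have hne : classInner (fun n : ↥(K.subgroupOf H) => (η : H → ℂ) n) θ' ≠ 0 := by
    rw [hθ'def, Helper75.classInner_subgroupOf hKH (η : H → ℂ) (θ : K → ℂ)]
    unfold classInner
    rw [finsum_eq_sum_of_fintype] at hη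
    apply mul_ne_zero
    · exact inv_ne_zero (by exact_mod_cast Nat.card_pos.ne')
    · exact hη
  have h1 := d1le_core (K.subgroupOf H) (⟨z, hz⟩ : ↥H) hgen' θ' hθ' r hr0 hr' (η : H → ℂ) η.2 hne
  have h2 : charDegree θ' = charDegree (θ : K → ℂ) := by
    unfold charDegree
    rw [hθ'def]
    simp
  rw [h2] at h1
  exact h1

end Cfsg.Agent.Helper74
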