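import Mathlib
import Cfsg.Prelude.Def_Characters
import Cfsg.Agent.Helper80.CharIrr
import Cfsg.Agent.Helper75.LatBound

/-!
# Piece LN of CALL S4442L (helper74): the integer class function `cΘ`

For a Galois-stable finite set `Θ` of irreducible characters of a subgroup `K`, the function
`cΘ(k) = ∑_{θ ∈ Θ} θ(1) conj θ(k)` is integer valued, a class function, and satisfies the
convolution identity `cΘ * cΘ = |K| cΘ`.
-/

universe u
set_option autoImplicit false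
open Cfsg Matrix
open scoped ComplexConjugate

namespace Cfsg.Agent.Helper74

theorem d1_cTheta {G : Type u} [Group G] [Fintype G] (K : Subgroup G) [DecidablePred (· ∈ K)]
    (Θ : Finset (Cfsg.IrrCharacter K))
    (hΘ : ∀ θ ∈ Θ, ∀ σ : ℂ ≃+* ℂ, ∃ θ' ∈ Θ, ∀ k : K, (θ' : K → ℂ) k = σ ((θ : K → ℂ) k)) :
    ∃ cΘ : K → ℤ,
      (∀ k : K, ((cΘ k : ℤ) : ℂ) = ∑ θ ∈ Θ, (θ : K → ℂ) 1 * conj ((θ : K → ℂ) k)) ∧
      (∀ k : K, ∑ k₁ : K, cΘ k₁ * cΘ (k₁⁻¹ * k) = (Nat.card K : ℤ) * cΘ k) ∧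
      (∀ k k₁ : K, cΘ (k₁ * k * k₁⁻¹) = cΘ k) := by
  classical
  have hchar : ∀ χ : Cfsg.IrrCharacter K, IsCharacter K (χ : K → ℂ) :=
    fun χ => Cfsg.Agent.Helper80.isCharacter_of_irr χ.2
  have hint : ∀ k : K, ∃ n : ℤ, ∑ θ ∈ Θ, (θ : K → ℂ) 1 * (θ : K → ℂ) k = (n : ℂ) :=
    fun k => Cfsg.Agent.Helper75.lat_int Θ hΘ k
  choose n hn using hint
  set e : K → ℤ := fun u => n u⁻¹ with he_def
  have hecast : ∀ u : K, ((e u : ℤ) : ℂ) = ∑ χ ∈ Θ, (χ : K → ℂ) 1 * (χ : K → ℂ) u⁻¹ :=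
    fun u => (hn u⁻¹).symm
  have hcl : ∀ g h : K, e (h * g * h⁻¹) = e g := by
    intro g h
    have : ((e (h * g * h⁻¹) : ℤ) : ℂ) = ((e g : ℤ) : ℂ) := by
      rw [hecast, hecast]
      refine Finset.sum_congr rfl (fun χ _ => ?_)
      congr 1
      have h1 : (h * g * h⁻¹)⁻¹ = h * g⁻¹ * h⁻¹ := by group
      rw [h1]
      exact Cfsg.Agent.Helper80.isCharacter_conj (hchar χ) g⁻¹ h
    exact_mod_cast this
  have he : ∀ h, ∑ u, e u * e (u⁻¹ * h) = (Fintype.card K : ℤ) * e h := by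
    intro h
    have : ((∑ u, e u * e (u⁻¹ * h) : ℤ) : ℂ) = (((Fintype.card K : ℤ) * e h : ℤ) : ℂ) := by
      push_cast
      simp only [hecast]
      have key : ∀ χ ∈ Θ, ∀ θ ∈ Θ,
          ∑ u : K, ((χ : K → ℂ) 1 * (χ : K → ℂ) u⁻¹) * ((θ : K → ℂ) 1 * (θ : K → ℂ) (u⁻¹ * h)⁻¹)
          = if χ = θ then (Fintype.card K : ℂ) * ((χ : K → ℂ) 1 * (χ : K → ℂ) h⁻¹) else 0 := by
        intro χ _ θ _
        have h1 := Cfsg.Agent.Helper80.irr_conv χ θ h⁻¹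
        have h2 : ∀ u : K, ((χ : K → ℂ) 1 * (χ : K → ℂ) u⁻¹) *
            ((θ : K → ℂ) 1 * (θ : K → ℂ) (u⁻¹ * h)⁻¹)
            = (χ : K → ℂ) 1 * (θ : K → ℂ) 1 * ((χ : K → ℂ) u⁻¹ * (θ : K → ℂ) (u * h⁻¹)) := by
          intro u
          have h3 : (u⁻¹ * h)⁻¹ = h⁻¹ * u := by group
          rw [h3, Cfsg.Agent.Helper80.isCharacter_mul_comm (hchar θ) u h⁻¹]
          ring
        simp only [h2]
        rw [← Finset.mul_sum, h1]
        by_cases hχθ : χ = θ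
        · subst hχθ
          rw [if_pos rfl, if_pos rfl]
          have hne := Cfsg.Agent.Helper80.irr_one_ne_zero χ
          field_simp
        · rw [if_neg hχθ, if_neg hχθ, mul_zero]
      calc ∑ u : K, (∑ χ ∈ Θ, (χ : K → ℂ) 1 * (χ : K → ℂ) u⁻¹) *
            (∑ θ ∈ Θ, (θ : K → ℂ) 1 * (θ : K → ℂ) (u⁻¹ * h)⁻¹)
          = ∑ χ ∈ Θ, ∑ θ ∈ Θ, ∑ u : K, ((χ : K → ℂ) 1 * (χ : K → ℂ) u⁻¹) *
              ((θ : K → ℂ) 1 * (θ : K → ℂ) (u⁻¹ * h)⁻¹) := by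
            simp_rw [Finset.sum_mul_sum]
            rw [Finset.sum_comm]
            refine Finset.sum_congr rfl (fun χ _ => ?_)
            rw [Finset.sum_comm]
        _ = ∑ χ ∈ Θ, ∑ θ ∈ Θ,
              (if χ = θ then (Fintype.card K : ℂ) * ((χ : K → ℂ) 1 * (χ : K → ℂ) h⁻¹) else 0) := by
            refine Finset.sum_congr rfl (fun χ hχ => ?_)
            refine Finset.sum_congr rfl (fun θ hθ => ?_)
            exact key χ hχ θ hθ
        _ = ∑ χ ∈ Θ, (Fintype.card K : ℂ) * ((χ : K → ℂ) 1 * (χ : K → ℂ) h⁻¹) := by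
            refine Finset.sum_congr rfl (fun χ hχ => ?_)
            rw [Finset.sum_ite_eq Θ χ, if_pos hχ]
        _ = (Fintype.card K : ℂ) * ∑ χ ∈ Θ, (χ : K → ℂ) 1 * (χ : K → ℂ) h⁻¹ := by
            rw [Finset.mul_sum]
    exact_mod_cast this
  refine ⟨e, fun k => ?_, fun k => ?_, fun k k₁ => hcl k k₁⟩
  · rw [hecast]
    refine Finset.sum_congr rfl (fun χ _ => ?_)
    rw [Cfsg.Agent.Helper80.isCharacter_inv (hchar χ) k]
  · rw [he k, Nat.card_eq_fintype_card]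

end Cfsg.Agent.Helper74
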