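import Mathlib

/-!
# Helper74: the arithmetical core of the Glauberman correspondence (cyclic case)

Pure finite Fourier analysis on `ZMod p` plus an integer inequality.
-/

set_option autoImplicit false

namespace Cfsg.Agent.Helper74

open scoped ComplexConjugate

section IntLemma

theorem sq_add_sq_ge_one (x y : ℤ) (h : x ≠ y) : 1 ≤ x ^ 2 + y ^ 2 := by
  rcases eq_or_ne x 0 with rfl | hx
  · have hy : y ≠ 0 := fun h0 => h h0.symm
    have := Int.one_le_abs hy
    nlinarith [sq_abs y, abs_nonneg y]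
  · have := Int.one_le_abs hx
    nlinarith [sq_abs x, abs_nonneg x, sq_nonneg y]

theorem one_le_sq_of_ne (x : ℤ) (h : x ≠ 0) : 1 ≤ x ^ 2 := by
  have := Int.one_le_abs h
  nlinarith [sq_abs x, abs_nonneg x]

variable {ι : Type*} [Fintype ι]

theorem two_mul_var (N : ι → ℤ) :
    2 * ((Fintype.card ι : ℤ) * ∑ j, N j ^ 2 - (∑ j, N j) ^ 2) =
      ∑ i, ∑ j, (N i - N j) ^ 2 := by
  have h1 : ∀ i, ∑ j, (N i - N j) ^ 2 =
      (Fintype.card ι : ℤ) * N i ^ 2 - 2 * N i * (∑ j, N j) + ∑ j, N j ^ 2 := by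
    intro i
    simp only [sub_sq, Finset.sum_add_distrib, Finset.sum_sub_distrib, Finset.sum_const,
      Finset.card_univ, nsmul_eq_mul, ← Finset.mul_sum]
  simp only [h1, Finset.sum_add_distrib, Finset.sum_sub_distrib, Finset.sum_const,
    Finset.card_univ, nsmul_eq_mul, ← Finset.mul_sum, ← Finset.sum_mul]
  ring

theorem var_nonneg (N : ι → ℤ) :
    0 ≤ (Fintype.card ι : ℤ) * ∑ j, N j ^ 2 - (∑ j, N j) ^ 2 := by
  have h := two_mul_var N
  have h2 : 0 ≤ ∑ i, ∑ j, (N i - N j) ^ 2 :=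
    Finset.sum_nonneg fun i _ => Finset.sum_nonneg fun j _ => sq_nonneg _
  linarith

theorem var_ge (N : ι → ℤ)
    (hne : (Fintype.card ι : ℤ) * ∑ j, N j ^ 2 - (∑ j, N j) ^ 2 ≠ 0) :
    (Fintype.card ι : ℤ) - 1 ≤ (Fintype.card ι : ℤ) * ∑ j, N j ^ 2 - (∑ j, N j) ^ 2 := by
  classical
  have h := two_mul_var N
  -- N is not constant
  obtain ⟨a, b, hab⟩ : ∃ a b, N a ≠ N b := by
    by_contra hcon
    push Not at hcon
    apply hne
    have : ∑ i, ∑ j, (N i - N j) ^ 2 = 0 := by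
      apply Finset.sum_eq_zero
      intro i _
      apply Finset.sum_eq_zero
      intro j _
      rw [hcon i j, sub_self]
      ring
    rw [this] at h
    linarith
  have hab' : a ≠ b := fun h0 => hab (by rw [h0])
  set R : ι → ℤ := fun i => ∑ j, (N i - N j) ^ 2 with hR
  have hRnn : ∀ i, 0 ≤ R i := fun i => Finset.sum_nonneg fun j _ => sq_nonneg _
  have hR1 : ∀ i, 1 ≤ R i := by
    intro i
    by_cases hia : N i = N a
    · have : (N i - N b) ^ 2 ≤ R i :=
        Finset.single_le_sum (f := fun j => (N i - N j) ^ 2) (fun j _ => sq_nonneg _)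
          (Finset.mem_univ b)
      have h2 : 1 ≤ (N i - N b) ^ 2 :=
        one_le_sq_of_ne _ (sub_ne_zero.mpr (by rw [hia]; exact hab))
      linarith
    · have : (N i - N a) ^ 2 ≤ R i :=
        Finset.single_le_sum (f := fun j => (N i - N j) ^ 2) (fun j _ => sq_nonneg _)
          (Finset.mem_univ a)
      have h2 : 1 ≤ (N i - N a) ^ 2 := one_le_sq_of_ne _ (sub_ne_zero.mpr hia)
      linarith
  have hRab : (Fintype.card ι : ℤ) ≤ R a + R b := by
    simp only [hR]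
    rw [← Finset.sum_add_distrib]
    have : ∀ j ∈ (Finset.univ : Finset ι), (1 : ℤ) ≤ (N a - N j) ^ 2 + (N b - N j) ^ 2 :=
      fun j _ => sq_add_sq_ge_one _ _ (fun h0 => hab (by linarith))
    have h3 := Finset.card_nsmul_le_sum Finset.univ _ 1 this
    rw [Finset.card_univ, nsmul_eq_mul, mul_one] at h3
    exact h3
  have hsplit : ∑ i, R i = R a + (R b + ∑ i ∈ (Finset.univ.erase a).erase b, R i) := by
    rw [← Finset.add_sum_erase Finset.univ R (Finset.mem_univ a),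
      ← Finset.add_sum_erase (Finset.univ.erase a) R
        (Finset.mem_erase.mpr ⟨hab'.symm, Finset.mem_univ b⟩)]
  have hrest : ((Fintype.card ι : ℤ) - 2) ≤ ∑ i ∈ (Finset.univ.erase a).erase b, R i := by
    have h3 := Finset.card_nsmul_le_sum ((Finset.univ.erase a).erase b) R 1
      (fun i _ => hR1 i)
    rw [Finset.card_erase_of_mem (Finset.mem_erase.mpr ⟨hab'.symm, Finset.mem_univ b⟩),
      Finset.card_erase_of_mem (Finset.mem_univ a), Finset.card_univ, nsmul_eq_mul,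
      mul_one] at h3
    have h4 : 2 ≤ Fintype.card ι := by
      rw [← Finset.card_univ]
      calc 2 = ({a, b} : Finset ι).card := (Finset.card_pair hab').symm
        _ ≤ Finset.univ.card := Finset.card_le_card (Finset.subset_univ _)
    have h5 : ((Fintype.card ι - 1 - 1 : ℕ) : ℤ) = (Fintype.card ι : ℤ) - 2 := by omega
    rw [h5] at h3
    exact h3
  have htot : ∑ i, ∑ j, (N i - N j) ^ 2 = ∑ i, R i := rfl
  rw [htot, hsplit] at h
  linarith

end IntLemma

section Fourier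

variable {p : ℕ} [Fact p.Prime]

instance neZero_of_fact_prime : NeZero p := ⟨(Fact.out : p.Prime).ne_zero⟩

/-- Fourier inversion on `ZMod p`. -/
theorem fourier_inv (e : AddChar (ZMod p) ℂ) (he : e.IsPrimitive) (a : ZMod p → ℂ)
    (N : ZMod p → ℂ) (hN : ∀ j, N j = (p : ℂ)⁻¹ * ∑ i, e (-(j * i)) * a i) (k : ZMod p) :
    a k = ∑ j, e (j * k) * N j := by
  classical
  have hp0 : (p : ℂ) ≠ 0 := by exact_mod_cast (Fact.out : p.Prime).ne_zero
  have h1 : ∑ j, e (j * k) * N j = (p : ℂ)⁻¹ * ∑ i, a i * ∑ j : ZMod p, e (j * (k - i)) := by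
    simp only [hN, Finset.mul_sum]
    rw [Finset.sum_comm]
    refine Finset.sum_congr rfl fun i _ => Finset.sum_congr rfl fun j _ => ?_
    have : e (j * (k - i)) = e (j * k) * e (-(j * i)) := by
      rw [← AddChar.map_add_eq_mul]
      congr 1
      ring
    rw [this]
    ring
  rw [h1]
  simp only [AddChar.sum_mulShift _ he, sub_eq_zero]
  rw [Finset.sum_eq_single k]
  · rw [if_pos rfl, ZMod.card]
    field_simp
  · intro i _ hik
    rw [if_neg (fun h => hik h.symm)]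
    simp
  · intro h
    exact absurd (Finset.mem_univ k) h

/-- Parseval on `ZMod p`. -/
theorem fourier_parseval (e : AddChar (ZMod p) ℂ) (he : e.IsPrimitive)
    (hconj : ∀ x, conj (e x) = e (-x)) (a : ZMod p → ℂ) (N : ZMod p → ℕ)
    (ha : ∀ k, a k = ∑ j, e (j * k) * (N j : ℂ)) :
    ∑ k, a k * conj (a k) = (p : ℂ) * ∑ j, ((N j : ℂ)) ^ 2 := by
  classical
  have h1 : ∀ k, a k * conj (a k) =
      ∑ j, ∑ j', (N j : ℂ) * (N j' : ℂ) * e (k * (j - j')) := by
    intro k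
    rw [ha k, map_sum, Finset.sum_mul_sum]
    refine Finset.sum_congr rfl fun j _ => Finset.sum_congr rfl fun j' _ => ?_
    rw [(starRingEnd ℂ).map_mul, hconj, Complex.conj_natCast]
    have : e (k * (j - j')) = e (j * k) * e (-(j' * k)) := by
      rw [← AddChar.map_add_eq_mul]
      congr 1
      ring
    rw [this]
    ring
  simp only [h1]
  rw [Finset.sum_comm, Finset.mul_sum]
  refine Finset.sum_congr rfl fun j _ => ?_
  rw [Finset.sum_comm]
  simp only [← Finset.mul_sum, AddChar.sum_mulShift _ he, sub_eq_zero]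
  rw [Finset.sum_eq_single j]
  · rw [if_pos rfl, ZMod.card]
    ring
  · intro j' _ hjj
    rw [if_neg (fun h => hjj h.symm)]
    simp
  · intro h
    exact absurd (Finset.mem_univ j) h

/-- The arithmetical core. -/
theorem arith_core {X : Type*} [Fintype X] [DecidableEq X]
    (e : AddChar (ZMod p) ℂ) (he : e.IsPrimitive) (hconj : ∀ x, conj (e x) = e (-x))
    (a : X → ZMod p → ℂ) (N : X → ZMod p → ℕ)
    (hN : ∀ β j, (N β j : ℂ) = (p : ℂ)⁻¹ * ∑ i, e (-(j * i)) * a β i)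
    (hnorm : ∀ i, i ≠ 0 → ∑ β, a β i * conj (a β i) = 1) :
    (∀ β, a β 0 = ((∑ j, N β j : ℕ) : ℂ)) ∧
    ∃ β₀, ¬ p ∣ ∑ j, N β₀ j ∧ (∀ β, β ≠ β₀ → p ∣ ∑ j, N β j) ∧
      (((∑ j, N β₀ j : ℕ) : ℤ) ≡ 1 [ZMOD p] ∨ ((∑ j, N β₀ j : ℕ) : ℤ) ≡ -1 [ZMOD p]) ∧
      (∀ β, β ≠ β₀ → ∀ i, i ≠ 0 → a β i = 0) ∧
      (∀ i, i ≠ 0 → a β₀ i * conj (a β₀ i) = 1) := by
  classical
  have hp : p.Prime := Fact.out
  have hinv : ∀ β k, a β k = ∑ j, e (j * k) * (N β j : ℂ) :=
    fun β k => fourier_inv e he (a β) (fun j => (N β j : ℂ)) (hN β) k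
  have h0 : ∀ β, a β 0 = ((∑ j, N β j : ℕ) : ℂ) := by
    intro β
    rw [hinv β 0]
    push_cast
    refine Finset.sum_congr rfl fun j _ => ?_
    rw [mul_zero, AddChar.map_zero_eq_one, one_mul]
  refine ⟨h0, ?_⟩
  have hpars : ∀ β, ∑ k, a β k * conj (a β k) = (p : ℂ) * ∑ j, ((N β j : ℂ)) ^ 2 :=
    fun β => fourier_parseval e he hconj (a β) (N β) (hinv β)
  set s : X → ℤ := fun β => ((∑ j, N β j : ℕ) : ℤ) with hs
  set Ez : X → ℤ := fun β => (p : ℤ) * ∑ j, ((N β j : ℤ)) ^ 2 - (s β) ^ 2 with hEz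
  have hcard : Fintype.card (ZMod p) = p := ZMod.card p
  have hEz' : ∀ β, Ez β = (Fintype.card (ZMod p) : ℤ) * ∑ j, ((N β j : ℤ)) ^ 2 -
      (∑ j, (N β j : ℤ)) ^ 2 := by
    intro β
    simp only [hEz, hs]
    rw [hcard]
    push_cast
    rfl
  have hE : ∀ β, ((Ez β : ℤ) : ℂ) = ∑ k ∈ Finset.univ.erase (0 : ZMod p), a β k * conj (a β k) := by
    intro β
    have h1 := hpars β
    rw [← Finset.add_sum_erase Finset.univ _ (Finset.mem_univ (0 : ZMod p)), h0 β] at h1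
    have h2 : ∑ k ∈ Finset.univ.erase (0 : ZMod p), a β k * conj (a β k) =
        (p : ℂ) * ∑ j, ((N β j : ℂ)) ^ 2 -
          ((∑ j, N β j : ℕ) : ℂ) * conj ((∑ j, N β j : ℕ) : ℂ) := by
      rw [← h1]; ring
    rw [h2, Complex.conj_natCast]
    simp only [hEz, hs]
    push_cast
    ring
  have hsum : ∑ β, Ez β = (p : ℤ) - 1 := by
    have h1 : ((∑ β, Ez β : ℤ) : ℂ) = ((p : ℤ) - 1 : ℤ) := by
      push_cast
      simp only [hE]
      rw [Finset.sum_comm]
      rw [Finset.sum_congr rfl (g := fun _ => (1 : ℂ))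
        (fun k hk => hnorm k (Finset.ne_of_mem_erase hk))]
      rw [Finset.sum_const, Finset.card_erase_of_mem (Finset.mem_univ _), Finset.card_univ,
        hcard, nsmul_eq_mul, mul_one, Nat.cast_sub hp.one_lt.le]
      simp
    exact_mod_cast h1
  have hnn : ∀ β, 0 ≤ Ez β := fun β => by rw [hEz']; exact var_nonneg _
  have hge : ∀ β, Ez β ≠ 0 → (p : ℤ) - 1 ≤ Ez β := by
    intro β hne
    rw [hEz'] at hne ⊢
    have := var_ge _ hne
    rw [hcard] at this
    rw [hcard]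
    exact this
  have hp2 : (2 : ℤ) ≤ p := by exact_mod_cast hp.two_le
  obtain ⟨β₀, hβ₀⟩ : ∃ β₀, Ez β₀ ≠ 0 := by
    by_contra hcon
    push Not at hcon
    rw [Finset.sum_eq_zero (fun β _ => hcon β)] at hsum
    omega
  have hβ₀ge := hge β₀ hβ₀
  have hsplit : ∑ β, Ez β = Ez β₀ + ∑ β ∈ Finset.univ.erase β₀, Ez β :=
    (Finset.add_sum_erase Finset.univ Ez (Finset.mem_univ β₀)).symm
  have hrest_nn : 0 ≤ ∑ β ∈ Finset.univ.erase β₀, Ez β :=
    Finset.sum_nonneg fun β _ => hnn β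
  have hrest0 : ∑ β ∈ Finset.univ.erase β₀, Ez β = 0 := by omega
  have hEβ₀ : Ez β₀ = (p : ℤ) - 1 := by omega
  have hEother : ∀ β, β ≠ β₀ → Ez β = 0 := by
    intro β hβ
    exact (Finset.sum_eq_zero_iff_of_nonneg (fun β _ => hnn β)).mp hrest0 β
      (Finset.mem_erase.mpr ⟨hβ, Finset.mem_univ β⟩)
  have hpz : Prime (p : ℤ) := Nat.prime_iff_prime_int.mp hp
  have hzero_of : ∀ β, Ez β = 0 → ∀ i, i ≠ 0 → a β i = 0 := by
    intro β hβ i hi
    have h1 := hE β
    rw [hβ] at h1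
    have h2 : ∀ k, a β k * conj (a β k) = ((Complex.normSq (a β k) : ℝ) : ℂ) :=
      fun k => Complex.mul_conj _
    simp only [h2] at h1
    rw [← Complex.ofReal_sum] at h1
    have h3 : ∑ k ∈ Finset.univ.erase (0 : ZMod p), Complex.normSq (a β k) = 0 := by
      have : ((0 : ℤ) : ℂ) = ((0 : ℝ) : ℂ) := by simp
      rw [this] at h1
      exact (Complex.ofReal_injective h1).symm
    have h4 := (Finset.sum_eq_zero_iff_of_nonneg
      (fun k _ => Complex.normSq_nonneg (a β k))).mp h3 i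
      (Finset.mem_erase.mpr ⟨hi, Finset.mem_univ i⟩)
    exact Complex.normSq_eq_zero.mp h4
  refine ⟨β₀, ?_, ?_, ?_, ?_, ?_⟩
  · -- p ∤ s β₀
    intro hdvd
    have h1 : (p : ℤ) ∣ s β₀ := by
      simp only [hs]
      exact_mod_cast hdvd
    have h2 : (p : ℤ) ∣ (s β₀) ^ 2 := dvd_pow h1 two_ne_zero
    have h3 : (p : ℤ) ∣ (p : ℤ) * ∑ j, ((N β₀ j : ℤ)) ^ 2 - Ez β₀ := by
      simp only [hEz]
      rw [sub_sub_cancel]
      exact h2
    rw [hEβ₀] at h3
    have h4 : (p : ℤ) ∣ (p : ℤ) * ∑ j, ((N β₀ j : ℤ)) ^ 2 := dvd_mul_right _ _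
    have h5 : (p : ℤ) ∣ 1 := by
      have := dvd_sub (dvd_sub h4 h3) (dvd_refl (p : ℤ))
      have e : (p : ℤ) * ∑ j, ((N β₀ j : ℤ)) ^ 2 - ((p : ℤ) * ∑ j, ((N β₀ j : ℤ)) ^ 2 -
          ((p : ℤ) - 1)) - (p : ℤ) = -1 := by ring
      rw [e] at this
      exact (dvd_neg.mp this)
    have := Int.le_of_dvd one_pos h5
    omega
  · -- p ∣ s β for β ≠ β₀
    intro β hβ
    have h1 := hEother β hβ
    simp only [hEz] at h1
    have h2 : (p : ℤ) ∣ (s β) ^ 2 := by
      have : (s β) ^ 2 = (p : ℤ) * ∑ j, ((N β j : ℤ)) ^ 2 := by linarith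
      rw [this]
      exact dvd_mul_right _ _
    have h3 : (p : ℤ) ∣ s β := hpz.dvd_of_dvd_pow h2
    simp only [hs] at h3
    exact_mod_cast h3
  · -- s β₀ ≡ ±1
    have h1 : (s β₀ - 1) * (s β₀ + 1) = (p : ℤ) * (∑ j, ((N β₀ j : ℤ)) ^ 2 - 1) := by
      have := hEβ₀
      simp only [hEz] at this
      linarith [this]
    have h2 : (p : ℤ) ∣ (s β₀ - 1) * (s β₀ + 1) := by rw [h1]; exact dvd_mul_right _ _
    rcases hpz.dvd_or_dvd h2 with h3 | h3
    · left
      exact (Int.modEq_iff_dvd.mpr h3).symm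
    · right
      exact (Int.modEq_iff_dvd.mpr (by rw [sub_neg_eq_add]; exact h3)).symm
  · intro β hβ i hi
    exact hzero_of β (hEother β hβ) i hi
  · intro i hi
    have h1 := hnorm i hi
    rw [Finset.sum_eq_single β₀] at h1
    · exact h1
    · intro β _ hβ
      rw [hzero_of β (hEother β hβ) i hi, zero_mul]
    · intro h
      exact absurd (Finset.mem_univ β₀) h

end Fourier

end Cfsg.Agent.Helper74
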