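import Cfsg.Agent.Helper3.Induced
import Cfsg.Agent.Helper75.Clifford

/-!
# Helper74: auxiliary lemmas for the Glauberman correspondence

* Parseval for class functions with respect to the irreducible characters.
* The orbit lemma: for a map `s` with `s^[p] = id` and an `s`-invariant `t : X → ℕ`,
  `∑ t ≡ ∑_{fixed points} t (mod p)`.
-/

set_option autoImplicit false

namespace Cfsg.Agent.Helper74

open scoped ComplexConjugate

section Inner

variable {C : Type*} [Group C] [Fintype C]

theorem classInner_sum_smul_left {ι : Type*} (s : Finset ι) (c : ι → ℂ) (f : ι → C → ℂ)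
    (ψ : C → ℂ) :
    Cfsg.classInner (∑ i ∈ s, c i • f i) ψ = ∑ i ∈ s, c i * Cfsg.classInner (f i) ψ := by
  unfold Cfsg.classInner
  simp only [Finset.sum_apply, Pi.smul_apply, smul_eq_mul, Finset.sum_mul, Finset.mul_sum]
  rw [Finset.sum_comm]
  refine Finset.sum_congr rfl fun i _ => Finset.sum_congr rfl fun g _ => ?_
  ring

/-- Parseval: for a class function `ψ`, `⟨ψ, ψ'⟩ = ∑_β ⟨ψ, β⟩ conj ⟨ψ', β⟩`. -/
theorem classInner_parseval [Fintype (Cfsg.IrrCharacter C)] (ψ ψ' : C → ℂ)
    (hψ : Cfsg.IsClassFunction C ψ) :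
    Cfsg.classInner ψ ψ' = ∑ β : Cfsg.IrrCharacter C,
      Cfsg.classInner ψ (β : C → ℂ) * conj (Cfsg.classInner ψ' (β : C → ℂ)) := by
  conv_lhs => rw [Helper3.classFunction_eq_sum ψ hψ]
  rw [classInner_sum_smul_left]
  refine Finset.sum_congr rfl fun β _ => ?_
  rw [Helper75.classInner_conj_symm ψ' (β : C → ℂ)]

end Inner

section Orbit

variable {X : Type*} [Fintype X] [DecidableEq X]

/-- The orbit lemma. -/
theorem orbit_sum_modEq (p : ℕ) [Fact p.Prime] (s : X → X) (hs : ∀ x, s^[p] x = x)
    (t : X → ℕ) (ht : ∀ x, t (s x) = t x) :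
    ∑ x, t x ≡ ∑ x ∈ Finset.univ.filter (fun x => s x = x), t x [MOD p] := by
  classical
  have hp : p.Prime := Fact.out
  let Y := Σ x : X, Fin (t x)
  let f : Y → Y := fun y => ⟨s y.1, Fin.cast (ht y.1).symm y.2⟩
  have hf1 : ∀ y : Y, (f y).1 = s y.1 := fun y => rfl
  have hf2 : ∀ y : Y, ((f y).2 : ℕ) = (y.2 : ℕ) := fun y => rfl
  have hiter : ∀ (j : ℕ) (y : Y), (f^[j] y).1 = s^[j] y.1 ∧ ((f^[j] y).2 : ℕ) = (y.2 : ℕ) := by
    intro j
    induction j with
    | zero => intro y; exact ⟨rfl, rfl⟩
    | succ j ih =>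
      intro y
      rw [Function.iterate_succ_apply', Function.iterate_succ_apply']
      exact ⟨by rw [hf1, (ih y).1], by rw [hf2, (ih y).2]⟩
  have hfp : ∀ y : Y, f^[p] y = y := by
    intro y
    obtain ⟨e1, e2⟩ := hiter p y
    rw [hs] at e1
    apply Sigma.ext e1
    rw [Fin.heq_ext_iff (congrArg t e1)]
    exact e2
  obtain ⟨q, hq⟩ : ∃ q, p = q + 1 := Nat.exists_eq_succ_of_ne_zero hp.ne_zero
  let F : Equiv.Perm Y :=
    { toFun := f
      invFun := f^[q]
      left_inv := fun y => by
        have := hfp y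
        rw [hq, Function.iterate_succ_apply] at this
        exact this
      right_inv := fun y => by
        have := hfp y
        rw [hq, Function.iterate_succ_apply'] at this
        exact this }
  have hF : F ^ p ^ 1 = 1 := by
    rw [pow_one]
    ext1 y
    rw [← Equiv.Perm.iterate_eq_pow]
    exact hfp y
  have hmain := Equiv.Perm.card_compl_support_modEq (p := p) (n := 1) hF
  have hcardY : Fintype.card Y = ∑ x, t x := by
    simp [Y, Fintype.card_sigma]
  have hfix : ∀ y : Y, y ∈ F.supportᶜ ↔ s y.1 = y.1 := by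
    intro y
    rw [Finset.mem_compl, Equiv.Perm.mem_support, not_not]
    constructor
    · intro h
      have := congrArg Sigma.fst h
      exact this
    · intro h
      show f y = y
      apply Sigma.ext h
      rw [Fin.heq_ext_iff (congrArg t h)]
      rfl
  have hcardF : F.supportᶜ.card = ∑ x ∈ Finset.univ.filter (fun x => s x = x), t x := by
    have e0 : F.supportᶜ.card = Fintype.card {y : Y // y ∈ F.supportᶜ} :=
      (Fintype.card_coe _).symm
    have e1 : {y : Y // y ∈ F.supportᶜ} ≃ {y : Y // s y.1 = y.1} :=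
      Equiv.subtypeEquivRight hfix
    have e2 : {y : Y // s y.1 = y.1} ≃ Σ x : {x : X // s x = x}, Fin (t x.1) :=
      Equiv.subtypeSigmaEquiv (fun x => Fin (t x)) (fun x => s x = x)
    rw [e0, Fintype.card_congr (e1.trans e2), Fintype.card_sigma]
    simp only [Fintype.card_fin]
    rw [Finset.sum_subtype (Finset.univ.filter (fun x => s x = x)) (p := fun x => s x = x)
      (by simp) (fun x => t x)]
  rw [hcardY, hcardF] at hmain
  exact hmain.symm

end Orbit

end Cfsg.Agent.Helper74
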