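import Cfsg.Agent.Helper74.GlaubCyclic2

/-!
# Helper74: composing two Glauberman correspondences; the base case of an isomorphism
-/

set_option autoImplicit false

namespace Cfsg.Agent.Helper74

open Representation Cfsg

open scoped ComplexConjugate

section Comp

variable {G : Type*} [Group G] [Fintype G] {D : Type*} [Group D] [Fintype D] {C : Type*} [Group C]
  [Fintype C] {p : ℕ} [Fact p.Prime]

theorem classInner_comp_equiv (b : D ≃ D) (f g : D → ℂ) :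
    classInner (fun x => f (b x)) (fun x => g (b x)) = classInner f g := by
  unfold classInner
  congr 1
  exact Equiv.sum_comp b (fun x => f x * conj (g x))

/-- Transitivity of multiplicities. -/
theorem mult_trans [Fintype (IrrCharacter D)] (ι₁ : D →* G) (ι₂ : C →* D)
    (χ : IrrCharacter G) (β : IrrCharacter C) (m1 : IrrCharacter D → ℕ)
    (m2 : IrrCharacter D → ℕ)
    (hm1 : ∀ δ : IrrCharacter D,
      classInner (fun d : D => (χ : G → ℂ) (ι₁ d)) (δ : D → ℂ) = (m1 δ : ℂ))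
    (hm2 : ∀ δ : IrrCharacter D,
      classInner (fun c : C => (δ : D → ℂ) (ι₂ c)) (β : C → ℂ) = (m2 δ : ℂ)) :
    classInner (fun c : C => (χ : G → ℂ) ((ι₁.comp ι₂) c)) (β : C → ℂ) =
      ((∑ δ : IrrCharacter D, m1 δ * m2 δ : ℕ) : ℂ) := by
  have hcl : IsClassFunction D (fun d : D => (χ : G → ℂ) (ι₁ d)) :=
    Helper79.isCharacter_isClassFunction
      (Helper79.isCharacter_comp (Helper79.irr_isCharacter χ) ι₁)
  have h1 := Helper3.classFunction_eq_sum _ hcl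
  have h2 : (fun c : C => (χ : G → ℂ) ((ι₁.comp ι₂) c)) =
      ∑ δ : IrrCharacter D, (m1 δ : ℂ) • (fun c : C => (δ : D → ℂ) (ι₂ c)) := by
    funext c
    have := congrFun h1 (ι₂ c)
    simp only [hm1] at this
    rw [MonoidHom.comp_apply, this]
    simp [Finset.sum_apply]
  rw [h2, classInner_sum_smul_left]
  push_cast
  refine Finset.sum_congr rfl fun δ _ => ?_
  rw [hm2]

/-- Composition of two correspondences. -/
theorem glaubCorr_comp (ι₁ : D →* G) (ι₂ : C →* D)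
    (Inv₁ : IrrCharacter G → Prop) (Inv₂ : IrrCharacter D → Prop) (Inv : IrrCharacter G → Prop)
    (R1 : GlaubCorr p Inv₁ ι₁) (R2 : GlaubCorr p Inv₂ ι₂)
    (h1 : ∀ χ, Inv χ → Inv₁ χ)
    (hK1 : ∀ χ : IrrCharacter G, Inv χ → ∀ (δ : IrrCharacter D) (m : ℕ),
      classInner (fun d : D => (χ : G → ℂ) (ι₁ d)) (δ : D → ℂ) = (m : ℂ) → ¬ p ∣ m → Inv₂ δ)
    (hK4 : ∀ (χ : IrrCharacter G) (δ : IrrCharacter D) (m : ℕ), Inv₁ χ → Inv₂ δ →
      classInner (fun d : D => (χ : G → ℂ) (ι₁ d)) (δ : D → ℂ) = (m : ℂ) → ¬ p ∣ m → Inv χ) :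
    GlaubCorr p Inv (ι₁.comp ι₂) := by
  classical
  have hp : p.Prime := Fact.out
  letI : Fintype (IrrCharacter D) := Fintype.ofFinite _
  obtain ⟨i1, ii1, iii1, iv1⟩ := R1
  obtain ⟨i2, ii2, iii2, iv2⟩ := R2
  choose m1 hm1 using fun (χ : IrrCharacter G) (δ : IrrCharacter D) => exists_mult ι₁ χ δ
  choose m2 hm2 using fun (δ : IrrCharacter D) (β : IrrCharacter C) => exists_mult ι₂ δ β
  have htrans : ∀ (χ : IrrCharacter G) (β : IrrCharacter C),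
      classInner (fun c : C => (χ : G → ℂ) ((ι₁.comp ι₂) c)) (β : C → ℂ) =
        ((∑ δ : IrrCharacter D, m1 χ δ * m2 δ β : ℕ) : ℂ) :=
    fun χ β => mult_trans ι₁ ι₂ χ β (m1 χ) (fun δ => m2 δ β) (hm1 χ) (fun δ => hm2 δ β)
  -- the key reduction
  have key : ∀ χ : IrrCharacter G, Inv χ → ∃ δ₀ : IrrCharacter D, Inv₂ δ₀ ∧ ¬ p ∣ m1 χ δ₀ ∧
      (∀ δ : IrrCharacter D, ¬ p ∣ m1 χ δ → δ = δ₀) ∧
      ∀ β : IrrCharacter C,
        ∑ δ : IrrCharacter D, m1 χ δ * m2 δ β ≡ m1 χ δ₀ * m2 δ₀ β [MOD p] := by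
    intro χ hχ
    obtain ⟨δ₀, ⟨mm, hmm, hpmm⟩, huniq⟩ := i1 χ (h1 χ hχ)
    have e1 : m1 χ δ₀ = mm := by
      have : (m1 χ δ₀ : ℂ) = (mm : ℂ) := by rw [← hm1, hmm]
      exact_mod_cast this
    have hp1 : ¬ p ∣ m1 χ δ₀ := by rw [e1]; exact hpmm
    have hun : ∀ δ : IrrCharacter D, ¬ p ∣ m1 χ δ → δ = δ₀ :=
      fun δ hδ => huniq δ ⟨m1 χ δ, hm1 χ δ, hδ⟩
    refine ⟨δ₀, hK1 χ hχ δ₀ (m1 χ δ₀) (hm1 χ δ₀) hp1, hp1, hun, fun β => ?_⟩
    rw [← Finset.add_sum_erase Finset.univ _ (Finset.mem_univ δ₀)]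
    have hrest : p ∣ ∑ δ ∈ Finset.univ.erase δ₀, m1 χ δ * m2 δ β := by
      apply Finset.dvd_sum
      intro δ hδ
      have hne : δ ≠ δ₀ := Finset.ne_of_mem_erase hδ
      have : p ∣ m1 χ δ := by
        by_contra hcon
        exact hne (hun δ hcon)
      exact dvd_mul_of_dvd_left this _
    have := Nat.ModEq.add_left (m1 χ δ₀ * m2 δ₀ β) ((Nat.modEq_zero_iff_dvd).mpr hrest)
    simpa using this
  have cast_eq : ∀ (χ : IrrCharacter G) (β : IrrCharacter C) (m : ℕ),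
      classInner (fun c : C => (χ : G → ℂ) ((ι₁.comp ι₂) c)) (β : C → ℂ) = (m : ℂ) →
      m = ∑ δ : IrrCharacter D, m1 χ δ * m2 δ β := by
    intro χ β m hm
    have : (m : ℂ) = ((∑ δ : IrrCharacter D, m1 χ δ * m2 δ β : ℕ) : ℂ) := by
      rw [← hm, htrans]
    exact_mod_cast this
  have ndvd_iff : ∀ (χ : IrrCharacter G) (δ₀ : IrrCharacter D) (β : IrrCharacter C),
      ¬ p ∣ m1 χ δ₀ →
      ∑ δ : IrrCharacter D, m1 χ δ * m2 δ β ≡ m1 χ δ₀ * m2 δ₀ β [MOD p] →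
      (¬ p ∣ ∑ δ : IrrCharacter D, m1 χ δ * m2 δ β ↔ ¬ p ∣ m2 δ₀ β) := by
    intro χ δ₀ β hp1 hcong
    rw [not_iff_not]
    constructor
    · intro h
      have h2 : p ∣ m1 χ δ₀ * m2 δ₀ β :=
        (Nat.modEq_zero_iff_dvd).mp (hcong.symm.trans ((Nat.modEq_zero_iff_dvd).mpr h))
      rcases (Nat.Prime.dvd_mul hp).mp h2 with h3 | h3
      · exact absurd h3 hp1
      · exact h3
    · intro h
      exact (Nat.modEq_zero_iff_dvd).mp
        (hcong.trans ((Nat.modEq_zero_iff_dvd).mpr (dvd_mul_of_dvd_right h _)))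
  refine ⟨?_, ?_, ?_, ?_⟩
  · intro χ hχ
    obtain ⟨δ₀, hInv₂, hp1, hun, hcong⟩ := key χ hχ
    obtain ⟨β₀, ⟨k, hk, hpk⟩, huniq2⟩ := i2 δ₀ hInv₂
    have e1 : m2 δ₀ β₀ = k := by
      have : (m2 δ₀ β₀ : ℂ) = (k : ℂ) := by rw [← hm2, hk]
      exact_mod_cast this
    refine ⟨β₀, ⟨_, htrans χ β₀, (ndvd_iff χ δ₀ β₀ hp1 (hcong β₀)).mpr (by rw [e1]; exact hpk)⟩,
      ?_⟩
    rintro β ⟨m, hm, hpm⟩
    have e2 := cast_eq χ β m hm
    rw [e2] at hpm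
    exact huniq2 β ⟨m2 δ₀ β, hm2 δ₀ β, (ndvd_iff χ δ₀ β hp1 (hcong β)).mp hpm⟩
  · intro χ hχ β m hm hpm
    obtain ⟨δ₀, hInv₂, hp1, hun, hcong⟩ := key χ hχ
    have e2 := cast_eq χ β m hm
    rw [e2] at hpm ⊢
    have hp2 : ¬ p ∣ m2 δ₀ β := (ndvd_iff χ δ₀ β hp1 (hcong β)).mp hpm
    have c1 := ii1 χ (h1 χ hχ) δ₀ (m1 χ δ₀) (hm1 χ δ₀) hp1
    have c2 := ii2 δ₀ hInv₂ β (m2 δ₀ β) (hm2 δ₀ β) hp2
    have c3 : ((∑ δ : IrrCharacter D, m1 χ δ * m2 δ β : ℕ) : ℤ) ≡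
        (m1 χ δ₀ : ℤ) * (m2 δ₀ β : ℤ) [ZMOD p] := by
      have := (Int.natCast_modEq_iff).mpr (hcong β)
      push_cast at this ⊢
      exact this
    rcases c1 with c1 | c1 <;> rcases c2 with c2 | c2
    · left; simpa using c3.trans (c1.mul c2)
    · right; simpa using c3.trans (c1.mul c2)
    · right; simpa using c3.trans (c1.mul c2)
    · left; simpa using c3.trans (c1.mul c2)
  · intro χ χ' hχ hχ' β m m' hm hpm hm' hpm'
    obtain ⟨δ₀, hInv₂, hp1, hun, hcong⟩ := key χ hχ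
    obtain ⟨δ₀', hInv₂', hp1', hun', hcong'⟩ := key χ' hχ'
    have e2 := cast_eq χ β m hm
    have e2' := cast_eq χ' β m' hm'
    rw [e2] at hpm
    rw [e2'] at hpm'
    have hp2 : ¬ p ∣ m2 δ₀ β := (ndvd_iff χ δ₀ β hp1 (hcong β)).mp hpm
    have hp2' : ¬ p ∣ m2 δ₀' β := (ndvd_iff χ' δ₀' β hp1' (hcong' β)).mp hpm'
    have hδ : δ₀ = δ₀' :=
      iii2 δ₀ δ₀' hInv₂ hInv₂' β (m2 δ₀ β) (m2 δ₀' β) (hm2 δ₀ β) hp2 (hm2 δ₀' β) hp2'
    subst hδ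
    exact iii1 χ χ' (h1 χ hχ) (h1 χ' hχ') δ₀ (m1 χ δ₀) (m1 χ' δ₀) (hm1 χ δ₀) hp1
      (hm1 χ' δ₀) hp1'
  · intro β
    obtain ⟨δ, hδInv, k, hk, hpk⟩ := iv2 β
    obtain ⟨χ, hχ1, k', hk', hpk'⟩ := iv1 δ
    have hχ : Inv χ := hK4 χ δ k' hχ1 hδInv hk' hpk'
    obtain ⟨δ₀, hInv₂, hp1, hun, hcong⟩ := key χ hχ
    have e1 : m1 χ δ = k' := by
      have : (m1 χ δ : ℂ) = (k' : ℂ) := by rw [← hm1, hk']
      exact_mod_cast this
    have hδ : δ = δ₀ := hun δ (by rw [e1]; exact hpk')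
    subst hδ
    have e3 : m2 δ β = k := by
      have : (m2 δ β : ℂ) = (k : ℂ) := by rw [← hm2, hk]
      exact_mod_cast this
    exact ⟨χ, hχ, _, htrans χ β, (ndvd_iff χ δ β hp1 (hcong β)).mpr (by rw [e3]; exact hpk)⟩

end Comp

end Cfsg.Agent.Helper74
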