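import Cfsg.Agent.Helper74.GlaubSub

/-!
# Helper74: counting invariant characters and invariant classes (solvable coprime action)

Part A: a nontrivial finite solvable group has a nontrivial normal `p`-subgroup.
Part B: fixed points of a `p`-group of automorphisms on invariant subsets; invariant classes.
-/

set_option autoImplicit false

namespace Cfsg.Agent.Helper74

open Representation Cfsg

section NormalP

/-- A nontrivial finite solvable group has a nontrivial normal `p`-subgroup. -/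
theorem exists_normal_pgroup (H : Type*) [Group H] [Finite H] [Group.IsSolvable H] [Nontrivial H] :
    ∃ (p : ℕ) (_ : p.Prime) (P : Subgroup H), P ≠ ⊥ ∧ IsPGroup p P ∧ P.Normal := by
  classical
  have hex : ∃ n, derivedSeries H n = ⊥ := Group.IsSolvable.solvable
  have hn := Nat.find_spec hex
  have hmin := fun m => Nat.find_min hex (m := m)
  have hn0 : Nat.find hex ≠ 0 := by
    intro h0
    rw [h0] at hn
    exact top_ne_bot hn
  obtain ⟨m, hm⟩ := Nat.exists_eq_succ_of_ne_zero hn0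
  set N : Subgroup H := derivedSeries H m with hN
  have hNbot : N ≠ ⊥ := hmin m (by rw [hm]; exact Nat.lt_succ_self m)
  have hNab : ⁅N, N⁆ = ⊥ := by
    rw [hm] at hn
    exact hn
  have hcomm : ∀ x ∈ N, ∀ y ∈ N, x * y = y * x := by
    intro x hx y hy
    have h1 := (Subgroup.commutator_eq_bot_iff_le_centralizer.mp hNab) hy
    exact (Subgroup.mem_centralizer_iff.mp h1) x hx
  have hNnorm : N.Normal := derivedSeries_normal H m
  have hcard : Nat.card N ≠ 1 := by
    intro h1
    exact hNbot ((Subgroup.card_eq_one).mp h1)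
  obtain ⟨p, hp, hpdvd⟩ := Nat.exists_prime_and_dvd hcard
  haveI : Fact p.Prime := ⟨hp⟩
  let P : Subgroup H :=
    { carrier := {b | b ∈ N ∧ ∃ k : ℕ, b ^ p ^ k = 1}
      mul_mem' := by
        rintro b b' ⟨hb, k, hk⟩ ⟨hb', k', hk'⟩
        refine ⟨N.mul_mem hb hb', k + k', ?_⟩
        have hc : Commute b b' := hcomm b hb b' hb'
        rw [hc.mul_pow, pow_add, pow_mul, hk, one_pow, one_mul, mul_comm (p ^ k), pow_mul, hk',
          one_pow]
      one_mem' := ⟨N.one_mem, 0, by simp⟩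
      inv_mem' := by
        rintro b ⟨hb, k, hk⟩
        exact ⟨N.inv_mem hb, k, by rw [inv_pow, hk, inv_one]⟩ }
  refine ⟨p, hp, P, ?_, ?_, ?_⟩
  · obtain ⟨x, hx⟩ := exists_prime_orderOf_dvd_card' p hpdvd
    intro hbot
    have hxP : (x : H) ∈ P := by
      refine ⟨x.2, 1, ?_⟩
      have h1 : x ^ p = 1 := by rw [← hx]; exact pow_orderOf_eq_one x
      rw [pow_one]
      exact_mod_cast congrArg (fun y : N => (y : H)) h1
    rw [hbot, Subgroup.mem_bot] at hxP
    have hx1 : x = 1 := Subtype.ext hxP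
    rw [hx1, orderOf_one] at hx
    exact hp.one_lt.ne hx
  · intro g
    obtain ⟨_, k, hk⟩ := g.2
    exact ⟨k, Subtype.ext (by simpa using hk)⟩
  · constructor
    rintro b ⟨hb, k, hk⟩ g
    exact ⟨hNnorm.conj_mem b hb g, k, by rw [conj_pow, hk, mul_one, mul_inv_cancel]⟩

end NormalP

section FixedPoints

variable {G : Type*} [Group G]

/-- A `p`-group of automorphisms acting on an invariant subset of size prime to `p` has a
fixed point there. -/
theorem exists_fixed_of_pgroup (P : Subgroup (MulAut G)) {p : ℕ} [Fact p.Prime]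
    (hP : IsPGroup p P) (X : Set G) (hX : ∀ b ∈ P, ∀ x ∈ X, b x ∈ X)
    (hcard : ¬ p ∣ Nat.card X) : ∃ x ∈ X, ∀ b ∈ P, b x = x := by
  let Y : SubMulAction ↥P G :=
    { carrier := X
      smul_mem' := fun b x hx => hX b.1 b.2 x hx }
  have hcard' : ¬ p ∣ Nat.card ↥Y := hcard
  obtain ⟨⟨x, hx⟩, hfix⟩ := hP.nonempty_fixed_point_of_prime_not_dvd_card (↥Y) hcard'
  refine ⟨x, hx, fun b hb => ?_⟩
  have := hfix ⟨b, hb⟩
  exact congrArg Subtype.val this

theorem card_class_dvd [Finite G] (K : ConjClasses G) : Nat.card K.carrier ∣ Nat.card G := by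
  obtain ⟨g, rfl⟩ := ConjClasses.mk_surjective K
  rw [← ConjAct.orbit_eq_carrier_conjClasses, Nat.card_coe_set_eq, ← MulAction.index_stabilizer]
  exact Subgroup.index_dvd_card (MulAction.stabilizer (ConjAct G) g)

/-- (a) an invariant class contains a fixed point. -/
theorem exists_fixed_in_class [Finite G] (P : Subgroup (MulAut G)) {p : ℕ} [Fact p.Prime]
    (hP : IsPGroup p P) (hpG : ¬ p ∣ Nat.card G) (K : ConjClasses G)
    (hK : ∀ b ∈ P, ∀ g, ConjClasses.mk g = K → ConjClasses.mk (b g) = K) :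
    ∃ d, (∀ b ∈ P, b d = d) ∧ ConjClasses.mk d = K := by
  obtain ⟨d, hd, hfix⟩ := exists_fixed_of_pgroup P hP K.carrier
    (fun b hb x hx => by
      rw [ConjClasses.mem_carrier_iff_mk_eq] at hx ⊢
      exact hK b hb x hx)
    (fun h => hpG (dvd_trans h (card_class_dvd K)))
  exact ⟨d, hfix, ConjClasses.mem_carrier_iff_mk_eq.mp hd⟩

/-- (b) fixed points conjugate in `G` are conjugate by a fixed point. -/
theorem conj_fixed_of_conj [Finite G] (P : Subgroup (MulAut G)) {p : ℕ} [Fact p.Prime]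
    (hP : IsPGroup p P) (hpG : ¬ p ∣ Nat.card G) {c c' : G} (hc : ∀ b ∈ P, b c = c)
    (hc' : ∀ b ∈ P, b c' = c') (h : IsConj c c') :
    ∃ u, (∀ b ∈ P, b u = u) ∧ u * c * u⁻¹ = c' := by
  obtain ⟨g₀, hg₀⟩ := isConj_iff.mp h
  set X : Set G := {g | g * c * g⁻¹ = c'} with hX
  have hcard : Nat.card X = Nat.card (Subgroup.centralizer ({c} : Set G)) := by
    apply Nat.card_congr
    refine
      { toFun := fun g => ⟨g₀⁻¹ * g.1, ?_⟩
        invFun := fun u => ⟨g₀ * u.1, ?_⟩
        left_inv := fun g => by apply Subtype.ext; simp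
        right_inv := fun u => by apply Subtype.ext; simp }
    · rw [Subgroup.mem_centralizer_iff]
      intro y hy
      rw [Set.mem_singleton_iff] at hy
      subst hy
      have hg : g.1 * y * g.1⁻¹ = c' := g.2
      have e1 : g.1 * y = c' * g.1 := by rw [← hg]; group
      have e2 : g₀ * y = c' * g₀ := by rw [← hg₀]; group
      calc y * (g₀⁻¹ * g.1) = g₀⁻¹ * (g₀ * y) * g₀⁻¹ * g.1 := by group
        _ = g₀⁻¹ * (c' * g₀) * g₀⁻¹ * g.1 := by rw [e2]
        _ = g₀⁻¹ * (c' * g.1) := by group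
        _ = g₀⁻¹ * (g.1 * y) := by rw [e1]
        _ = g₀⁻¹ * g.1 * y := by group
    · have hu := (Subgroup.mem_centralizer_iff.mp u.2) c (Set.mem_singleton c)
      show g₀ * u.1 * c * (g₀ * u.1)⁻¹ = c'
      calc g₀ * u.1 * c * (g₀ * u.1)⁻¹ = g₀ * (u.1 * c) * u.1⁻¹ * g₀⁻¹ := by group
        _ = g₀ * (c * u.1) * u.1⁻¹ * g₀⁻¹ := by rw [hu]
        _ = g₀ * c * g₀⁻¹ := by group
        _ = c' := hg₀
  obtain ⟨u, hu, hfix⟩ := exists_fixed_of_pgroup P hP X
    (fun b hb x hx => by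
      have hx' : x * c * x⁻¹ = c' := hx
      show b x * c * (b x)⁻¹ = c'
      have := congrArg b hx'
      rw [map_mul, map_mul, map_inv, hc b hb, hc' b hb] at this
      exact this)
    (fun h => hpG (dvd_trans (hcard ▸ h) (Subgroup.card_subgroup_dvd_card _)))
  exact ⟨u, hfix, hu⟩

/-- The subgroup of common fixed points of a group of automorphisms. -/
def fixSubgroup (P : Subgroup (MulAut G)) : Subgroup G where
  carrier := {g | ∀ b ∈ P, b g = g}
  mul_mem' := by
    intro x y hx hy b hb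
    rw [map_mul, hx b hb, hy b hb]
  one_mem' := fun b _ => map_one b
  inv_mem' := by
    intro x hx b hb
    rw [map_inv, hx b hb]

theorem mem_fixSubgroup (P : Subgroup (MulAut G)) (g : G) :
    g ∈ fixSubgroup P ↔ ∀ b ∈ P, b g = g := Iff.rfl

theorem aut_map_fixSubgroup (P : Subgroup (MulAut G)) (a : MulAut G)
    (h : ∀ b ∈ P, a⁻¹ * b * a ∈ P) {g : G} (hg : g ∈ fixSubgroup P) :
    a g ∈ fixSubgroup P := by
  intro b hb
  have h1 := hg (a⁻¹ * b * a) (h b hb)
  have h2 : b (a g) = a ((a⁻¹ * b * a) g) := by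
    show b (a g) = (a * (a⁻¹ * b * a)) g
    rw [← mul_assoc, ← mul_assoc, mul_inv_cancel, one_mul]
    rfl
  rw [h2, h1]

/-- Restriction to `Fix(P)` of an automorphism normalising `P`. -/
def resAut' (P : Subgroup (MulAut G)) (a : MulAut G) (h : ∀ b ∈ P, a⁻¹ * b * a ∈ P)
    (h' : ∀ b ∈ P, a * b * a⁻¹ ∈ P) : MulAut ↥(fixSubgroup P) where
  toFun g := ⟨a g.1, aut_map_fixSubgroup P a h g.2⟩
  invFun g := ⟨a⁻¹ g.1, aut_map_fixSubgroup P a⁻¹ (by simpa using h') g.2⟩
  left_inv g := by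
    apply Subtype.ext
    show a⁻¹ (a g.1) = g.1
    rw [← MulAut.mul_apply, inv_mul_cancel, MulAut.one_apply]
  right_inv g := by
    apply Subtype.ext
    show a (a⁻¹ g.1) = g.1
    rw [← MulAut.mul_apply, mul_inv_cancel, MulAut.one_apply]
  map_mul' x y := by
    apply Subtype.ext
    show a (x.1 * y.1) = a x.1 * a y.1
    rw [map_mul]

/-- The restriction homomorphism `𝒜 → Aut(Fix P)` for `𝒜` normalising `P`. -/
def resHom' (𝒜 P : Subgroup (MulAut G)) (hnorm : ∀ a ∈ 𝒜, ∀ b ∈ P, a * b * a⁻¹ ∈ P) :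
    ↥𝒜 →* MulAut ↥(fixSubgroup P) where
  toFun a := resAut' P a.1
    (fun b hb => by
      have := hnorm a.1⁻¹ (𝒜.inv_mem a.2) b hb
      rwa [inv_inv] at this)
    (hnorm a.1 a.2)
  map_one' := by
    ext g
    rfl
  map_mul' a b := by
    ext g
    rfl

theorem resHom'_apply_coe (𝒜 P : Subgroup (MulAut G))
    (hnorm : ∀ a ∈ 𝒜, ∀ b ∈ P, a * b * a⁻¹ ∈ P) (a : ↥𝒜) (g : ↥(fixSubgroup P)) :
    ((resHom' 𝒜 P hnorm a g : ↥(fixSubgroup P)) : G) = a.1 g.1 := rfl

end FixedPoints

end Cfsg.Agent.Helper74
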