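import Cfsg.Agent.Helper74.GlaubCount

/-!
# Helper74: `#invariant irreducible characters = #invariant classes` for a solvable group of
automorphisms of coprime order
-/

set_option autoImplicit false

namespace Cfsg.Agent.Helper74

open Representation Cfsg

/-- The invariant irreducible characters. -/
abbrev IrrInv {G : Type*} [Group G] (𝒜 : Subgroup (MulAut G)) : Type _ :=
  {χ : IrrCharacter G // ∀ a ∈ 𝒜, ∀ g, (χ : G → ℂ) (a g) = (χ : G → ℂ) g}

/-- The invariant conjugacy classes. -/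
abbrev ClInv {G : Type*} [Group G] (𝒜 : Subgroup (MulAut G)) : Type _ :=
  {K : ConjClasses G // ∀ a ∈ 𝒜, ∀ g, ConjClasses.mk g = K → ConjClasses.mk (a g) = K}

section Count

variable {G : Type*} [Group G]

/-- Character side: reduction to the fixed points of a normal `p`-subgroup. -/
theorem card_irrInv_eq (p : ℕ) [Fact p.Prime] [Fintype G] (𝒜 P : Subgroup (MulAut G))
    (hP : IsPGroup p P) (hPA : P ≤ 𝒜) (hnorm : ∀ a ∈ 𝒜, ∀ b ∈ P, a * b * a⁻¹ ∈ P)
    (hcop : (Fintype.card G).Coprime (Nat.card P)) :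
    Nat.card (IrrInv 𝒜) = Nat.card (IrrInv (resHom' 𝒜 P hnorm).range) := by
  classical
  set D : Subgroup G := fixSubgroup P with hD
  letI : Fintype ↥D := Fintype.ofFinite _
  have R := glaub_pgroup_aux p (Fintype.card G) G rfl P hP hcop D.subtype
    (Subgroup.subtype_injective D)
    (fun g => by
      rw [Subgroup.range_subtype]
      exact (mem_fixSubgroup P g).symm)
  obtain ⟨i, ii, iii, iv⟩ := R
  set res : ↥𝒜 →* MulAut ↥D := resHom' 𝒜 P hnorm with hres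
  have key1 : ∀ χ : IrrCharacter G, (∀ a ∈ 𝒜, ∀ g, (χ : G → ℂ) (a g) = (χ : G → ℂ) g) →
      ∀ (δ : IrrCharacter ↥D) (m : ℕ),
      classInner (fun d : ↥D => (χ : G → ℂ) (D.subtype d)) (δ : ↥D → ℂ) = (m : ℂ) → ¬ p ∣ m →
      ∀ b ∈ res.range, ∀ g, (δ : ↥D → ℂ) (b g) = (δ : ↥D → ℂ) g := by
    intro χ hχ δ m hm hpm b hb g
    obtain ⟨a, rfl⟩ := hb
    set δb : IrrCharacter ↥D := ⟨fun g => (δ : ↥D → ℂ) (res a g),
      (Helper79.isIrrCharacter_mulEquiv (res a)).mpr δ.2⟩ with hδb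
    have hmb : classInner (fun d : ↥D => (χ : G → ℂ) (D.subtype d)) (δb : ↥D → ℂ) =
        (m : ℂ) := by
      rw [← hm, ← classInner_comp_equiv (res a).toEquiv
        (fun d : ↥D => (χ : G → ℂ) (D.subtype d)) (δ : ↥D → ℂ)]
      congr 1
      funext d
      exact (hχ a.1 a.2 d.1).symm
    have huniq := (i χ (fun a ha => hχ a (hPA ha))).unique ⟨m, hmb, hpm⟩ ⟨m, hm, hpm⟩
    exact congrFun (congrArg Subtype.val huniq) g
  have key4 : ∀ (χ : IrrCharacter G) (δ : IrrCharacter ↥D) (m : ℕ),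
      (∀ a ∈ P, ∀ g, (χ : G → ℂ) (a g) = (χ : G → ℂ) g) →
      (∀ b ∈ res.range, ∀ g, (δ : ↥D → ℂ) (b g) = (δ : ↥D → ℂ) g) →
      classInner (fun d : ↥D => (χ : G → ℂ) (D.subtype d)) (δ : ↥D → ℂ) = (m : ℂ) → ¬ p ∣ m →
      ∀ a ∈ 𝒜, ∀ g, (χ : G → ℂ) (a g) = (χ : G → ℂ) g := by
    intro χ δ m hχP hδ hm hpm a ha g
    set χa : IrrCharacter G := ⟨fun g => (χ : G → ℂ) (a g),
      (Helper79.isIrrCharacter_mulEquiv a).mpr χ.2⟩ with hχa
    have hχaP : ∀ b ∈ P, ∀ g, (χa : G → ℂ) (b g) = (χa : G → ℂ) g := by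
      intro b hb g
      show (χ : G → ℂ) (a (b g)) = (χ : G → ℂ) (a g)
      have : a (b g) = (a * b * a⁻¹) (a g) := by
        show a (b g) = a (b (a⁻¹ (a g)))
        have e : a⁻¹ (a g) = g := by
          show (a⁻¹ * a) g = g
          rw [inv_mul_cancel]
          rfl
        rw [e]
      rw [this, hχP _ (hnorm a ha b hb)]
    have hma : classInner (fun d : ↥D => (χa : G → ℂ) (D.subtype d)) (δ : ↥D → ℂ) =
        (m : ℂ) := by
      rw [← hm, ← classInner_comp_equiv (res ⟨a, ha⟩).toEquiv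
        (fun d : ↥D => (χ : G → ℂ) (D.subtype d)) (δ : ↥D → ℂ)]
      congr 1
      funext d
      exact (hδ (res ⟨a, ha⟩) ⟨⟨a, ha⟩, rfl⟩ d).symm
    have heq := iii χa χ hχaP hχP δ m m hma hpm hm hpm
    exact congrFun (congrArg Subtype.val heq) g
  have hPinv : ∀ χ : IrrInv 𝒜, ∀ a ∈ P, ∀ g, (χ.1 : G → ℂ) (a g) = (χ.1 : G → ℂ) g :=
    fun χ a ha => χ.2 a (hPA ha)
  let f : IrrInv 𝒜 → IrrInv res.range := fun χ =>
    ⟨Classical.choose (i χ.1 (hPinv χ)).exists, by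
      obtain ⟨m, hm, hpm⟩ := Classical.choose_spec (i χ.1 (hPinv χ)).exists
      exact key1 χ.1 χ.2 _ m hm hpm⟩
  have hf : ∀ χ : IrrInv 𝒜, ∃ m : ℕ,
      classInner (fun d : ↥D => (χ.1 : G → ℂ) (D.subtype d)) ((f χ).1 : ↥D → ℂ) = (m : ℂ) ∧
        ¬ p ∣ m :=
    fun χ => Classical.choose_spec (i χ.1 (hPinv χ)).exists
  apply Nat.card_congr
  apply Equiv.ofBijective f
  constructor
  · intro χ χ' hχχ
    obtain ⟨m, hm, hpm⟩ := hf χ
    obtain ⟨m', hm', hpm'⟩ := hf χ'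
    rw [← hχχ] at hm'
    exact Subtype.ext (iii χ.1 χ'.1 (hPinv χ) (hPinv χ') (f χ).1 m m' hm hpm hm' hpm')
  · intro δ
    obtain ⟨χ, hχP, m, hm, hpm⟩ := iv δ.1
    have hχA := key4 χ δ.1 m hχP δ.2 hm hpm
    refine ⟨⟨χ, hχA⟩, Subtype.ext ?_⟩
    exact (i χ hχP).unique (hf ⟨χ, hχA⟩) ⟨m, hm, hpm⟩

/-- Class side: reduction to the fixed points of a normal `p`-subgroup. -/
theorem card_clInv_eq (p : ℕ) [Fact p.Prime] [Finite G] (𝒜 P : Subgroup (MulAut G))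
    (hP : IsPGroup p P) (hPA : P ≤ 𝒜) (hnorm : ∀ a ∈ 𝒜, ∀ b ∈ P, a * b * a⁻¹ ∈ P)
    (hpG : ¬ p ∣ Nat.card G) :
    Nat.card (ClInv 𝒜) = Nat.card (ClInv (resHom' 𝒜 P hnorm).range) := by
  classical
  set D : Subgroup G := fixSubgroup P with hD
  set res : ↥𝒜 →* MulAut ↥D := resHom' 𝒜 P hnorm with hres
  -- conjugacy in D of fixed points conjugate in G
  have hb : ∀ d d' : ↥D, IsConj (d : G) (d' : G) → IsConj d d' := by
    intro d d' h
    obtain ⟨u, hu, huc⟩ := conj_fixed_of_conj P hP hpG d.2 d'.2 h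
    exact isConj_iff.mpr ⟨⟨u, hu⟩, Subtype.ext huc⟩
  symm
  apply Nat.card_congr
  let h : ClInv res.range → ClInv 𝒜 := fun K =>
    ⟨ConjClasses.map D.subtype K.1, by
      intro a ha g hg
      obtain ⟨d, hd⟩ := ConjClasses.mk_surjective K.1
      rw [← hd] at hg ⊢
      have h1 : IsConj g (d : G) := ConjClasses.mk_eq_mk_iff_isConj.mp hg
      have h2 : IsConj (a g) (a (d : G)) := MonoidHom.map_isConj a.toMonoidHom h1
      have h3 : ConjClasses.mk (res ⟨a, ha⟩ d) = K.1 := K.2 (res ⟨a, ha⟩) ⟨⟨a, ha⟩, rfl⟩ d hd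
      rw [ConjClasses.mk_eq_mk_iff_isConj.mpr h2]
      have h4 : ConjClasses.map D.subtype (ConjClasses.mk (res ⟨a, ha⟩ d)) =
          ConjClasses.mk (a (d : G)) := rfl
      rw [← h4, h3, ← hd]⟩
  apply Equiv.ofBijective h
  constructor
  · intro K K' hKK
    obtain ⟨d, hd⟩ := ConjClasses.mk_surjective K.1
    obtain ⟨d', hd'⟩ := ConjClasses.mk_surjective K'.1
    have h1 : ConjClasses.map D.subtype K.1 = ConjClasses.map D.subtype K'.1 :=
      congrArg Subtype.val hKK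
    rw [← hd, ← hd'] at h1
    have h2 : IsConj (d : G) (d' : G) := ConjClasses.mk_eq_mk_iff_isConj.mp h1
    apply Subtype.ext
    rw [← hd, ← hd']
    exact ConjClasses.mk_eq_mk_iff_isConj.mpr (hb d d' h2)
  · intro K
    obtain ⟨d, hdfix, hdK⟩ := exists_fixed_in_class P hP hpG K.1
      (fun b hb' g hg => K.2 b (hPA hb') g hg)
    refine ⟨⟨ConjClasses.mk (⟨d, hdfix⟩ : ↥D), ?_⟩, Subtype.ext hdK⟩
    rintro b ⟨a, rfl⟩ g hg
    have h1 : IsConj g (⟨d, hdfix⟩ : ↥D) := ConjClasses.mk_eq_mk_iff_isConj.mp hg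
    have h2 : IsConj (res a g) (res a ⟨d, hdfix⟩) :=
      MonoidHom.map_isConj (res a).toMonoidHom h1
    have h3 : ConjClasses.mk (a.1 d) = K.1 := K.2 a.1 a.2 d hdK
    have h4 : IsConj (a.1 d) d := ConjClasses.mk_eq_mk_iff_isConj.mp (h3.trans hdK.symm)
    have h5 : IsConj (res a ⟨d, hdfix⟩) (⟨d, hdfix⟩ : ↥D) := hb _ _ h4
    exact ConjClasses.mk_eq_mk_iff_isConj.mpr (h2.trans h5)

end Count

end Cfsg.Agent.Helper74
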