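import Cfsg.Agent.Helper74.GlaubCount2

/-!
# Helper74: `#invariant irreducible characters = #invariant classes`: induction and subgroup form
-/

set_option autoImplicit false

namespace Cfsg.Agent.Helper74

open Representation Cfsg

section Induction

universe u

/-- For a solvable group of automorphisms of coprime order, the number of invariant irreducible
characters equals the number of invariant conjugacy classes. -/
theorem solv_count_aux :
    ∀ (n : ℕ) (G : Type u) [Group G] [Fintype G], Fintype.card G = n →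
    ∀ (𝒜 : Subgroup (MulAut G)), Group.IsSolvable ↥𝒜 →
    (Fintype.card G).Coprime (Nat.card 𝒜) →
    Nat.card (IrrInv 𝒜) = Nat.card (ClInv 𝒜) := by
  classical
  intro n
  induction n using Nat.strong_induction_on with
  | _ n ih =>
    intro G _ _ hn 𝒜 hsolv hcop
    by_cases htriv : 𝒜 = ⊥
    · subst htriv
      have e1 : IrrInv (⊥ : Subgroup (MulAut G)) ≃ IrrCharacter G :=
        Equiv.subtypeUnivEquiv (fun χ a ha g => by rw [Subgroup.mem_bot.mp ha]; rfl)
      have e2 : ClInv (⊥ : Subgroup (MulAut G)) ≃ ConjClasses G :=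
        Equiv.subtypeUnivEquiv (fun K a ha g hg => by rw [Subgroup.mem_bot.mp ha]; exact hg)
      rw [Nat.card_congr e1, Nat.card_congr e2]
      exact Helper80.natCard_irr_eq_card_conjClasses
    · haveI : Finite (MulAut G) :=
        Finite.of_injective (fun a : MulAut G => (a : G → G)) DFunLike.coe_injective
      haveI : Nontrivial ↥𝒜 := (Subgroup.nontrivial_iff_ne_bot 𝒜).mpr htriv
      haveI := hsolv
      obtain ⟨p, hp, P₀, hP₀bot, hP₀, hP₀norm⟩ := exists_normal_pgroup ↥𝒜
      haveI : Fact p.Prime := ⟨hp⟩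
      set P : Subgroup (MulAut G) := P₀.map 𝒜.subtype with hPdef
      have hP : IsPGroup p P := hP₀.map 𝒜.subtype
      have hPA : P ≤ 𝒜 := by
        rintro _ ⟨b₀, -, rfl⟩
        exact b₀.2
      have hnorm : ∀ a ∈ 𝒜, ∀ b ∈ P, a * b * a⁻¹ ∈ P := by
        rintro a ha _ ⟨b₀, hb₀, rfl⟩
        exact ⟨⟨a, ha⟩ * b₀ * ⟨a, ha⟩⁻¹, hP₀norm.conj_mem b₀ hb₀ ⟨a, ha⟩, rfl⟩
      have hPbot : P ≠ ⊥ := by
        intro h
        apply hP₀bot
        rw [eq_bot_iff]
        intro b₀ hb₀
        have h1 : 𝒜.subtype b₀ ∈ P := ⟨b₀, hb₀, rfl⟩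
        rw [h, Subgroup.mem_bot] at h1
        rw [Subgroup.mem_bot]
        exact Subtype.ext h1
      haveI : Nontrivial ↥P := (Subgroup.nontrivial_iff_ne_bot P).mpr hPbot
      have hpP : p ∣ Nat.card ↥P := by
        obtain ⟨k', hk0', hk'⟩ := hP.nontrivial_iff_card.mp inferInstance
        rw [hk']; exact dvd_pow_self p hk0'.ne'
      have hcopP : (Fintype.card G).Coprime (Nat.card P) :=
        Nat.Coprime.coprime_dvd_right (Subgroup.card_dvd_of_le hPA) hcop
      have hpG : ¬ p ∣ Fintype.card G := by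
        intro h
        have := Nat.dvd_gcd h hpP
        rw [Nat.Coprime.gcd_eq_one hcopP] at this
        exact hp.one_lt.ne' (Nat.dvd_one.mp this)
      have hpG' : ¬ p ∣ Nat.card G := by rwa [Nat.card_eq_fintype_card]
      set D : Subgroup G := fixSubgroup P with hD
      letI : Fintype ↥D := Fintype.ofFinite _
      have hDdvd : Fintype.card ↥D ∣ Fintype.card G := by
        have := Subgroup.card_subgroup_dvd_card D
        rwa [Nat.card_eq_fintype_card, Nat.card_eq_fintype_card] at this
      have hDlt : Fintype.card ↥D < Fintype.card G := by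
        apply lt_of_le_of_ne (Nat.le_of_dvd Fintype.card_pos hDdvd)
        intro heq
        have htop : D = ⊤ := by
          apply Subgroup.eq_top_of_card_eq
          rw [Nat.card_eq_fintype_card, Nat.card_eq_fintype_card, heq]
        apply hPbot
        rw [eq_bot_iff]
        intro b hb
        rw [Subgroup.mem_bot]
        ext g
        have : g ∈ D := by rw [htop]; exact Subgroup.mem_top g
        exact this b hb
      set res : ↥𝒜 →* MulAut ↥D := resHom' 𝒜 P hnorm with hres
      have hsolvD : Group.IsSolvable ↥res.range :=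
        Group.isSolvable_of_surjective (f := res.rangeRestrict) res.rangeRestrict_surjective
      have hcopD : (Fintype.card ↥D).Coprime (Nat.card res.range) :=
        Nat.Coprime.coprime_dvd_left hDdvd
          (Nat.Coprime.coprime_dvd_right (Subgroup.card_range_dvd res) hcop)
      calc Nat.card (IrrInv 𝒜) = Nat.card (IrrInv res.range) :=
            card_irrInv_eq p 𝒜 P hP hPA hnorm hcopP
        _ = Nat.card (ClInv res.range) :=
            ih (Fintype.card ↥D) (by rw [← hn]; exact hDlt) ↥D rfl res.range hsolvD hcopD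
        _ = Nat.card (ClInv 𝒜) := (card_clInv_eq p 𝒜 P hP hPA hnorm hpG').symm

end Induction

section Sub

variable {Γ : Type*} [Group Γ]

/-- Subgroup form (statement S4445). -/
theorem solv_count_subgroup (G S : Subgroup Γ) [Fintype G]
    (hnorm : ∀ s ∈ S, ∀ g ∈ G, s * g * s⁻¹ ∈ G) (hcop : (Nat.card G).Coprime (Nat.card S))
    (hsolv : Group.IsSolvable S) :
    Nat.card {χ : Cfsg.IrrCharacter G // (∀ s ∈ S, ∀ g g' : G, (g' : Γ) = s * g * s⁻¹ →
      (χ : G → ℂ) g' = (χ : G → ℂ) g)} =
    Nat.card {K : ConjClasses G // ∀ s ∈ S, ∀ g g' : G, (g' : Γ) = s * g * s⁻¹ →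
      ConjClasses.mk g = K → ConjClasses.mk g' = K} := by
  classical
  set φ : ↥S →* MulAut ↥G := conjHom G S hnorm with hφ
  haveI := hsolv
  have hsolv' : Group.IsSolvable ↥φ.range :=
    Group.isSolvable_of_surjective (f := φ.rangeRestrict) φ.rangeRestrict_surjective
  have hcop' : (Fintype.card ↥G).Coprime (Nat.card φ.range) := by
    rw [← Nat.card_eq_fintype_card]
    exact Nat.Coprime.coprime_dvd_right (Subgroup.card_range_dvd φ) hcop
  have key := solv_count_aux (Fintype.card ↥G) ↥G rfl φ.range hsolv' hcop'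
  have e1 : {χ : Cfsg.IrrCharacter G // (∀ s ∈ S, ∀ g g' : G, (g' : Γ) = s * g * s⁻¹ →
      (χ : G → ℂ) g' = (χ : G → ℂ) g)} ≃ IrrInv φ.range := by
    apply Equiv.subtypeEquivRight
    intro χ
    constructor
    · rintro h a ⟨s, rfl⟩ g
      exact h s.1 s.2 g (φ s g) rfl
    · intro h s hs g g' hg'
      have h1 := h (φ ⟨s, hs⟩) ⟨⟨s, hs⟩, rfl⟩ g
      have h2 : φ ⟨s, hs⟩ g = g' := Subtype.ext hg'.symm
      rw [h2] at h1
      exact h1
  have e2 : {K : ConjClasses G // ∀ s ∈ S, ∀ g g' : G, (g' : Γ) = s * g * s⁻¹ →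
      ConjClasses.mk g = K → ConjClasses.mk g' = K} ≃ ClInv φ.range := by
    apply Equiv.subtypeEquivRight
    intro K
    constructor
    · rintro h a ⟨s, rfl⟩ g hg
      exact h s.1 s.2 g (φ s g) rfl hg
    · intro h s hs g g' hg' hg
      have h1 := h (φ ⟨s, hs⟩) ⟨⟨s, hs⟩, rfl⟩ g hg
      have h2 : φ ⟨s, hs⟩ g = g' := Subtype.ext hg'.symm
      rw [h2] at h1
      exact h1
  rw [Nat.card_congr e1, Nat.card_congr e2]
  exact key

end Sub

end Cfsg.Agent.Helper74
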