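import Mathlib

/-!
# Helper74: twisted conjugacy for a coprime automorphism of prime order

`G` a finite group, `τ` an automorphism with `τ ^ p = 1`, `p` a prime not dividing `|G|`,
`ι : C →* G` an injective hom onto the fixed points of `τ`.  The map
`(h, c) ↦ h * ι c * (τ h)⁻¹` from `G × C` to `G` is surjective with all fibres of size `|C|`;
hence for a function `F` constant on `τ`-twisted conjugacy classes
`|C| ∑_g F g = |G| ∑_c F (ι c)`.
-/

set_option autoImplicit false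

namespace Cfsg.Agent.Helper74

section Twist

variable {G : Type*} [Group G]

/-- An exponent `m` with `m ≡ 1 (mod p)` and `n ∣ m`. -/
theorem exists_exponent {p n : ℕ} (hp : p.Prime) (hpG : ¬ p ∣ n) :
    ∃ m q : ℕ, m = p * q + 1 ∧ n ∣ m := by
  have hcop : n.Coprime p :=
    (Nat.Coprime.symm ((Nat.Prime.coprime_iff_not_dvd hp).mpr hpG))
  obtain ⟨k, hk0, hk1⟩ := Nat.chineseRemainder hcop 0 1
  have hk0' : n ∣ (k : ℕ) := (Nat.modEq_zero_iff_dvd).mp hk0
  have h1 : (k : ℕ) % p = 1 := by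
    have := hk1
    unfold Nat.ModEq at this
    rw [this, Nat.mod_eq_of_lt hp.one_lt]
  refine ⟨k, (k : ℕ) / p, ?_, hk0'⟩
  have := Nat.div_add_mod (k : ℕ) p
  omega

theorem aut_pow_exponent (τ : MulAut G) {p : ℕ} (hτ : τ ^ p = 1) {m q : ℕ}
    (hm : m = p * q + 1) : τ ^ m = τ := by
  rw [hm, pow_succ, pow_mul, hτ, one_pow, one_mul]

variable [Fintype G]

/-- (L1) every element is twisted-conjugate to a fixed point. -/
theorem exists_twist_fixed (τ : MulAut G) {p : ℕ} (hp : p.Prime) (hτ : τ ^ p = 1)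
    (hpG : ¬ p ∣ Fintype.card G) (g : G) :
    ∃ x : G, τ (x⁻¹ * g * τ x) = x⁻¹ * g * τ x := by
  classical
  obtain ⟨m, q, hm, hdvd⟩ := exists_exponent hp hpG
  have hτm : τ ^ m = τ := aut_pow_exponent τ hτ hm
  obtain ⟨T, hTapp⟩ : ∃ T : Equiv.Perm G, ∀ x, T x = g * τ x :=
    ⟨Equiv.mulLeft g * τ.toEquiv, fun x => rfl⟩
  have key : ∀ (j : ℕ) (x : G), (T ^ j) x = (T ^ j) 1 * (τ ^ j) x := by
    intro j
    induction j with
    | zero => intro x; simp
    | succ j ih =>
      intro x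
      rw [pow_succ', Equiv.Perm.mul_apply, Equiv.Perm.mul_apply, hTapp, hTapp, ih x, map_mul,
        pow_succ', MulAut.mul_apply, mul_assoc]
  -- T^(p*j) 1 = (T^p 1)^j
  have key2 : ∀ j : ℕ, (T ^ (p * j)) 1 = ((T ^ p) 1) ^ j := by
    intro j
    induction j with
    | zero => simp
    | succ j ih =>
      rw [Nat.mul_succ, add_comm, pow_add, Equiv.Perm.mul_apply, key p ((T ^ (p * j)) 1), hτ,
        MulAut.one_apply, ih, pow_succ']
  have hU : (T ^ m) ^ p ^ 1 = 1 := by
    rw [pow_one, ← pow_mul, mul_comm]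
    ext x
    rw [key (p * m) x, key2, pow_mul, hτ, one_pow, MulAut.one_apply, Equiv.Perm.one_apply]
    have : ((T ^ p) 1) ^ m = 1 := by
      obtain ⟨d, rfl⟩ := hdvd
      rw [pow_mul, pow_card_eq_one, one_pow]
    rw [this, one_mul]
  haveI : Fact p.Prime := ⟨hp⟩
  obtain ⟨x, hx⟩ := Equiv.Perm.exists_fixed_point_of_prime hpG hU
  have hx2 : (T ^ m) (T x) = T x := by
    have : (T ^ m) (T x) = T ((T ^ m) x) := by
      rw [← Equiv.Perm.mul_apply, ← Equiv.Perm.mul_apply, ← pow_succ, ← pow_succ']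
    rw [this, hx]
  rw [key m x, hτm] at hx
  rw [key m (T x), hτm] at hx2
  refine ⟨x, ?_⟩
  set N := (T ^ m) 1 with hN
  have e1 : τ x = N⁻¹ * x := by rw [eq_inv_mul_iff_mul_eq]; exact hx
  have e2 : τ (T x) = N⁻¹ * T x := by rw [eq_inv_mul_iff_mul_eq]; exact hx2
  have e3 : x⁻¹ * g * τ x = x⁻¹ * T x := by rw [hTapp, mul_assoc]
  rw [e3, map_mul, map_inv, e2, e1]
  group

/-- (L2) a twisted conjugator between fixed points is itself fixed. -/
theorem twist_fixed_of_fixed (τ : MulAut G) {p : ℕ} (hp : p.Prime) (hτ : τ ^ p = 1)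
    (hpG : ¬ p ∣ Fintype.card G) {u c c' : G} (hc : τ c = c) (hc' : τ c' = c')
    (h : u * c = c' * τ u) : τ u = u := by
  obtain ⟨m, q, hm, hdvd⟩ := exists_exponent hp hpG
  have hτm : τ ^ m = τ := aut_pow_exponent τ hτ hm
  have hfix : ∀ (n : ℕ) (y : G), τ y = y → (τ ^ n) y = y := by
    intro n y hy
    induction n with
    | zero => simp
    | succ n ih => rw [pow_succ, MulAut.mul_apply, hy, ih]
  have key : ∀ n : ℕ, u * c ^ n = c' ^ n * (τ ^ n) u := by
    intro n
    induction n with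
    | zero => simp
    | succ n ih =>
      have h2 : (τ ^ n) u * c = c' * (τ ^ (n + 1)) u := by
        have := congrArg (τ ^ n) h
        rw [map_mul, map_mul, hfix n c hc, hfix n c' hc'] at this
        rw [this, pow_succ, MulAut.mul_apply]
      rw [pow_succ, ← mul_assoc, ih, mul_assoc, h2, ← mul_assoc, ← pow_succ]
  have := key m
  obtain ⟨d, hd⟩ := hdvd
  rw [hτm, hd, pow_mul, pow_mul, pow_card_eq_one, pow_card_eq_one, one_pow, mul_one,
    one_mul] at this
  exact this.symm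

variable {C : Type*} [Group C] [Fintype C]

/-- The fibres of `(h, c) ↦ h * ι c * (τ h)⁻¹` all have `|C|` elements. -/
theorem card_twist_fiber (τ : MulAut G) {p : ℕ} (hp : p.Prime) (hτ : τ ^ p = 1)
    (hpG : ¬ p ∣ Fintype.card G) (ι : C →* G) (hι : Function.Injective ι)
    (hfix : ∀ g : G, τ g = g ↔ g ∈ ι.range) (g : G) [DecidableEq G] :
    (Finset.univ.filter (fun x : G × C => x.1 * ι x.2 * (τ x.1)⁻¹ = g)).card =
      Fintype.card C := by
  classical
  obtain ⟨h₀, hx⟩ := exists_twist_fixed τ hp hτ hpG g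
  obtain ⟨c₀, hc₀⟩ := (hfix _).mp hx
  have hg : g = h₀ * ι c₀ * (τ h₀)⁻¹ := by rw [hc₀]; group
  have hιfix : ∀ u : C, τ (ι u) = ι u := fun u => (hfix _).mpr ⟨u, rfl⟩
  symm
  rw [← Finset.card_univ]
  apply Finset.card_bij (fun (u : C) _ => ((h₀ * (ι u)⁻¹, u * c₀ * u⁻¹) : G × C))
  · intro u _
    rw [Finset.mem_filter]
    refine ⟨Finset.mem_univ _, ?_⟩
    simp only [map_mul, map_inv, hιfix, mul_inv_rev, inv_inv]
    rw [hg]
    group
  · intro u _ u' _ huu
    have := congrArg Prod.fst huu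
    simp only [mul_right_inj, inv_inj] at this
    exact hι this
  · rintro ⟨h, c⟩ hmem
    rw [Finset.mem_filter] at hmem
    have hhc : h * ι c * (τ h)⁻¹ = g := hmem.2
    set w := h⁻¹ * h₀ with hw
    have h1 : w * ι c₀ = ι c * τ w := by
      have e1 : h₀ * ι c₀ = g * τ h₀ := by rw [hg]; group
      rw [hw, mul_assoc, e1, ← hhc, map_mul, map_inv]
      group
    have h2 : τ w = w := twist_fixed_of_fixed τ hp hτ hpG (hιfix c₀) (hιfix c) h1
    obtain ⟨u, hu⟩ := (hfix _).mp h2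
    refine ⟨u, Finset.mem_univ _, ?_⟩
    have e2 : h = h₀ * (ι u)⁻¹ := by rw [hu, hw]; group
    have e3 : c = u * c₀ * u⁻¹ := by
      apply hι
      rw [map_mul, map_mul, map_inv, hu]
      rw [h2] at h1
      rw [h1]
      group
    rw [e2, ← e3]

/-- For `F` constant on twisted conjugacy classes, `|C| ∑_g F g = |G| ∑_c F (ι c)`. -/
theorem sum_twist_class (τ : MulAut G) {p : ℕ} (hp : p.Prime) (hτ : τ ^ p = 1)
    (hpG : ¬ p ∣ Fintype.card G) (ι : C →* G) (hι : Function.Injective ι)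
    (hfix : ∀ g : G, τ g = g ↔ g ∈ ι.range) (F : G → ℂ)
    (hF : ∀ h g : G, F (h * g * (τ h)⁻¹) = F g) :
    (Fintype.card C : ℂ) * ∑ g : G, F g = (Fintype.card G : ℂ) * ∑ c : C, F (ι c) := by
  classical
  have h1 : ∑ x : G × C, F (x.1 * ι x.2 * (τ x.1)⁻¹) =
      (Fintype.card G : ℂ) * ∑ c : C, F (ι c) := by
    rw [Fintype.sum_prod_type]
    simp only [hF]
    rw [Finset.sum_const, Finset.card_univ, nsmul_eq_mul]
  have h2 : ∑ x : G × C, F (x.1 * ι x.2 * (τ x.1)⁻¹) =
      (Fintype.card C : ℂ) * ∑ g : G, F g := by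
    rw [← Finset.sum_fiberwise (Finset.univ : Finset (G × C))
      (fun x : G × C => x.1 * ι x.2 * (τ x.1)⁻¹) (fun x => F (x.1 * ι x.2 * (τ x.1)⁻¹))]
    rw [Finset.mul_sum]
    refine Finset.sum_congr rfl fun g _ => ?_
    rw [Finset.sum_congr rfl (g := fun _ => F g)
      (fun x hx => by rw [(Finset.mem_filter.mp hx).2])]
    rw [Finset.sum_const, card_twist_fiber τ hp hτ hpG ι hι hfix g, nsmul_eq_mul]
  rw [← h2, h1]

end Twist

end Cfsg.Agent.Helper74
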