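import Cfsg.Agent.Helper74.GlaubTw
import Cfsg.Agent.Helper74.GlaubTwist
import Cfsg.Agent.Helper74.GlaubArith
import Cfsg.Agent.Helper74.GlaubAux
import Cfsg.Agent.Helper3.Integral

/-!
# Helper74: the Glauberman correspondence for an automorphism of prime order (cyclic core)
-/

set_option autoImplicit false

namespace Cfsg.Agent.Helper74

open Representation Cfsg

open scoped ComplexConjugate

section Cyclic

variable {G : Type*} [Group G] {C : Type*} [Group C] {p : ℕ} [Fact p.Prime] {n : ℕ}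

theorem aut_pow_fixed (σ : MulAut G) {g : G} (hg : σ g = g) (k : ℕ) : (σ ^ k) g = g := by
  induction k with
  | zero => simp
  | succ k ih => rw [pow_succ, MulAut.mul_apply, hg, ih]

theorem aut_pow_fixed_iff (σ : MulAut G) (hσ : σ ^ p = 1) {k : ℕ} (hk : ¬ p ∣ k) (g : G) :
    (σ ^ k) g = g ↔ σ g = g := by
  have hp : p.Prime := Fact.out
  constructor
  · intro h
    have hcop : Nat.Coprime k p := (Nat.Coprime.symm ((Nat.Prime.coprime_iff_not_dvd hp).mpr hk))
    obtain ⟨j, -, hj⟩ := Nat.exists_mul_mod_eq_one_of_coprime hcop hp.one_lt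
    have e1 : k * j = p * (k * j / p) + 1 := by
      have := Nat.div_add_mod (k * j) p
      omega
    have e2 : (σ ^ k) ^ j = σ := by
      rw [← pow_mul]
      exact aut_pow_exponent σ hσ e1
    have := aut_pow_fixed (σ ^ k) h j
    rw [e2] at this
    exact this
  · intro h
    exact aut_pow_fixed σ h k

theorem pow_mod_of_pow_eq_one {M : Type*} [Monoid M] {A : M} (hA : A ^ p = 1) (m : ℕ) :
    A ^ (m % p) = A ^ m := by
  conv_rhs => rw [← Nat.mod_add_div m p, pow_add, pow_mul, hA, one_pow, mul_one]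

/-- The representation `(c, i) ↦ ρ(ι c) A^i` of `C × ℤ/p`. -/
noncomputable def prodRep (ρ : Representation ℂ G (Fin n → ℂ)) (A : Module.End ℂ (Fin n → ℂ))
    (ι : C →* G) (hA : A ^ p = 1) (hcomm : ∀ c, A * ρ (ι c) = ρ (ι c) * A) :
    Representation ℂ (C × Multiplicative (ZMod p)) (Fin n → ℂ) where
  toFun x := ρ (ι x.1) * A ^ (Multiplicative.toAdd x.2).val
  map_one' := by simp
  map_mul' x y := by
    have h1 : A ^ (Multiplicative.toAdd (x * y).2).val =
        A ^ (Multiplicative.toAdd x.2).val * A ^ (Multiplicative.toAdd y.2).val := by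
      rw [Prod.snd_mul, toAdd_mul, ZMod.val_add, ← pow_add]
      exact pow_mod_of_pow_eq_one hA _
    have h2 : Commute (A ^ (Multiplicative.toAdd x.2).val) (ρ (ι y.1)) :=
      Commute.pow_left (hcomm y.1) _
    show ρ (ι (x.1 * y.1)) * A ^ _ = ρ (ι x.1) * A ^ _ * (ρ (ι y.1) * A ^ _)
    rw [h1, map_mul ι, map_mul ρ]
    calc ρ (ι x.1) * ρ (ι y.1) * (A ^ (Multiplicative.toAdd x.2).val *
          A ^ (Multiplicative.toAdd y.2).val)
        = ρ (ι x.1) * (ρ (ι y.1) * A ^ (Multiplicative.toAdd x.2).val) *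
          A ^ (Multiplicative.toAdd y.2).val := by simp only [mul_assoc]
      _ = ρ (ι x.1) * (A ^ (Multiplicative.toAdd x.2).val * ρ (ι y.1)) *
          A ^ (Multiplicative.toAdd y.2).val := by rw [h2.eq]
      _ = _ := by simp only [mul_assoc]

theorem prodRep_character (ρ : Representation ℂ G (Fin n → ℂ))
    (A : Module.End ℂ (Fin n → ℂ)) (ι : C →* G) (hA : A ^ p = 1)
    (hcomm : ∀ c, A * ρ (ι c) = ρ (ι c) * A) (x : C × Multiplicative (ZMod p)) :
    (prodRep ρ A ι hA hcomm).character x = tw ρ A (Multiplicative.toAdd x.2).val (ι x.1) := rfl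

/-- The representation `(c, i) ↦ e(j i) ρβ(c)` of `C × ℤ/p`. -/
noncomputable def twistProdRep {m : ℕ} (e : AddChar (ZMod p) ℂ) (j : ZMod p)
    (ρβ : Representation ℂ C (Fin m → ℂ)) :
    Representation ℂ (C × Multiplicative (ZMod p)) (Fin m → ℂ) where
  toFun x := e (j * Multiplicative.toAdd x.2) • ρβ x.1
  map_one' := by simp
  map_mul' x y := by
    show e (j * Multiplicative.toAdd (x.2 * y.2)) • ρβ (x.1 * y.1) = _
    rw [toAdd_mul, mul_add, AddChar.map_add_eq_mul, map_mul ρβ, smul_mul_smul_comm]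

theorem twistProdRep_character {m : ℕ} (e : AddChar (ZMod p) ℂ) (j : ZMod p)
    (ρβ : Representation ℂ C (Fin m → ℂ)) (x : C × Multiplicative (ZMod p)) :
    (twistProdRep e j ρβ).character x = e (j * Multiplicative.toAdd x.2) * ρβ.character x.1 := by
  show LinearMap.trace ℂ _ (e (j * Multiplicative.toAdd x.2) • ρβ x.1) = _
  rw [map_smul, smul_eq_mul]
  rfl

variable [Fintype C]

/-- The Fourier coefficients of the twisted multiplicities are natural numbers. -/
theorem exists_nat_fourier (ρ : Representation ℂ G (Fin n → ℂ))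
    (A : Module.End ℂ (Fin n → ℂ)) (ι : C →* G) (hA : A ^ p = 1)
    (hcomm : ∀ c, A * ρ (ι c) = ρ (ι c) * A) (e : AddChar (ZMod p) ℂ)
    (hconj : ∀ x, conj (e x) = e (-x)) (β : IrrCharacter C) (j : ZMod p) :
    ∃ N : ℕ, (N : ℂ) = (p : ℂ)⁻¹ * ∑ i : ZMod p, e (-(j * i)) *
      classInner (fun c => tw ρ A i.val (ι c)) (β : C → ℂ) := by
  classical
  obtain ⟨m, ρβ, hirr, hβ⟩ := β.2
  have h := Helper75.classInner_character_eq_finrank (prodRep ρ A ι hA hcomm)
    (twistProdRep e j ρβ)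
  refine ⟨_, h.symm.trans ?_⟩
  unfold classInner
  have hcard : (Nat.card (C × Multiplicative (ZMod p)) : ℂ) = (p : ℂ) * (Nat.card C : ℂ) := by
    rw [Nat.card_prod, Nat.card_eq_fintype_card (α := Multiplicative (ZMod p)),
      Fintype.card_multiplicative, ZMod.card]
    push_cast
    ring
  rw [hcard, Fintype.sum_prod_type, Finset.sum_comm]
  rw [← Fintype.sum_equiv Multiplicative.toAdd.symm
    (fun i : ZMod p => ∑ c : C, (prodRep ρ A ι hA hcomm).character (c, Multiplicative.ofAdd i) *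
      conj ((twistProdRep e j ρβ).character (c, Multiplicative.ofAdd i)))
    _ (fun i => rfl)]
  rw [mul_inv, mul_assoc, Finset.mul_sum]
  congr 1
  refine Finset.sum_congr rfl fun i _ => ?_
  rw [Finset.mul_sum, Finset.mul_sum, Finset.mul_sum]
  refine Finset.sum_congr rfl fun c _ => ?_
  rw [prodRep_character, twistProdRep_character, (starRingEnd ℂ).map_mul, hconj, ← hβ]
  simp only [toAdd_ofAdd]
  ring

end Cyclic

section CyclicData

variable {G : Type*} [Group G] [Fintype G] {C : Type*} [Group C] [Fintype C] {p : ℕ}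
  [Fact p.Prime] {n : ℕ}

theorem tw_comm_fixed (σ : MulAut G) (ι : C →* G) (hfix : ∀ g : G, σ g = g ↔ g ∈ ι.range)
    (ρ : Representation ℂ G (Fin n → ℂ)) (A : Module.End ℂ (Fin n → ℂ))
    (hAρ : ∀ g, A * ρ g = ρ (σ g) * A) (c : C) : A * ρ (ι c) = ρ (ι c) * A := by
  have := hAρ (ι c)
  rw [(hfix (ι c)).mpr ⟨c, rfl⟩] at this
  exact this

theorem tw_res_classFunction (σ : MulAut G) (ι : C →* G)
    (hfix : ∀ g : G, σ g = g ↔ g ∈ ι.range)
    (ρ : Representation ℂ G (Fin n → ℂ)) (A : Module.End ℂ (Fin n → ℂ))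
    (hAρ : ∀ g, A * ρ g = ρ (σ g) * A) (k : ℕ) :
    IsClassFunction C (fun c => tw ρ A k (ι c)) := by
  intro c u
  show tw ρ A k (ι (u * c * u⁻¹)) = tw ρ A k (ι c)
  have h1 : (σ ^ k) (ι u) = ι u := aut_pow_fixed σ ((hfix (ι u)).mpr ⟨u, rfl⟩) k
  have h2 := tw_twist σ ρ A hAρ k (ι u) (ι c)
  rw [h1] at h2
  rw [map_mul, map_mul, map_inv]
  exact h2

theorem tw_res_inner_self (σ : MulAut G) (hσ : σ ^ p = 1) (hpG : ¬ p ∣ Fintype.card G)
    (ι : C →* G) (hι : Function.Injective ι) (hfix : ∀ g : G, σ g = g ↔ g ∈ ι.range)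
    (ρ : Representation ℂ G (Fin n → ℂ)) [ρ.IsIrreducible] (A : Module.End ℂ (Fin n → ℂ))
    (hA : A ^ p = 1) (hAρ : ∀ g, A * ρ g = ρ (σ g) * A) (k : ℕ) (hk : ¬ p ∣ k) :
    classInner (fun c => tw ρ A k (ι c)) (fun c => tw ρ A k (ι c)) = 1 := by
  have hp : p.Prime := Fact.out
  have hτ : (σ ^ k) ^ p = 1 := by rw [← pow_mul, mul_comm, pow_mul, hσ, one_pow]
  have hfix' : ∀ g : G, (σ ^ k) g = g ↔ g ∈ ι.range := fun g =>
    (aut_pow_fixed_iff σ hσ hk g).trans (hfix g)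
  have h1 := sum_twist_class (σ ^ k) hp hτ hpG ι hι hfix'
    (fun g => tw ρ A k g * conj (tw ρ A k g))
    (fun h g => by
      show tw ρ A k (h * g * ((σ ^ k) h)⁻¹) * conj (tw ρ A k (h * g * ((σ ^ k) h)⁻¹)) = _
      rw [tw_twist σ ρ A hAρ k h g])
  rw [sum_tw_mul_conj σ ρ A hp.ne_zero hA hAρ k] at h1
  have hG : (Fintype.card G : ℂ) ≠ 0 := by exact_mod_cast Fintype.card_ne_zero
  have hC : (Fintype.card C : ℂ) ≠ 0 := by exact_mod_cast Fintype.card_ne_zero
  have h2 : ∑ c : C, tw ρ A k (ι c) * conj (tw ρ A k (ι c)) = (Fintype.card C : ℂ) := by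
    have : (Fintype.card G : ℂ) * ∑ c : C, tw ρ A k (ι c) * conj (tw ρ A k (ι c)) =
        (Fintype.card G : ℂ) * (Fintype.card C : ℂ) := by rw [← h1]; ring
    exact mul_left_cancel₀ hG this
  unfold classInner
  rw [h2, Nat.card_eq_fintype_card, inv_mul_cancel₀ hC]

theorem tw_res_inner_cross (σ : MulAut G) (hσ : σ ^ p = 1) (hpG : ¬ p ∣ Fintype.card G)
    (ι : C →* G) (hι : Function.Injective ι) (hfix : ∀ g : G, σ g = g ↔ g ∈ ι.range)
    (ρ : Representation ℂ G (Fin n → ℂ)) [ρ.IsIrreducible] (A : Module.End ℂ (Fin n → ℂ))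
    (hAρ : ∀ g, A * ρ g = ρ (σ g) * A)
    {n' : ℕ} (ρ' : Representation ℂ G (Fin n' → ℂ)) [ρ'.IsIrreducible]
    (A' : Module.End ℂ (Fin n' → ℂ)) (hA' : A' ^ p = 1)
    (hAρ' : ∀ g, A' * ρ' g = ρ' (σ g) * A') (hne : ρ.character ≠ ρ'.character)
    (k : ℕ) (hk : ¬ p ∣ k) :
    classInner (fun c => tw ρ A k (ι c)) (fun c => tw ρ' A' k (ι c)) = 0 := by
  have hp : p.Prime := Fact.out
  have hτ : (σ ^ k) ^ p = 1 := by rw [← pow_mul, mul_comm, pow_mul, hσ, one_pow]
  have hfix' : ∀ g : G, (σ ^ k) g = g ↔ g ∈ ι.range := fun g =>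
    (aut_pow_fixed_iff σ hσ hk g).trans (hfix g)
  have h1 := sum_twist_class (σ ^ k) hp hτ hpG ι hι hfix'
    (fun g => tw ρ A k g * conj (tw ρ' A' k g))
    (fun h g => by
      show tw ρ A k (h * g * ((σ ^ k) h)⁻¹) * conj (tw ρ' A' k (h * g * ((σ ^ k) h)⁻¹)) = _
      rw [tw_twist σ ρ A hAρ k h g, tw_twist σ ρ' A' hAρ' k h g])
  rw [sum_tw_mul_conj_cross σ ρ A ρ' A' hne hp.ne_zero hA' hAρ' k, mul_zero] at h1
  have hG : (Fintype.card G : ℂ) ≠ 0 := by exact_mod_cast Fintype.card_ne_zero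
  have h2 : ∑ c : C, tw ρ A k (ι c) * conj (tw ρ' A' k (ι c)) = 0 := by
    rcases mul_eq_zero.mp h1.symm with h | h
    · exact absurd h hG
    · exact h
  unfold classInner
  rw [h2, mul_zero]

/-- The data attached to an irreducible `ρ` with intertwiner `A`. -/
theorem cyclic_data (σ : MulAut G) (hσ : σ ^ p = 1) (hpG : ¬ p ∣ Fintype.card G)
    (ι : C →* G) (hι : Function.Injective ι) (hfix : ∀ g : G, σ g = g ↔ g ∈ ι.range)
    (ρ : Representation ℂ G (Fin n → ℂ)) [ρ.IsIrreducible] (A : Module.End ℂ (Fin n → ℂ))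
    (hA : A ^ p = 1) (hAρ : ∀ g, A * ρ g = ρ (σ g) * A) :
    ∃ (β₀ : IrrCharacter C) (s : IrrCharacter C → ℕ),
      (∀ β : IrrCharacter C,
        classInner (fun c => ρ.character (ι c)) (β : C → ℂ) = (s β : ℂ)) ∧
      ¬ p ∣ s β₀ ∧ (∀ β, β ≠ β₀ → p ∣ s β) ∧
      ((s β₀ : ℤ) ≡ 1 [ZMOD p] ∨ (s β₀ : ℤ) ≡ -1 [ZMOD p]) ∧
      (∀ β : IrrCharacter C, β ≠ β₀ →
        classInner (fun c => tw ρ A 1 (ι c)) (β : C → ℂ) = 0) ∧
      classInner (fun c => tw ρ A 1 (ι c)) (β₀ : C → ℂ) ≠ 0 := by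
  classical
  have hp : p.Prime := Fact.out
  haveI : Fact (1 < p) := ⟨hp.one_lt⟩
  letI : Fintype (IrrCharacter C) := Fintype.ofFinite _
  set e : AddChar (ZMod p) ℂ := ZMod.stdAddChar (N := p) with he_def
  have he : e.IsPrimitive := ZMod.isPrimitive_stdAddChar p
  have hconj : ∀ x, conj (e x) = e (-x) := fun x => (AddChar.map_neg_eq_conj e x).symm
  have hcomm := tw_comm_fixed σ ι hfix ρ A hAρ
  set a : IrrCharacter C → ZMod p → ℂ :=
    fun β i => classInner (fun c => tw ρ A i.val (ι c)) (β : C → ℂ) with ha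
  choose N hN using fun (β : IrrCharacter C) (j : ZMod p) =>
    exists_nat_fourier ρ A ι hA hcomm e hconj β j
  have hnorm : ∀ i : ZMod p, i ≠ 0 → ∑ β, a β i * conj (a β i) = 1 := by
    intro i hi
    have hk : ¬ p ∣ i.val := by
      intro hdvd
      apply hi
      have := Nat.eq_zero_of_dvd_of_lt hdvd (ZMod.val_lt i)
      exact (ZMod.val_eq_zero i).mp this
    rw [← classInner_parseval _ _ (tw_res_classFunction σ ι hfix ρ A hAρ i.val)]
    exact tw_res_inner_self σ hσ hpG ι hι hfix ρ A hA hAρ i.val hk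
  obtain ⟨h0, β₀, h1, h2, h3, h4, h5⟩ := arith_core e he hconj a N hN hnorm
  refine ⟨β₀, fun β => ∑ j, N β j, ?_, h1, h2, h3, ?_, ?_⟩
  · intro β
    have := h0 β
    simp only [ha, ZMod.val_zero, tw_zero] at this
    exact this
  · intro β hβ
    have := h4 β hβ 1 one_ne_zero
    simp only [ha, ZMod.val_one] at this
    exact this
  · have := h5 1 one_ne_zero
    simp only [ha, ZMod.val_one] at this
    intro h0'
    rw [h0', zero_mul] at this
    exact zero_ne_one this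

end CyclicData

end Cfsg.Agent.Helper74
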