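import Cfsg.Agent.Helper74.GlaubCyclic

/-!
# Helper74: the Glauberman correspondence for an automorphism of prime order: main theorem
-/

set_option autoImplicit false

namespace Cfsg.Agent.Helper74

open Representation Cfsg

open scoped ComplexConjugate

/-- The four assertions of the Glauberman correspondence (p-group case), for a class `Inv` of
"invariant" irreducible characters of `G` and a hom `ι : C →* G`. -/
def GlaubCorr (p : ℕ) {G : Type*} [Group G] {C : Type*} [Group C] [Fintype C]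
    (Inv : IrrCharacter G → Prop) (ι : C →* G) : Prop :=
  (∀ χ : IrrCharacter G, Inv χ → ∃! β : IrrCharacter C, ∃ m : ℕ,
      classInner (fun c : C => (χ : G → ℂ) (ι c)) (β : C → ℂ) = (m : ℂ) ∧ ¬ p ∣ m) ∧
  (∀ χ : IrrCharacter G, Inv χ → ∀ β : IrrCharacter C, ∀ m : ℕ,
      classInner (fun c : C => (χ : G → ℂ) (ι c)) (β : C → ℂ) = (m : ℂ) → ¬ p ∣ m →
      ((m : ℤ) ≡ 1 [ZMOD p] ∨ (m : ℤ) ≡ -1 [ZMOD p])) ∧
  (∀ χ χ' : IrrCharacter G, Inv χ → Inv χ' → ∀ β : IrrCharacter C, ∀ m m' : ℕ,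
      classInner (fun c : C => (χ : G → ℂ) (ι c)) (β : C → ℂ) = (m : ℂ) → ¬ p ∣ m →
      classInner (fun c : C => (χ' : G → ℂ) (ι c)) (β : C → ℂ) = (m' : ℂ) → ¬ p ∣ m' →
      χ = χ') ∧
  (∀ β : IrrCharacter C, ∃ χ : IrrCharacter G, Inv χ ∧ ∃ m : ℕ,
      classInner (fun c : C => (χ : G → ℂ) (ι c)) (β : C → ℂ) = (m : ℂ) ∧ ¬ p ∣ m)

section Main

variable {G : Type*} [Group G] [Fintype G] {C : Type*} [Group C] [Fintype C] {p : ℕ}
  [Fact p.Prime]

/-- Multiplicities of irreducible characters of `C` in restrictions are natural numbers. -/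
theorem exists_mult (ι : C →* G) (χ : IrrCharacter G) (β : IrrCharacter C) :
    ∃ m : ℕ, classInner (fun c : C => (χ : G → ℂ) (ι c)) (β : C → ℂ) = (m : ℂ) :=
  Helper3.classInner_isCharacter_nat (Helper79.isCharacter_comp (Helper79.irr_isCharacter χ) ι)
    (Helper79.irr_isCharacter β)

/-- Surjectivity in the cyclic case. -/
theorem cyclic_surj (σ : MulAut G) (hσ : σ ^ p = 1) (hpG : ¬ p ∣ Fintype.card G)
    (ι : C →* G) (hι : Function.Injective ι) (hfix : ∀ g : G, σ g = g ↔ g ∈ ι.range)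
    (δ : IrrCharacter C) :
    ∃ χ : IrrCharacter G, (∀ g, (χ : G → ℂ) (σ g) = (χ : G → ℂ) g) ∧ ∃ m : ℕ,
      classInner (fun c : C => (χ : G → ℂ) (ι c)) (δ : C → ℂ) = (m : ℂ) ∧ ¬ p ∣ m := by
  classical
  have hp : p.Prime := Fact.out
  letI : Fintype (IrrCharacter G) := Fintype.ofFinite _
  choose mu hmu using fun χ : IrrCharacter G => exists_mult ι χ δ
  choose d hd using fun χ : IrrCharacter G =>
    Helper79.isCharacter_exists_one_eq (Helper79.irr_isCharacter χ)
  obtain ⟨dδ, hdδ⟩ := Helper79.isCharacter_exists_one_eq (Helper79.irr_isCharacter δ)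
  have hC : (Fintype.card C : ℂ) ≠ 0 := by exact_mod_cast Fintype.card_ne_zero
  -- the regular character computation
  have hsumC : (Fintype.card C : ℂ) * ∑ χ : IrrCharacter G, (d χ : ℂ) * (mu χ : ℂ) =
      (Fintype.card G : ℂ) * (dδ : ℂ) := by
    have h1 : ∀ χ : IrrCharacter G, (d χ : ℂ) * (mu χ : ℂ) =
        (Fintype.card C : ℂ)⁻¹ * ∑ c : C, (χ : G → ℂ) 1 * (χ : G → ℂ) (ι c) *
          conj ((δ : C → ℂ) c) := by
      intro χ
      rw [← hd χ, ← hmu χ]
      unfold classInner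
      rw [Nat.card_eq_fintype_card, Finset.mul_sum, Finset.mul_sum, Finset.mul_sum]
      refine Finset.sum_congr rfl fun c _ => ?_
      ring
    simp only [h1]
    rw [← Finset.mul_sum, ← mul_assoc, mul_inv_cancel₀ hC, one_mul, Finset.sum_comm]
    have h2 : ∀ c : C, ∑ χ : IrrCharacter G, (χ : G → ℂ) 1 * (χ : G → ℂ) (ι c) *
        conj ((δ : C → ℂ) c) = if c = 1 then (Fintype.card G : ℂ) * (dδ : ℂ) else 0 := by
      intro c
      rw [← Finset.sum_mul, Helper80.irr_sum_degree_mul]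
      by_cases hc : c = 1
      · subst hc
        rw [if_pos (map_one ι), if_pos rfl, hdδ, Complex.conj_natCast]
      · have : ι c ≠ 1 := fun h => hc (hι (by rw [h, map_one]))
        rw [if_neg this, if_neg hc, zero_mul]
    simp only [h2]
    rw [Finset.sum_ite_eq' Finset.univ (1 : C), if_pos (Finset.mem_univ _)]
  have hsumN : Fintype.card C * ∑ χ : IrrCharacter G, d χ * mu χ = Fintype.card G * dδ := by
    exact_mod_cast hsumC
  -- p does not divide the right side
  have hCG : Fintype.card C ∣ Fintype.card G := by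
    have h1 : Nat.card C = Nat.card ι.range :=
      Nat.card_congr (MonoidHom.ofInjective hι).toEquiv
    have h2 := Subgroup.card_subgroup_dvd_card ι.range
    rw [← h1, Nat.card_eq_fintype_card, Nat.card_eq_fintype_card] at h2
    exact h2
  have hdδC : dδ ∣ Fintype.card C := by
    obtain ⟨m, ρδ, hirr, hδ⟩ := δ.2
    haveI := hirr
    have h1 := Helper3.finrank_dvd_card ρδ
    have h2 : Module.finrank ℂ (Fin m → ℂ) = dδ := by
      have h3 : ((Module.finrank ℂ (Fin m → ℂ) : ℕ) : ℂ) = (dδ : ℂ) := by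
        rw [← hdδ, ← hδ, Representation.char_one]
      exact_mod_cast h3
    rw [h2, Nat.card_eq_fintype_card] at h1
    exact h1
  have hpdδ : ¬ p ∣ dδ := fun h => hpG (dvd_trans h (dvd_trans hdδC hCG))
  have hpsum : ¬ p ∣ ∑ χ : IrrCharacter G, d χ * mu χ := by
    intro h
    have h1 : p ∣ Fintype.card G * dδ := by
      rw [← hsumN]
      exact dvd_mul_of_dvd_right h _
    rcases (Nat.Prime.dvd_mul hp).mp h1 with h2 | h2
    · exact hpG h2
    · exact hpdδ h2
  -- the orbit lemma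
  set s : IrrCharacter G → IrrCharacter G := fun χ =>
    ⟨fun g => (χ : G → ℂ) (σ g), (Helper79.isIrrCharacter_mulEquiv σ).mpr χ.2⟩ with hs
  have hsiter : ∀ (j : ℕ) (χ : IrrCharacter G) (g : G),
      ((s^[j] χ : IrrCharacter G) : G → ℂ) g = (χ : G → ℂ) ((σ ^ j) g) := by
    intro j
    induction j with
    | zero => intro χ g; rfl
    | succ j ih =>
      intro χ g
      rw [Function.iterate_succ_apply, ih (s χ) g, pow_succ', MulAut.mul_apply]
  have hsp : ∀ χ, s^[p] χ = χ := by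
    intro χ
    apply Subtype.ext
    funext g
    rw [hsiter p χ g, hσ, MulAut.one_apply]
  have ht : ∀ χ, d (s χ) * mu (s χ) = d χ * mu χ := by
    intro χ
    have h1 : d (s χ) = d χ := by
      have : ((d (s χ) : ℕ) : ℂ) = (d χ : ℂ) := by
        rw [← hd, ← hd]
        show (χ : G → ℂ) (σ 1) = _
        rw [map_one]
      exact_mod_cast this
    have h2 : mu (s χ) = mu χ := by
      have : ((mu (s χ) : ℕ) : ℂ) = (mu χ : ℂ) := by
        rw [← hmu, ← hmu]
        congr 1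
        funext c
        show (χ : G → ℂ) (σ (ι c)) = _
        rw [(hfix (ι c)).mpr ⟨c, rfl⟩]
      exact_mod_cast this
    rw [h1, h2]
  have horb := orbit_sum_modEq p s hsp (fun χ => d χ * mu χ) ht
  have hpsum' : ¬ p ∣ ∑ χ ∈ Finset.univ.filter (fun χ => s χ = χ), d χ * mu χ := by
    intro h
    apply hpsum
    exact (Nat.modEq_zero_iff_dvd).mp (horb.trans ((Nat.modEq_zero_iff_dvd).mpr h))
  obtain ⟨χ, hχmem, hχ⟩ : ∃ χ ∈ Finset.univ.filter (fun χ => s χ = χ), ¬ p ∣ d χ * mu χ := by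
    by_contra hcon
    push Not at hcon
    exact hpsum' (Finset.dvd_sum hcon)
  refine ⟨χ, ?_, mu χ, hmu χ, fun h => hχ (dvd_mul_of_dvd_right h _)⟩
  intro g
  have h1 : s χ = χ := (Finset.mem_filter.mp hχmem).2
  have h2 := congrFun (congrArg Subtype.val h1) g
  exact h2

/-- The package attached to an invariant irreducible character. -/
theorem cyclic_pack (σ : MulAut G) (hσ : σ ^ p = 1) (hpG : ¬ p ∣ Fintype.card G)
    (ι : C →* G) (hι : Function.Injective ι) (hfix : ∀ g : G, σ g = g ↔ g ∈ ι.range)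
    (χ : IrrCharacter G) (hχ : ∀ g, (χ : G → ℂ) (σ g) = (χ : G → ℂ) g) :
    ∃ (ψ : C → ℂ) (β₀ : IrrCharacter C) (s : IrrCharacter C → ℕ),
      IsClassFunction C ψ ∧
      (∀ β : IrrCharacter C,
        classInner (fun c => (χ : G → ℂ) (ι c)) (β : C → ℂ) = (s β : ℂ)) ∧
      ¬ p ∣ s β₀ ∧ (∀ β, β ≠ β₀ → p ∣ s β) ∧
      ((s β₀ : ℤ) ≡ 1 [ZMOD p] ∨ (s β₀ : ℤ) ≡ -1 [ZMOD p]) ∧
      (∀ β : IrrCharacter C, β ≠ β₀ → classInner ψ (β : C → ℂ) = 0) ∧
      classInner ψ (β₀ : C → ℂ) ≠ 0 ∧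
      ∃ (n : ℕ) (ρ : Representation ℂ G (Fin n → ℂ)) (A : Module.End ℂ (Fin n → ℂ)),
        ρ.IsIrreducible ∧ ρ.character = (χ : G → ℂ) ∧ A ^ p = 1 ∧
        (∀ g, A * ρ g = ρ (σ g) * A) ∧ ψ = fun c => tw ρ A 1 (ι c) := by
  have hp : p.Prime := Fact.out
  obtain ⟨n, ρ, hirr, hρ⟩ := χ.2
  haveI := hirr
  have hinv : ∀ g, ρ.character (σ g) = ρ.character g := by
    intro g
    rw [hρ]
    exact hχ g
  obtain ⟨A, hA, hAρ⟩ := exists_twist_op σ ρ hp.ne_zero hσ hinv
  obtain ⟨β₀, s, h1, h2, h3, h4, h5, h6⟩ := cyclic_data σ hσ hpG ι hι hfix ρ A hA hAρ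
  refine ⟨fun c => tw ρ A 1 (ι c), β₀, s, tw_res_classFunction σ ι hfix ρ A hAρ 1, ?_, h2, h3,
    h4, h5, h6, n, ρ, A, hirr, hρ, hA, hAρ, rfl⟩
  intro β
  rw [← hρ]
  exact h1 β

/-- **Glauberman correspondence, cyclic case of prime order.** -/
theorem glaub_cyclic (σ : MulAut G) (hσ : σ ^ p = 1) (hpG : ¬ p ∣ Fintype.card G)
    (ι : C →* G) (hι : Function.Injective ι) (hfix : ∀ g : G, σ g = g ↔ g ∈ ι.range) :
    GlaubCorr p (fun χ : IrrCharacter G => ∀ g, (χ : G → ℂ) (σ g) = (χ : G → ℂ) g) ι := by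
  classical
  have hp : p.Prime := Fact.out
  refine ⟨?_, ?_, ?_, ?_⟩
  · intro χ hχ
    obtain ⟨ψ, β₀, s, -, h1, h2, h3, -, -, -, -⟩ := cyclic_pack σ hσ hpG ι hι hfix χ hχ
    refine ⟨β₀, ⟨s β₀, h1 β₀, h2⟩, ?_⟩
    rintro β ⟨m, hm, hpm⟩
    by_contra hne
    have h4 : (s β : ℂ) = (m : ℂ) := by rw [← h1 β, hm]
    have h5 : s β = m := by exact_mod_cast h4
    exact hpm (h5 ▸ h3 β hne)
  · intro χ hχ β m hm hpm
    obtain ⟨ψ, β₀, s, -, h1, h2, h3, h4, -, -, -⟩ := cyclic_pack σ hσ hpG ι hι hfix χ hχ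
    have h5 : s β = m := by
      have : (s β : ℂ) = (m : ℂ) := by rw [← h1 β, hm]
      exact_mod_cast this
    have h6 : β = β₀ := by
      by_contra hne
      exact hpm (h5 ▸ h3 β hne)
    rw [← h5, h6]
    exact h4
  · intro χ χ' hχ hχ' β m m' hm hpm hm' hpm'
    by_contra hne
    obtain ⟨ψ, β₀, s, hcl, h1, h2, h3, -, h5, h6, n, ρ, A, hirr, hρ, hA, hAρ, hψ⟩ :=
      cyclic_pack σ hσ hpG ι hι hfix χ hχ
    obtain ⟨ψ', β₀', s', hcl', h1', h2', h3', -, h5', h6', n', ρ', A', hirr', hρ', hA', hAρ',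
      hψ'⟩ := cyclic_pack σ hσ hpG ι hι hfix χ' hχ'
    have e1 : β = β₀ := by
      have h7 : s β = m := by
        have : (s β : ℂ) = (m : ℂ) := by rw [← h1 β, hm]
        exact_mod_cast this
      by_contra hne'
      exact hpm (h7 ▸ h3 β hne')
    have e2 : β = β₀' := by
      have h7 : s' β = m' := by
        have : (s' β : ℂ) = (m' : ℂ) := by rw [← h1' β, hm']
        exact_mod_cast this
      by_contra hne'
      exact hpm' (h7 ▸ h3' β hne')
    haveI := hirr
    haveI := hirr'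
    have hchar : ρ.character ≠ ρ'.character := by
      rw [hρ, hρ']
      intro h
      exact hne (Subtype.ext h)
    have hk : ¬ p ∣ 1 := fun h => hp.one_lt.ne' (Nat.dvd_one.mp h)
    have hcross : classInner ψ ψ' = 0 := by
      rw [hψ, hψ']
      exact tw_res_inner_cross σ hσ hpG ι hι hfix ρ A hAρ ρ' A' hA' hAρ' hchar 1 hk
    letI : Fintype (IrrCharacter C) := Fintype.ofFinite _
    rw [classInner_parseval ψ ψ' hcl, Finset.sum_eq_single β] at hcross
    · rcases mul_eq_zero.mp hcross with h | h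
      · exact h6 (e1 ▸ h)
      · have : classInner ψ' (β : C → ℂ) = 0 := by
          have := congrArg (starRingEnd ℂ) h
          simpa using this
        exact h6' (e2 ▸ this)
    · intro b _ hb
      rw [h5 b (fun h => hb (h.trans e1.symm)), zero_mul]
    · intro h
      exact absurd (Finset.mem_univ β) h
  · intro β
    exact cyclic_surj σ hσ hpG ι hι hfix β

end Main

end Cfsg.Agent.Helper74
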