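import Cfsg.Agent.Helper74.GlaubComp

/-!
# Helper74: the Glauberman correspondence for a p-group of automorphisms (coprime action)
-/

set_option autoImplicit false

namespace Cfsg.Agent.Helper74

open Representation Cfsg

open scoped ComplexConjugate

section Base

variable {G : Type*} [Group G] [Fintype G] {C : Type*} [Group C] [Fintype C] {p : ℕ}
  [Fact p.Prime]

/-- The correspondence for an isomorphism is composition. -/
theorem glaubCorr_of_bijective (ι : C →* G) (hbij : Function.Bijective ι)
    (Inv : IrrCharacter G → Prop) (hInv : ∀ χ, Inv χ) : GlaubCorr p Inv ι := by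
  classical
  have hp : p.Prime := Fact.out
  set e : C ≃* G := MulEquiv.ofBijective ι hbij with he
  have hei : ∀ c, e c = ι c := fun c => rfl
  set res : IrrCharacter G → IrrCharacter C := fun χ =>
    ⟨fun c => (χ : G → ℂ) (e c), (Helper79.isIrrCharacter_mulEquiv e).mpr χ.2⟩ with hres
  have hC : (Fintype.card C : ℂ) ≠ 0 := by exact_mod_cast Fintype.card_ne_zero
  have horth : ∀ (χ : IrrCharacter G) (β : IrrCharacter C),
      classInner (fun c : C => (χ : G → ℂ) (ι c)) (β : C → ℂ) =
        if res χ = β then 1 else 0 := by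
    intro χ β
    have h1 := Helper80.irr_orthogonality_conj (res χ) β
    unfold classInner
    rw [Nat.card_eq_fintype_card]
    have h2 : ∑ g : C, (χ : G → ℂ) (ι g) * conj ((β : C → ℂ) g) =
        if res χ = β then (Fintype.card C : ℂ) else 0 := h1
    rw [h2]
    split_ifs
    · exact inv_mul_cancel₀ hC
    · exact mul_zero _
  have hp1 : ¬ p ∣ 1 := fun h => hp.one_lt.ne' (Nat.dvd_one.mp h)
  have hres_of : ∀ (χ : IrrCharacter G) (β : IrrCharacter C) (m : ℕ),
      classInner (fun c : C => (χ : G → ℂ) (ι c)) (β : C → ℂ) = (m : ℂ) → ¬ p ∣ m →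
      res χ = β ∧ m = 1 := by
    intro χ β m hm hpm
    rw [horth] at hm
    by_cases h : res χ = β
    · rw [if_pos h] at hm
      exact ⟨h, by exact_mod_cast hm.symm⟩
    · rw [if_neg h] at hm
      have : m = 0 := by exact_mod_cast hm.symm
      rw [this] at hpm
      exact absurd (dvd_zero p) hpm
  refine ⟨?_, ?_, ?_, ?_⟩
  · intro χ _
    refine ⟨res χ, ⟨1, ?_, hp1⟩, ?_⟩
    · rw [horth, if_pos rfl]; simp
    · rintro β ⟨m, hm, hpm⟩
      exact (hres_of χ β m hm hpm).1.symm
  · intro χ _ β m hm hpm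
    left
    rw [(hres_of χ β m hm hpm).2]
    rfl
  · intro χ χ' _ _ β m m' hm hpm hm' hpm'
    have h1 := (hres_of χ β m hm hpm).1
    have h2 := (hres_of χ' β m' hm' hpm').1
    apply Subtype.ext
    funext g
    obtain ⟨c, rfl⟩ := hbij.2 g
    have := congrFun (congrArg Subtype.val (h1.trans h2.symm)) c
    exact this
  · intro β
    refine ⟨⟨fun g => (β : C → ℂ) (e.symm g), (Helper79.isIrrCharacter_mulEquiv e.symm).mpr β.2⟩,
      hInv _, 1, ?_, hp1⟩
    rw [horth, if_pos]
    · simp
    · apply Subtype.ext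
      funext c
      show (β : C → ℂ) (e.symm (e c)) = (β : C → ℂ) c
      rw [MulEquiv.symm_apply_apply]

end Base

section Fix

variable {G : Type*} [Group G]

/-- The subgroup of fixed points of an automorphism. -/
def fixSub (z : MulAut G) : Subgroup G where
  carrier := {g | z g = g}
  mul_mem' := by
    intro a b ha hb
    simp only [Set.mem_setOf_eq] at *
    rw [map_mul, ha, hb]
  one_mem' := map_one z
  inv_mem' := by
    intro a ha
    simp only [Set.mem_setOf_eq] at *
    rw [map_inv, ha]

theorem mem_fixSub (z : MulAut G) (g : G) : g ∈ fixSub z ↔ z g = g := Iff.rfl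

theorem aut_map_fixSub (z a : MulAut G) (h : a * z = z * a) {g : G} (hg : g ∈ fixSub z) :
    a g ∈ fixSub z := by
  rw [mem_fixSub] at hg ⊢
  have : z (a g) = (z * a) g := rfl
  rw [this, ← h, MulAut.mul_apply, hg]

/-- Restriction to the fixed points of `z` of an automorphism commuting with `z`. -/
def resAut (z a : MulAut G) (h : a * z = z * a) : MulAut ↥(fixSub z) where
  toFun g := ⟨a g.1, aut_map_fixSub z a h g.2⟩
  invFun g := ⟨a⁻¹ g.1, aut_map_fixSub z a⁻¹
    ((show Commute a z from h).inv_left.eq) g.2⟩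
  left_inv g := by
    apply Subtype.ext
    show a⁻¹ (a g.1) = g.1
    rw [← MulAut.mul_apply, inv_mul_cancel, MulAut.one_apply]
  right_inv g := by
    apply Subtype.ext
    show a (a⁻¹ g.1) = g.1
    rw [← MulAut.mul_apply, mul_inv_cancel, MulAut.one_apply]
  map_mul' x y := by
    apply Subtype.ext
    show a (x.1 * y.1) = a x.1 * a y.1
    rw [map_mul]

theorem resAut_apply_coe (z a : MulAut G) (h : a * z = z * a) (g : ↥(fixSub z)) :
    ((resAut z a h g : ↥(fixSub z)) : G) = a g.1 := rfl

/-- The restriction homomorphism. -/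
def resHom (𝒜 : Subgroup (MulAut G)) (z : MulAut G) (hz : ∀ a ∈ 𝒜, a * z = z * a) :
    ↥𝒜 →* MulAut ↥(fixSub z) where
  toFun a := resAut z a.1 (hz a.1 a.2)
  map_one' := by
    ext g
    rfl
  map_mul' a b := by
    ext g
    rfl

theorem resHom_apply_coe (𝒜 : Subgroup (MulAut G)) (z : MulAut G)
    (hz : ∀ a ∈ 𝒜, a * z = z * a) (a : ↥𝒜) (g : ↥(fixSub z)) :
    ((resHom 𝒜 z hz a g : ↥(fixSub z)) : G) = a.1 g.1 := rfl

end Fix

section Induction

universe u v

/-- **Glauberman correspondence for a p-group of automorphisms**, by induction on `|G|`. -/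
theorem glaub_pgroup_aux (p : ℕ) [Fact p.Prime] {C : Type v} [Group C] [Fintype C] :
    ∀ (n : ℕ) (G : Type u) [Group G] [Fintype G], Fintype.card G = n →
    ∀ (𝒜 : Subgroup (MulAut G)), IsPGroup p 𝒜 → (Fintype.card G).Coprime (Nat.card 𝒜) →
    ∀ (ι : C →* G), Function.Injective ι → (∀ g : G, (∀ a ∈ 𝒜, a g = g) ↔ g ∈ ι.range) →
    GlaubCorr p
      (fun χ : IrrCharacter G => ∀ a ∈ 𝒜, ∀ g, (χ : G → ℂ) (a g) = (χ : G → ℂ) g) ι := by
  classical
  have hp : p.Prime := Fact.out
  intro n
  induction n using Nat.strong_induction_on with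
  | _ n ih =>
    intro G _ _ hn 𝒜 hA hcop ι hι hfix
    by_cases htriv : 𝒜 = ⊥
    · subst htriv
      have hsurj : Function.Surjective ι := by
        intro g
        exact (hfix g).mp (fun a ha => by rw [Subgroup.mem_bot.mp ha]; rfl)
      exact glaubCorr_of_bijective ι ⟨hι, hsurj⟩ _
        (fun χ a ha g => by rw [Subgroup.mem_bot.mp ha]; rfl)
    · haveI : Finite (MulAut G) :=
        Finite.of_injective (fun a : MulAut G => (a : G → G)) DFunLike.coe_injective
      haveI : Nontrivial ↥𝒜 := (Subgroup.nontrivial_iff_ne_bot 𝒜).mpr htriv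
      haveI hcen : Nontrivial (Subgroup.center ↥𝒜) := hA.center_nontrivial
      have hcenp : IsPGroup p (Subgroup.center ↥𝒜) := hA.to_subgroup _
      obtain ⟨k, hk0, hk⟩ := hcenp.nontrivial_iff_card.mp hcen
      have hdvd : p ∣ Nat.card (Subgroup.center ↥𝒜) := by
        rw [hk]; exact dvd_pow_self p hk0.ne'
      obtain ⟨z₀, hz₀⟩ := exists_prime_orderOf_dvd_card' p hdvd
      set z : MulAut G := ((z₀ : ↥𝒜) : MulAut G) with hz
      have hz𝒜 : z ∈ 𝒜 := (z₀ : ↥𝒜).2
      have hzp : z ^ p = 1 := by
        have h1 : z₀ ^ p = 1 := by rw [← hz₀]; exact pow_orderOf_eq_one z₀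
        have h2 := congrArg (fun x : Subgroup.center ↥𝒜 => ((x : ↥𝒜) : MulAut G)) h1
        simpa using h2
      have hz1 : z ≠ 1 := by
        intro h1
        have h2 : z₀ = 1 := by
          apply Subtype.ext
          apply Subtype.ext
          exact h1
        rw [h2, orderOf_one] at hz₀
        exact hp.one_lt.ne hz₀
      have hzcomm : ∀ a ∈ 𝒜, a * z = z * a := by
        intro a ha
        have h1 := (Subgroup.mem_center_iff.mp z₀.2) ⟨a, ha⟩
        have h2 := congrArg (fun x : ↥𝒜 => (x : MulAut G)) h1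
        exact h2
      have hpA : p ∣ Nat.card ↥𝒜 := by
        obtain ⟨k', hk0', hk'⟩ := hA.nontrivial_iff_card.mp inferInstance
        rw [hk']; exact dvd_pow_self p hk0'.ne'
      have hpG : ¬ p ∣ Fintype.card G := by
        intro h
        have := Nat.dvd_gcd h hpA
        rw [Nat.Coprime.gcd_eq_one hcop] at this
        exact hp.one_lt.ne' (Nat.dvd_one.mp this)
      set D₁ : Subgroup G := fixSub z with hD₁
      letI : Fintype ↥D₁ := Fintype.ofFinite _
      have hD₁dvd : Fintype.card ↥D₁ ∣ Fintype.card G := by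
        have := Subgroup.card_subgroup_dvd_card D₁
        rwa [Nat.card_eq_fintype_card, Nat.card_eq_fintype_card] at this
      have hD₁lt : Fintype.card ↥D₁ < Fintype.card G := by
        apply lt_of_le_of_ne (Nat.le_of_dvd Fintype.card_pos hD₁dvd)
        intro heq
        have htop : D₁ = ⊤ := by
          apply Subgroup.eq_top_of_card_eq
          rw [Nat.card_eq_fintype_card, Nat.card_eq_fintype_card, heq]
        apply hz1
        ext g
        have : g ∈ D₁ := by rw [htop]; exact Subgroup.mem_top g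
        exact this
      have R1 := glaub_cyclic z hzp hpG D₁.subtype (Subgroup.subtype_injective D₁)
        (fun g => by
          rw [Subgroup.range_subtype]
          exact (mem_fixSub z g).symm)
      set res : ↥𝒜 →* MulAut ↥D₁ := resHom 𝒜 z hzcomm with hres
      set 𝒜₁ : Subgroup (MulAut ↥D₁) := res.range with h𝒜₁
      have hA₁ : IsPGroup p 𝒜₁ :=
        IsPGroup.of_surjective hA res.rangeRestrict res.rangeRestrict_surjective
      have hcop₁ : (Fintype.card ↥D₁).Coprime (Nat.card 𝒜₁) :=
        Nat.Coprime.coprime_dvd_left hD₁dvd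
          (Nat.Coprime.coprime_dvd_right (Subgroup.card_range_dvd res) hcop)
      have hιfix : ∀ c : C, ∀ a ∈ 𝒜, a (ι c) = ι c := fun c => (hfix (ι c)).mpr ⟨c, rfl⟩
      set ι' : C →* ↥D₁ := ι.codRestrict D₁ (fun c => hιfix c z hz𝒜) with hι'def
      have hι' : Function.Injective ι' := by
        intro c c' hcc
        apply hι
        exact congrArg Subtype.val hcc
      have hfix' : ∀ g : ↥D₁, (∀ b ∈ 𝒜₁, b g = g) ↔ g ∈ ι'.range := by
        intro g
        constructor
        · intro h
          have h1 : ∀ a ∈ 𝒜, a g.1 = g.1 := by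
            intro a ha
            have := h (res ⟨a, ha⟩) ⟨⟨a, ha⟩, rfl⟩
            exact congrArg Subtype.val this
          obtain ⟨c, hc⟩ := (hfix g.1).mp h1
          exact ⟨c, Subtype.ext hc⟩
        · rintro ⟨c, rfl⟩ b ⟨a, rfl⟩
          apply Subtype.ext
          exact hιfix c a.1 a.2
      have R2 := ih (Fintype.card ↥D₁) (by rw [← hn]; exact hD₁lt) ↥D₁ rfl 𝒜₁ hA₁ hcop₁ ι' hι'
        hfix'
      have hcomp : ι = D₁.subtype.comp ι' := by
        ext c
        rfl
      rw [hcomp]
      refine glaubCorr_comp D₁.subtype ι' _ _ _ R1 R2 (fun χ h => h z hz𝒜) ?_ ?_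
      · -- hK1
        intro χ hχ δ m hm hpm b hb g
        obtain ⟨a, rfl⟩ := hb
        set δb : IrrCharacter ↥D₁ := ⟨fun g => (δ : ↥D₁ → ℂ) (res a g),
          (Helper79.isIrrCharacter_mulEquiv (res a)).mpr δ.2⟩ with hδb
        have hmb : classInner (fun d : ↥D₁ => (χ : G → ℂ) (D₁.subtype d)) (δb : ↥D₁ → ℂ) =
            (m : ℂ) := by
          rw [← hm, ← classInner_comp_equiv (res a).toEquiv
            (fun d : ↥D₁ => (χ : G → ℂ) (D₁.subtype d)) (δ : ↥D₁ → ℂ)]
          congr 1
          funext d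
          exact (hχ a.1 a.2 d.1).symm
        have huniq := (R1.1 χ (hχ z hz𝒜)).unique ⟨m, hmb, hpm⟩ ⟨m, hm, hpm⟩
        exact congrFun (congrArg Subtype.val huniq) g
      · -- hK4
        intro χ δ m hχz hδ hm hpm a ha g
        set χa : IrrCharacter G := ⟨fun g => (χ : G → ℂ) (a g),
          (Helper79.isIrrCharacter_mulEquiv a).mpr χ.2⟩ with hχa
        have hχaz : ∀ g, (χa : G → ℂ) (z g) = (χa : G → ℂ) g := by
          intro g
          show (χ : G → ℂ) (a (z g)) = (χ : G → ℂ) (a g)
          have : a (z g) = z (a g) := by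
            rw [← MulAut.mul_apply, hzcomm a ha, MulAut.mul_apply]
          rw [this, hχz]
        have hma : classInner (fun d : ↥D₁ => (χa : G → ℂ) (D₁.subtype d)) (δ : ↥D₁ → ℂ) =
            (m : ℂ) := by
          rw [← hm, ← classInner_comp_equiv (res ⟨a, ha⟩).toEquiv
            (fun d : ↥D₁ => (χ : G → ℂ) (D₁.subtype d)) (δ : ↥D₁ → ℂ)]
          congr 1
          funext d
          exact (hδ (res ⟨a, ha⟩) ⟨⟨a, ha⟩, rfl⟩ d).symm
        have heq := R1.2.2.1 χa χ hχaz hχz δ m m hma hpm hm hpm
        exact congrFun (congrArg Subtype.val heq) g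

end Induction

end Cfsg.Agent.Helper74
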