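import Cfsg.Agent.Helper80.CharOrtho
import Cfsg.Agent.Helper79.FrobSchur
import Cfsg.Agent.Helper75.Clifford

/-!
# Helper74: generalized orthogonality for twisted traces

For irreducible matrix representations `ρ`, `ρ'` of a finite group and arbitrary endomorphisms
`B`, `B'`:  `∑_g tr(ρ(g) B) tr(B' ρ'(g⁻¹))` is `0` when the characters differ and
`(|G|/n) tr(B B')` when `ρ' = ρ`.
-/

set_option autoImplicit false

namespace Cfsg.Agent.Helper74

open Representation

section Mat

variable {m n : Type*} [Fintype m] [Fintype n] [DecidableEq m] [DecidableEq n]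

theorem mul_single_mul_apply' (A : Matrix m m ℂ) (B : Matrix n n ℂ) (i : m) (j : n) (k : m)
    (l : n) : (A * Matrix.single i j (1 : ℂ) * B) k l = A k i * B j l := by
  rw [Matrix.mul_apply]
  have h1 : ∀ x, (A * Matrix.single i j (1 : ℂ)) k x = if j = x then A k i else 0 := by
    intro x
    rw [Matrix.mul_apply]
    simp [Matrix.single_apply, ite_and]
  simp [h1]

/-- `tr P · tr Q = ∑_{j,k} (P E_{jk} Q)_{jk}`. -/
theorem trace_mul_trace_eq (P : Matrix m m ℂ) (Q : Matrix n n ℂ) :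
    P.trace * Q.trace = ∑ j : m, ∑ k : n, (P * Matrix.single j k (1 : ℂ) * Q) j k := by
  simp only [mul_single_mul_apply', Matrix.trace, Matrix.diag_apply]
  rw [Finset.sum_mul_sum]

variable {G : Type*} [Group G] [Fintype G]

/-- Sum of products of twisted traces in terms of the averaging operator. -/
theorem sum_trace_mul_trace (X : G → Matrix m m ℂ) (X' : G → Matrix n n ℂ)
    (B : Matrix m m ℂ) (B' : Matrix n n ℂ) :
    ∑ g : G, (X g * B).trace * (B' * X' g⁻¹).trace =
      ∑ j : m, ∑ k : n,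
        (∑ g : G, X g * (B * Matrix.single j k (1 : ℂ) * B') * X' g⁻¹) j k := by
  simp only [trace_mul_trace_eq, Matrix.sum_apply]
  rw [Finset.sum_comm]
  refine Finset.sum_congr rfl fun j _ => ?_
  rw [Finset.sum_comm]
  refine Finset.sum_congr rfl fun k _ => ?_
  refine Finset.sum_congr rfl fun g _ => ?_
  simp only [Matrix.mul_assoc]

theorem sum_trace_mul_trace_of_zero (X : G → Matrix m m ℂ) (X' : G → Matrix n n ℂ)
    (hΦ : ∀ E : Matrix m n ℂ, ∑ g : G, X g * E * X' g⁻¹ = 0)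
    (B : Matrix m m ℂ) (B' : Matrix n n ℂ) :
    ∑ g : G, (X g * B).trace * (B' * X' g⁻¹).trace = 0 := by
  rw [sum_trace_mul_trace]
  simp [hΦ]

theorem sum_trace_mul_trace_of_scalar (X : G → Matrix m m ℂ) (c : ℂ)
    (hΦ : ∀ E : Matrix m m ℂ, ∑ g : G, X g * E * X g⁻¹ = (c * E.trace) • (1 : Matrix m m ℂ))
    (B : Matrix m m ℂ) (B' : Matrix m m ℂ) :
    ∑ g : G, (X g * B).trace * (B' * X g⁻¹).trace = c * (B * B').trace := by
  rw [sum_trace_mul_trace]
  simp only [hΦ, Matrix.smul_apply, Matrix.one_apply, smul_eq_mul, mul_ite, mul_one, mul_zero,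
    Finset.sum_ite_eq, Finset.mem_univ, if_true]
  rw [← Finset.mul_sum, ← Matrix.trace_sum, ← Finset.sum_mul, ← Finset.mul_sum]
  congr 2
  have : ∑ j : m, Matrix.single j j (1 : ℂ) = 1 := by
    ext a b
    rw [Matrix.sum_apply, Matrix.one_apply]
    simp only [Matrix.single_apply]
    by_cases hab : a = b
    · subst hab
      simp
    · rw [if_neg hab]
      apply Finset.sum_eq_zero
      intro j _
      rw [if_neg]
      rintro ⟨rfl, rfl⟩
      exact hab rfl
  rw [this, mul_one]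

end Mat

section Rep

variable {G : Type*} [Group G] [Fintype G] {n n' : ℕ}

theorem toMatrix'_rep_mul (ρ : Representation ℂ G (Fin n → ℂ)) (g h : G) :
    LinearMap.toMatrix' (ρ (g * h)) = LinearMap.toMatrix' (ρ g) * LinearMap.toMatrix' (ρ h) := by
  rw [map_mul, LinearMap.toMatrix'_mul]

theorem toMatrix'_rep_one (ρ : Representation ℂ G (Fin n → ℂ)) :
    LinearMap.toMatrix' (ρ 1) = 1 := by
  rw [map_one, LinearMap.toMatrix'_one]

theorem trace_toMatrix'' (f : (Fin n → ℂ) →ₗ[ℂ] (Fin n → ℂ)) :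
    (LinearMap.toMatrix' f).trace = LinearMap.trace ℂ _ f := by
  rw [LinearMap.trace_eq_matrix_trace ℂ (Pi.basisFun ℂ (Fin n)), LinearMap.toMatrix_eq_toMatrix']

/-- The averaging operator intertwines. -/
theorem avg_intertwine (ρ : Representation ℂ G (Fin n → ℂ))
    (ρ' : Representation ℂ G (Fin n' → ℂ)) (E : Matrix (Fin n) (Fin n') ℂ) (h : G) :
    LinearMap.toMatrix' (ρ h) *
        (∑ g : G, LinearMap.toMatrix' (ρ g) * E * LinearMap.toMatrix' (ρ' g⁻¹)) =
      (∑ g : G, LinearMap.toMatrix' (ρ g) * E * LinearMap.toMatrix' (ρ' g⁻¹)) *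
        LinearMap.toMatrix' (ρ' h) := by
  rw [Matrix.mul_sum, Matrix.sum_mul]
  rw [← Equiv.sum_comp (Equiv.mulLeft h)
    (fun g => LinearMap.toMatrix' (ρ g) * E * LinearMap.toMatrix' (ρ' g⁻¹) *
      LinearMap.toMatrix' (ρ' h))]
  refine Finset.sum_congr rfl fun g _ => ?_
  simp only [Equiv.coe_mulLeft, toMatrix'_rep_mul, Matrix.mul_assoc]
  congr 3
  rw [← toMatrix'_rep_mul, mul_inv_rev, inv_mul_cancel_right]

/-- Generalized orthogonality, cross case. -/
theorem sum_twisted_trace_cross (ρ : Representation ℂ G (Fin n → ℂ))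
    (ρ' : Representation ℂ G (Fin n' → ℂ)) [ρ.IsIrreducible] [ρ'.IsIrreducible]
    (hne : ρ.character ≠ ρ'.character)
    (B : Module.End ℂ (Fin n → ℂ)) (B' : Module.End ℂ (Fin n' → ℂ)) :
    ∑ g : G, LinearMap.trace ℂ _ (ρ g * B) * LinearMap.trace ℂ _ (B' * ρ' g⁻¹) = 0 := by
  have hempty : IsEmpty (Equiv ρ' ρ) := ⟨fun e => hne (char_iso e).symm⟩
  have hΦ : ∀ E : Matrix (Fin n) (Fin n') ℂ,
      ∑ g : G, LinearMap.toMatrix' (ρ g) * E * LinearMap.toMatrix' (ρ' g⁻¹) = 0 := by
    intro E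
    set Φ := ∑ g : G, LinearMap.toMatrix' (ρ g) * E * LinearMap.toMatrix' (ρ' g⁻¹) with hΦdef
    have hint : ∀ g : G, Matrix.toLin' Φ ∘ₗ ρ' g = ρ g ∘ₗ Matrix.toLin' Φ := by
      intro g
      have e1 : ρ g = Matrix.toLin' (LinearMap.toMatrix' (ρ g)) :=
        (Matrix.toLin'_toMatrix' (ρ g)).symm
      have e2 : ρ' g = Matrix.toLin' (LinearMap.toMatrix' (ρ' g)) :=
        (Matrix.toLin'_toMatrix' (ρ' g)).symm
      rw [e1, e2, ← Matrix.toLin'_mul, ← Matrix.toLin'_mul, hΦdef, avg_intertwine]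
    have h0 : (⟨Matrix.toLin' Φ, hint⟩ : IntertwiningMap ρ' ρ) = 0 := Subsingleton.elim _ _
    have h1 : Matrix.toLin' Φ = 0 := congrArg IntertwiningMap.toLinearMap h0
    exact (LinearEquiv.map_eq_zero_iff _).mp h1
  have := sum_trace_mul_trace_of_zero (fun g => LinearMap.toMatrix' (ρ g))
    (fun g => LinearMap.toMatrix' (ρ' g)) hΦ (LinearMap.toMatrix' B) (LinearMap.toMatrix' B')
  simp only [← LinearMap.toMatrix'_mul, trace_toMatrix''] at this
  exact this

/-- Generalized orthogonality, same representation. -/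
theorem sum_twisted_trace_same (ρ : Representation ℂ G (Fin n → ℂ)) [ρ.IsIrreducible]
    (B B' : Module.End ℂ (Fin n → ℂ)) :
    ∑ g : G, LinearMap.trace ℂ _ (ρ g * B) * LinearMap.trace ℂ _ (B' * ρ g⁻¹) =
      (Fintype.card G : ℂ) / (n : ℂ) * LinearMap.trace ℂ _ (B * B') := by
  have hn : Module.finrank ℂ (Fin n → ℂ) = n := by simp
  have hΦ : ∀ E : Matrix (Fin n) (Fin n) ℂ,
      ∑ g : G, LinearMap.toMatrix' (ρ g) * E * LinearMap.toMatrix' (ρ g⁻¹) =
        ((Fintype.card G : ℂ) / (n : ℂ) * E.trace) • (1 : Matrix (Fin n) (Fin n) ℂ) := by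
    intro E
    set Φ := ∑ g : G, LinearMap.toMatrix' (ρ g) * E * LinearMap.toMatrix' (ρ g⁻¹) with hΦdef
    have hcomm : ∀ g : G, Matrix.toLin' Φ * ρ g = ρ g * Matrix.toLin' Φ := by
      intro g
      have e1 : ρ g = Matrix.toLin' (LinearMap.toMatrix' (ρ g)) :=
        (Matrix.toLin'_toMatrix' (ρ g)).symm
      rw [e1, Module.End.mul_eq_comp, Module.End.mul_eq_comp, ← Matrix.toLin'_mul,
        ← Matrix.toLin'_mul, hΦdef, avg_intertwine]
    have h1 := Helper80.schur_scalar_trace ρ (Matrix.toLin' Φ) hcomm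
    have htr : LinearMap.trace ℂ _ (Matrix.toLin' Φ) = (Fintype.card G : ℂ) * E.trace := by
      rw [← trace_toMatrix'', LinearMap.toMatrix'_toLin', hΦdef, Matrix.trace_sum]
      have : ∀ g : G, (LinearMap.toMatrix' (ρ g) * E * LinearMap.toMatrix' (ρ g⁻¹)).trace =
          E.trace := by
        intro g
        rw [Matrix.trace_mul_cycle, ← toMatrix'_rep_mul, inv_mul_cancel, toMatrix'_rep_one,
          one_mul]
      simp only [this]
      rw [Finset.sum_const, Finset.card_univ, nsmul_eq_mul]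
    rw [htr, hn] at h1
    have h2 := congrArg LinearMap.toMatrix' h1
    rw [LinearMap.toMatrix'_toLin'] at h2
    rw [h2, map_smul]
    congr 1
    · ring
    · exact LinearMap.toMatrix'_one
  have := sum_trace_mul_trace_of_scalar (fun g => LinearMap.toMatrix' (ρ g)) _ hΦ
    (LinearMap.toMatrix' B) (LinearMap.toMatrix' B')
  simp only [← LinearMap.toMatrix'_mul, trace_toMatrix''] at this
  exact this

end Rep

end Cfsg.Agent.Helper74
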