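import Cfsg.Agent.Helper74.GlaubInd

/-!
# Helper74: the Glauberman correspondence for subgroups `G`, `S` of an ambient group
-/

set_option autoImplicit false

namespace Cfsg.Agent.Helper74

open Representation Cfsg

section Sub

variable {Γ : Type*} [Group Γ]

/-- Conjugation by an element normalising `G`, as an automorphism of `G`. -/
def conjAut (G : Subgroup Γ) (s : Γ) (hs : ∀ g ∈ G, s * g * s⁻¹ ∈ G)
    (hs' : ∀ g ∈ G, s⁻¹ * g * s ∈ G) : MulAut ↥G where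
  toFun g := ⟨s * g.1 * s⁻¹, hs g.1 g.2⟩
  invFun g := ⟨s⁻¹ * g.1 * s, hs' g.1 g.2⟩
  left_inv g := by
    apply Subtype.ext
    show s⁻¹ * (s * g.1 * s⁻¹) * s = g.1
    group
  right_inv g := by
    apply Subtype.ext
    show s * (s⁻¹ * g.1 * s) * s⁻¹ = g.1
    group
  map_mul' x y := by
    apply Subtype.ext
    show s * (x.1 * y.1) * s⁻¹ = s * x.1 * s⁻¹ * (s * y.1 * s⁻¹)
    group

/-- The conjugation action of `S` on `G` as a homomorphism to `MulAut G`. -/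
def conjHom (G S : Subgroup Γ) (hnorm : ∀ s ∈ S, ∀ g ∈ G, s * g * s⁻¹ ∈ G) :
    ↥S →* MulAut ↥G where
  toFun s := conjAut G s.1 (hnorm s.1 s.2)
    (fun g hg => by
      have := hnorm s.1⁻¹ (S.inv_mem s.2) g hg
      rwa [inv_inv] at this)
  map_one' := by
    ext g
    show (1 : Γ) * g.1 * (1 : Γ)⁻¹ = g.1
    group
  map_mul' a b := by
    ext g
    show (a.1 * b.1) * g.1 * (a.1 * b.1)⁻¹ = a.1 * (b.1 * g.1 * b.1⁻¹) * a.1⁻¹
    group

theorem conjHom_apply_coe (G S : Subgroup Γ) (hnorm : ∀ s ∈ S, ∀ g ∈ G, s * g * s⁻¹ ∈ G)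
    (s : ↥S) (g : ↥G) : ((conjHom G S hnorm s g : ↥G) : Γ) = s.1 * g.1 * s.1⁻¹ := rfl

/-- **Glauberman correspondence, p-group case**, for subgroups of an ambient group. -/
theorem glaub_pgroup_subgroup (G S : Subgroup Γ) [Fintype G]
    (hnorm : ∀ s ∈ S, ∀ g ∈ G, s * g * s⁻¹ ∈ G) (hcop : (Nat.card G).Coprime (Nat.card S))
    (p : ℕ) (hp : p.Prime) (hS : IsPGroup p S) (C : Subgroup Γ) [Fintype C]
    (hC : C = G ⊓ Subgroup.centralizer (S : Set Γ)) (hCG : C ≤ G) :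
    GlaubCorr p (fun χ : IrrCharacter G => ∀ s ∈ S, ∀ g g' : G, (g' : Γ) = s * g * s⁻¹ →
      (χ : G → ℂ) g' = (χ : G → ℂ) g) (Subgroup.inclusion hCG) := by
  classical
  haveI : Fact p.Prime := ⟨hp⟩
  set φ : ↥S →* MulAut ↥G := conjHom G S hnorm with hφ
  set 𝒜 : Subgroup (MulAut ↥G) := φ.range with h𝒜
  have hA : IsPGroup p 𝒜 := IsPGroup.of_surjective hS φ.rangeRestrict φ.rangeRestrict_surjective
  have hcop' : (Fintype.card ↥G).Coprime (Nat.card 𝒜) := by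
    rw [← Nat.card_eq_fintype_card]
    exact Nat.Coprime.coprime_dvd_right (Subgroup.card_range_dvd φ) hcop
  have hfix : ∀ g : ↥G, (∀ a ∈ 𝒜, a g = g) ↔ g ∈ (Subgroup.inclusion hCG).range := by
    intro g
    constructor
    · intro h
      have hgC : g.1 ∈ C := by
        rw [hC, Subgroup.mem_inf]
        refine ⟨g.2, ?_⟩
        rw [Subgroup.mem_centralizer_iff]
        intro s hs
        have h1 := h (φ ⟨s, hs⟩) ⟨⟨s, hs⟩, rfl⟩
        have h2 : s * g.1 * s⁻¹ = g.1 := congrArg Subtype.val h1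
        calc s * g.1 = s * g.1 * s⁻¹ * s := by group
          _ = g.1 * s := by rw [h2]
      exact ⟨⟨g.1, hgC⟩, rfl⟩
    · rintro ⟨c, rfl⟩ a ⟨s, rfl⟩
      apply Subtype.ext
      show s.1 * c.1 * s.1⁻¹ = c.1
      have hc : c.1 ∈ G ⊓ Subgroup.centralizer (S : Set Γ) := hC ▸ c.2
      have h1 := (Subgroup.mem_centralizer_iff.mp (Subgroup.mem_inf.mp hc).2) s.1 s.2
      rw [h1]
      group
  have R := glaub_pgroup_aux p (Fintype.card ↥G) ↥G rfl 𝒜 hA hcop' (Subgroup.inclusion hCG)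
    (Subgroup.inclusion_injective hCG) hfix
  have hinv : ∀ χ : IrrCharacter G,
      (∀ a ∈ 𝒜, ∀ g, (χ : G → ℂ) (a g) = (χ : G → ℂ) g) ↔
      (∀ s ∈ S, ∀ g g' : G, (g' : Γ) = s * g * s⁻¹ → (χ : G → ℂ) g' = (χ : G → ℂ) g) := by
    intro χ
    constructor
    · intro h s hs g g' hg'
      have h1 := h (φ ⟨s, hs⟩) ⟨⟨s, hs⟩, rfl⟩ g
      have h2 : φ ⟨s, hs⟩ g = g' := Subtype.ext hg'.symm
      rw [h2] at h1
      exact h1
    · rintro h a ⟨s, rfl⟩ g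
      exact h s.1 s.2 g (φ s g) rfl
  obtain ⟨i, ii, iii, iv⟩ := R
  refine ⟨fun χ hχ => i χ ((hinv χ).mpr hχ), fun χ hχ => ii χ ((hinv χ).mpr hχ),
    fun χ χ' hχ hχ' => iii χ χ' ((hinv χ).mpr hχ) ((hinv χ').mpr hχ'), fun β => ?_⟩
  obtain ⟨χ, hχ, rest⟩ := iv β
  exact ⟨χ, (hinv χ).mp hχ, rest⟩

end Sub

end Cfsg.Agent.Helper74
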