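import Cfsg.Agent.Helper74.GlaubOrth

/-!
# Helper74: twisted traces `g ↦ tr(ρ(g) A^k)` for an intertwiner `A` of `ρ` with `ρ ∘ σ`
-/

set_option autoImplicit false

namespace Cfsg.Agent.Helper74

open Representation

open scoped ComplexConjugate

/-- For a finite-order endomorphism `F` with left inverse `F'`, `tr F' = conj (tr F)`. -/
theorem trace_inv_eq_conj {V : Type*} [AddCommGroup V] [Module ℂ V] [FiniteDimensional ℂ V]
    (F F' : Module.End ℂ V) (m : ℕ) (hm : m ≠ 0) (hF : F ^ m = 1) (hFF' : F' * F = 1) :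
    LinearMap.trace ℂ V F' = conj (LinearMap.trace ℂ V F) := by
  classical
  obtain ⟨ι, _, b, μ, hμ, hb⟩ := Helper79.exists_eigenbasis F m hm hF
  have hμ0 : ∀ i, μ i ≠ 0 := fun i h0 => by
    have := hμ i
    rw [h0, zero_pow hm] at this
    exact zero_ne_one this
  have hb' : ∀ i, F' (b i) = (μ i)⁻¹ • b i := by
    intro i
    have h1 : F' (F (b i)) = b i := by
      rw [← Module.End.mul_apply, hFF', Module.End.one_apply]
    rw [hb, map_smul] at h1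
    calc F' (b i) = (μ i)⁻¹ • (μ i • F' (b i)) := by
          rw [smul_smul, inv_mul_cancel₀ (hμ0 i), one_smul]
      _ = (μ i)⁻¹ • b i := by rw [h1]
  rw [Helper80.trace_eq_sum_of_eigenbasis b F μ hb,
    Helper80.trace_eq_sum_of_eigenbasis b F' (fun i => (μ i)⁻¹) hb', map_sum]
  refine Finset.sum_congr rfl fun i _ => ?_
  have hn : ‖μ i‖ = 1 := Complex.norm_eq_one_of_pow_eq_one (hμ i) hm
  rw [Complex.inv_def, Complex.normSq_eq_norm_sq, hn]
  simp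

section Tw

variable {G : Type*} [Group G] {n : ℕ}

/-- The twisted trace `g ↦ tr(ρ(g) A^k)`. -/
noncomputable def tw (ρ : Representation ℂ G (Fin n → ℂ)) (A : Module.End ℂ (Fin n → ℂ))
    (k : ℕ) (g : G) : ℂ :=
  LinearMap.trace ℂ _ (ρ g * A ^ k)

variable (σ : MulAut G) (ρ : Representation ℂ G (Fin n → ℂ)) (A : Module.End ℂ (Fin n → ℂ))

theorem pow_mul_rep (hAρ : ∀ g, A * ρ g = ρ (σ g) * A) (k : ℕ) (g : G) :
    A ^ k * ρ g = ρ ((σ ^ k) g) * A ^ k := by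
  induction k generalizing g with
  | zero => simp
  | succ k ih =>
    have e : (σ ^ (k + 1)) g = (σ ^ k) (σ g) := by rw [pow_succ]; rfl
    rw [e, pow_succ, mul_assoc, hAρ, ← mul_assoc, ih, mul_assoc]

theorem tw_zero (g : G) : tw ρ A 0 g = ρ.character g := by
  unfold tw Representation.character
  rw [pow_zero, mul_one]

theorem tw_add_period {p : ℕ} (hA : A ^ p = 1) (k : ℕ) (g : G) :
    tw ρ A (k + p) g = tw ρ A k g := by
  unfold tw
  rw [pow_add, hA, mul_one]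

theorem tw_mod {p : ℕ} (hA : A ^ p = 1) (k : ℕ) (g : G) :
    tw ρ A (k % p) g = tw ρ A k g := by
  unfold tw
  conv_rhs => rw [← Nat.mod_add_div k p, pow_add, pow_mul, hA, one_pow, mul_one]

theorem tw_twist (hAρ : ∀ g, A * ρ g = ρ (σ g) * A) (k : ℕ) (h g : G) :
    tw ρ A k (h * g * ((σ ^ k) h)⁻¹) = tw ρ A k g := by
  unfold tw
  have e1 : ρ ((σ ^ k) h)⁻¹ * A ^ k = A ^ k * ρ h⁻¹ := by
    rw [← map_inv (σ ^ k) h, ← pow_mul_rep σ ρ A hAρ k h⁻¹]
  have e2 : ρ (h * g * ((σ ^ k) h)⁻¹) * A ^ k = ρ h * (ρ g * A ^ k * ρ h⁻¹) := by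
    rw [map_mul ρ, map_mul ρ, mul_assoc, e1]
    simp only [mul_assoc]
  have e3 : ρ g * A ^ k * ρ h⁻¹ * ρ h = ρ g * A ^ k := by
    rw [mul_assoc, ← map_mul ρ, inv_mul_cancel, map_one, mul_one]
  rw [e2, LinearMap.trace_mul_comm, e3]

theorem tw_pow {p : ℕ} (hAρ : ∀ g, A * ρ g = ρ (σ g) * A) (k : ℕ) (g : G) (j : ℕ) :
    ∃ x : G, (ρ g * A ^ k) ^ j = ρ x * A ^ (k * j) := by
  induction j with
  | zero => exact ⟨1, by simp⟩
  | succ j ih =>
    obtain ⟨x, hx⟩ := ih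
    refine ⟨x * (σ ^ (k * j)) g, ?_⟩
    rw [pow_succ, hx, mul_assoc, ← mul_assoc (A ^ (k * j)), pow_mul_rep σ ρ A hAρ (k * j) g,
      mul_assoc, ← pow_add, ← mul_assoc, ← map_mul, Nat.mul_succ]

variable [Fintype G]

theorem tw_conj {p : ℕ} (hp : p ≠ 0) (hA : A ^ p = 1) (hAρ : ∀ g, A * ρ g = ρ (σ g) * A)
    (k : ℕ) (g : G) :
    conj (tw ρ A k g) = LinearMap.trace ℂ _ (A ^ (k * (p - 1)) * ρ g⁻¹) := by
  unfold tw
  symm
  have hkp : A ^ (k * p) = 1 := by rw [mul_comm, pow_mul, hA, one_pow]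
  apply trace_inv_eq_conj (ρ g * A ^ k) _ (p * Fintype.card G)
    (mul_ne_zero hp Fintype.card_ne_zero)
  · obtain ⟨x, hx⟩ := tw_pow (p := p) σ ρ A hAρ k g p
    rw [pow_mul, hx, hkp, mul_one, ← map_pow, pow_card_eq_one, map_one]
  · have : k * (p - 1) + k = k * p := by
      obtain ⟨q, rfl⟩ : ∃ q, p = q + 1 := Nat.exists_eq_succ_of_ne_zero hp
      simp [Nat.mul_succ]
    rw [mul_assoc, ← mul_assoc (ρ g⁻¹), ← map_mul, inv_mul_cancel, map_one, one_mul, ← pow_add,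
      this, hkp]

theorem sum_tw_mul_conj [ρ.IsIrreducible] {p : ℕ} (hp : p ≠ 0) (hA : A ^ p = 1)
    (hAρ : ∀ g, A * ρ g = ρ (σ g) * A) (k : ℕ) :
    ∑ g : G, tw ρ A k g * conj (tw ρ A k g) = (Fintype.card G : ℂ) := by
  simp only [tw_conj σ ρ A hp hA hAρ]
  unfold tw
  rw [sum_twisted_trace_same]
  have hkp : A ^ (k * p) = 1 := by rw [mul_comm, pow_mul, hA, one_pow]
  have : k + k * (p - 1) = k * p := by
    obtain ⟨q, rfl⟩ : ∃ q, p = q + 1 := Nat.exists_eq_succ_of_ne_zero hp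
    simp [Nat.mul_succ, add_comm]
  rw [← pow_add, this, hkp, LinearMap.trace_one]
  have hn : Module.finrank ℂ (Fin n → ℂ) = n := by simp
  have hpos : 0 < Module.finrank ℂ (Fin n → ℂ) := Helper80.rep_finrank_pos ρ
  rw [hn] at hpos ⊢
  have : (n : ℂ) ≠ 0 := by exact_mod_cast hpos.ne'
  field_simp

theorem sum_tw_mul_conj_cross {n' : ℕ} (ρ' : Representation ℂ G (Fin n' → ℂ))
    (A' : Module.End ℂ (Fin n' → ℂ)) [ρ.IsIrreducible] [ρ'.IsIrreducible]
    (hne : ρ.character ≠ ρ'.character) {p : ℕ} (hp : p ≠ 0) (hA' : A' ^ p = 1)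
    (hAρ' : ∀ g, A' * ρ' g = ρ' (σ g) * A') (k : ℕ) :
    ∑ g : G, tw ρ A k g * conj (tw ρ' A' k g) = 0 := by
  simp only [tw_conj σ ρ' A' hp hA' hAρ']
  unfold tw
  exact sum_twisted_trace_cross ρ ρ' hne _ _

/-- Existence of the intertwiner `A` with `A^p = 1`. -/
theorem exists_twist_op [ρ.IsIrreducible] {p : ℕ} (hp : p ≠ 0) (hσ : σ ^ p = 1)
    (hinv : ∀ g, ρ.character (σ g) = ρ.character g) :
    ∃ A : Module.End ℂ (Fin n → ℂ), A ^ p = 1 ∧ ∀ g, A * ρ g = ρ (σ g) * A := by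
  set ρσ : Representation ℂ G (Fin n → ℂ) := MonoidHom.comp ρ σ.toMonoidHom with hρσ
  have hirr : ρσ.IsIrreducible :=
    Helper75.isIrreducible_comp_of_surjective ρ σ.toMonoidHom σ.surjective inferInstance
  have hchar : ρ.character = ρσ.character := by
    funext g
    exact (hinv g).symm
  obtain ⟨e⟩ := (Helper80.rep_equiv_iff_character_eq ρ ρσ).mpr hchar
  set A₀ : Module.End ℂ (Fin n → ℂ) := e.toLinearEquiv.toLinearMap with hA₀
  have hA₀ρ : ∀ g, A₀ * ρ g = ρ (σ g) * A₀ := by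
    intro g
    have := e.isIntertwining' g
    exact this
  have hu : IsUnit A₀ := (Module.End.isUnit_iff _).mpr e.toLinearEquiv.bijective
  have hcomm : ∀ g, A₀ ^ p * ρ g = ρ g * A₀ ^ p := by
    intro g
    rw [pow_mul_rep σ ρ A₀ hA₀ρ p g, hσ, MulAut.one_apply]
  obtain ⟨c, hc⟩ := Helper80.schur_scalar ρ (A₀ ^ p) hcomm
  have hc0 : c ≠ 0 := by
    rintro rfl
    rw [zero_smul] at hc
    have hu' : IsUnit (A₀ ^ p) := hu.pow p
    rw [hc] at hu'
    have hbij := (Module.End.isUnit_iff _).mp hu'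
    have hpos : 0 < Module.finrank ℂ (Fin n → ℂ) := Helper80.rep_finrank_pos ρ
    have hnt : Nontrivial (Fin n → ℂ) := Module.finrank_pos_iff.mp hpos
    obtain ⟨v, hv⟩ := exists_ne (0 : Fin n → ℂ)
    exact hv (hbij.1 (by simp))
  obtain ⟨d, hd⟩ := IsAlgClosed.exists_pow_nat_eq c⁻¹ (Nat.pos_of_ne_zero hp)
  refine ⟨d • A₀, ?_, fun g => ?_⟩
  · rw [smul_pow, hd, hc, smul_smul, inv_mul_cancel₀ hc0, one_smul]
  · rw [smul_mul_assoc, hA₀ρ, mul_smul_comm]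

end Tw

end Cfsg.Agent.Helper74
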