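/-
Helper library of seat helper74: a representation whose character is an irreducible character is
irreducible.
-/
import Cfsg.Agent.Helper83.CosetZeros3
import Cfsg.Agent.Helper75.Clifford
import Cfsg.Agent.Helper15.CharInner
import Cfsg.Agent.Helper80.CharIrr

set_option autoImplicit false

namespace Cfsg.Agent.Helper74

open Cfsg Representation

/-- A representation (on a coordinate space) whose character is an irreducible character is
irreducible. -/
theorem isIrreducible_of_irr_character {H : Type*} [Group H] [Fintype H] {d : ℕ}
    (ρ : Representation ℂ H (Fin d → ℂ)) (h : IsIrrCharacter H ρ.character) :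
    ρ.IsIrreducible := by
  classical
  have hd : d ≠ 0 := by
    rintro rfl
    have h1 := Helper80.irr_one_ne_zero ⟨ρ.character, h⟩
    apply h1
    change ρ.character 1 = 0
    rw [Representation.char_one]
    simp
  haveI : Nonempty (Fin d) := ⟨⟨0, Nat.pos_of_ne_zero hd⟩⟩
  have hfin : Module.finrank ℂ (IntertwiningMap ρ ρ) = 1 := by
    have h1 := Helper75.classInner_character_eq_finrank ρ ρ
    rw [Cfsg.Agent.Helper15.irr_inner_self h] at h1
    exact_mod_cast h1.symm
  have hid : IntertwiningMap.id ρ ≠ 0 := by
    intro h0
    have h1 := congrArg (fun f : IntertwiningMap ρ ρ => f (fun _ => (1 : ℂ))) h0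
    simp only [IntertwiningMap.id_apply] at h1
    have h2 := congrFun h1 (Classical.arbitrary (Fin d))
    simp at h2
  apply Helper83.irreducible_of_scalar_commutant ρ
  intro f hf
  let F : IntertwiningMap ρ ρ := ⟨f, fun g => (hf g).symm⟩
  obtain ⟨c, hc⟩ := (finrank_eq_one_iff_of_nonzero' (IntertwiningMap.id ρ) hid).mp hfin F
  refine ⟨c, ?_⟩
  have h1 : (c • IntertwiningMap.id ρ).toLinearMap = F.toLinearMap :=
    congrArg (fun f : IntertwiningMap ρ ρ => f.toLinearMap) hc
  change _ = f at h1
  rw [← h1]
  rfl

end Cfsg.Agent.Helper74
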