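import Cfsg.Agent.Helper55.N9Defs

/-! CALL S4409, piece F1c: a subgroup of a finite 2-group containing its own normalizer
(inside the 2-group) is the whole 2-group. -/

set_option autoImplicit false

namespace Cfsg.Agent.Helper74.N9

open Subgroup Cfsg.Agent.Helper55.N9

variable {G : Type*} [Group G] [Finite G]

theorem n9_normalizer_cond (D Y : Subgroup G) (hY : IsPGroup 2 Y) (hDY : D ≤ Y)
    (h : Y ⊓ normalizer (D : Set G) ≤ D) : D = Y := by
  haveI : Fact (Nat.Prime 2) := ⟨Nat.prime_two⟩
  haveI : Group.IsNilpotent ↥Y := hY.isNilpotent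
  have hnc : NormalizerCondition ↥Y := Group.normalizerCondition_of_isNilpotent
  rw [normalizerCondition_iff_only_full_group_self_normalizing] at hnc
  have htop : D.subgroupOf Y = ⊤ := by
    apply hnc
    refine le_antisymm ?_ le_normalizer
    intro y hy
    rw [mem_subgroupOf]
    apply h
    rw [mem_normalizer_iff] at hy
    refine Subgroup.mem_inf.2 ⟨y.2, ?_⟩
    rw [mem_normalizer_iff]
    intro g
    constructor
    · intro hg
      have := (hy ⟨g, hDY hg⟩).1 (by rw [mem_subgroupOf]; exact hg)
      rw [mem_subgroupOf] at this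
      simpa using this
    · intro hg
      have hgY : g ∈ Y := by
        have h1 : (y : G) * g * (y : G)⁻¹ ∈ Y := hDY hg
        have h2 : g = (y : G)⁻¹ * ((y : G) * g * (y : G)⁻¹) * (y : G) := by group
        rw [h2]
        exact mul_mem (mul_mem (inv_mem y.2) h1) y.2
      have := (hy ⟨g, hgY⟩).2 (by rw [mem_subgroupOf]; simpa using hg)
      rw [mem_subgroupOf] at this
      exact this
  rw [subgroupOf_eq_top] at htop
  exact le_antisymm hDY htop

end Cfsg.Agent.Helper74.N9
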