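import Cfsg.Agent.Helper55.N9Defs

/-! CALL S4409, piece IDX: a `K`-invariant subgroup of index 2 contains the commutator. -/

set_option autoImplicit false

namespace Cfsg.Agent.Helper74.N9

open Subgroup Cfsg.Agent.Helper55.N9
open scoped commutatorElement

variable {G : Type*} [Group G] [Finite G]

omit [Finite G] in
/-- Relative version of `Subgroup.mul_mem_iff_of_index_two`. -/
theorem n9_mul_mem_iff_of_relIndex_two {M N : Subgroup G} (hidx : M.relIndex N = 2)
    {a b : G} (ha : a ∈ N) (hb : b ∈ N) : a * b ∈ M ↔ (a ∈ M ↔ b ∈ M) := by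
  have h := Subgroup.mul_mem_iff_of_index_two (H := M.subgroupOf N) hidx
    (a := ⟨a, ha⟩) (b := ⟨b, hb⟩)
  simpa [mem_subgroupOf] using h

theorem n9_idx (N K M : Subgroup G) (hinv : K ≤ normalizer (N : Set G)) (hM : M ≤ N)
    (hidx : M.relIndex N = 2) (hMinv : K ≤ normalizer (M : Set G)) : ⁅N, K⁆ ≤ M := by
  rw [Subgroup.commutator_le]
  intro y hy k hk
  have hkN := hinv hk
  have hkM := hMinv hk
  rw [mem_normalizer_iff] at hkN hkM
  have h1 : k * y⁻¹ * k⁻¹ ∈ N := (hkN y⁻¹).1 (inv_mem hy)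
  have h2 : ⁅y, k⁆ = y * (k * y⁻¹ * k⁻¹) := by
    simp only [commutatorElement_def, mul_assoc]
  rw [h2, n9_mul_mem_iff_of_relIndex_two hidx hy h1, ← hkM y⁻¹, inv_mem_iff]

end Cfsg.Agent.Helper74.N9
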