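import Cfsg.Agent.Helper55.N9Defs

/-! CALL S4409, piece T5: three subgroups lemma. -/

set_option autoImplicit false

namespace Cfsg.Agent.Helper74.N9

open Subgroup Cfsg.Agent.Helper55.N9
open scoped commutatorElement

variable {G : Type*} [Group G] [Finite G]

theorem n9_star (Y K E : Subgroup G) (hYK : ⁅Y, K⁆ = Y) (hE : E ≤ Y)
    (hEn : Y ≤ normalizer (E : Set G)) (hEc : E ≤ centralizer (K : Set G)) :
    E ≤ centralizer (Y : Set G) := by
  -- `[K, E] = 1`
  have h1 : ⁅K, E⁆ = ⊥ := by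
    rw [Subgroup.commutator_eq_bot_iff_le_centralizer]
    intro k hk
    rw [mem_centralizer_iff]
    intro e he
    have := hEc he
    rw [mem_centralizer_iff] at this
    exact (this k hk).symm
  -- `[E, Y] ≤ E`
  have h2 : ⁅E, Y⁆ ≤ E := by
    rw [Subgroup.commutator_le]
    intro e he y hy
    have hyN := hEn hy
    rw [mem_normalizer_iff] at hyN
    have h : ⁅e, y⁆ = e * (y * e⁻¹ * y⁻¹) := by
      simp only [commutatorElement_def, mul_assoc]
    rw [h]
    exact mul_mem he ((hyN e⁻¹).1 (inv_mem he))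
  -- `[[E, Y], K] = 1`
  have h3 : ⁅⁅E, Y⁆, K⁆ = ⊥ := by
    rw [Subgroup.commutator_comm, eq_bot_iff]
    calc ⁅K, ⁅E, Y⁆⁆ ≤ ⁅K, E⁆ := Subgroup.commutator_mono le_rfl h2
      _ = ⊥ := h1
  -- `[[K, E], Y] = 1`
  have h4 : ⁅⁅K, E⁆, Y⁆ = ⊥ := by
    rw [h1]
    exact Subgroup.commutator_bot_left Y
  -- three subgroups: `[[Y, K], E] = 1`
  have h5 : ⁅⁅Y, K⁆, E⁆ = ⊥ := Subgroup.commutator_commutator_eq_bot_of_rotate h4 h3
  rw [hYK] at h5
  rw [Subgroup.commutator_eq_bot_iff_le_centralizer] at h5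
  intro e he
  rw [mem_centralizer_iff]
  intro y hy
  have := h5 hy
  rw [mem_centralizer_iff] at this
  exact (this e he).symm
end Cfsg.Agent.Helper74.N9
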