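/-
Helper library of seat helper74: irreducible characters of degree prime to the index of a
normal Hall subgroup (`G = K H`, `K` normal, coprime orders).  They are exactly the products of a
chosen extension of a `G`-invariant irreducible character of `K` with a linear character of `G`
trivial on `K`.
-/
import Cfsg.Agent.S0867
import Cfsg.Agent.S0887
import Cfsg.Agent.Helper15.Gallagher2
import Cfsg.Agent.Helper79.Linear
import Cfsg.Agent.Helper75.CliffordCorr
import Cfsg.Agent.Helper80.CharOrtho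
import Cfsg.Agent.Helper35.SZ

set_option autoImplicit false

namespace Cfsg.Agent.Helper74

open Cfsg

universe u

section PDeg

/-- The determinantal order of a character divides the group order. -/
theorem detOrder_dvd_card {K : Type u} [Group K] [Finite K] {θ : K → ℂ} (hθ : IsCharacter K θ) :
    detOrder θ ∣ Nat.card K := by
  obtain ⟨f, hf⟩ := Cfsg.Agent.Helper15.detChar_exists_hom θ hθ
  unfold detOrder
  apply orderOf_dvd_of_pow_eq_one
  funext g
  rw [Pi.pow_apply, hf, ← Units.val_pow_eq_pow_val, ← map_pow, pow_card_eq_one', map_one]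
  rfl

variable {G : Type u} [Group G] [Fintype G]

/-- An invariant irreducible character of a normal Hall subgroup extends. -/
theorem exists_ext_of_coprime (K : Subgroup G) [hK : K.Normal]
    (hcop : (Nat.card K).Coprime K.index) (θ : IrrCharacter K)
    (hinv : ∀ (g : G) (k : K),
      (θ : K → ℂ) ⟨g * k * g⁻¹, hK.conj_mem (k : G) k.2 g⟩ = (θ : K → ℂ) k) :
    ∃ χ : IrrCharacter G, ∀ k : K, (χ : G → ℂ) k = (θ : K → ℂ) k := by
  have hd : (θ : K → ℂ) 1 = (charDegree (θ : K → ℂ) : ℂ) := Helper80.irr_one_eq θ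
  have h1 : detOrder (θ : K → ℂ) ∣ Nat.card K := detOrder_dvd_card (Helper79.irr_isCharacter θ)
  have h2 : charDegree (θ : K → ℂ) ∣ Nat.card K := Helper79.irr_charDegree_dvd_card θ
  have hc : Nat.Coprime K.index (detOrder (θ : K → ℂ) * charDegree (θ : K → ℂ)) :=
    Nat.Coprime.mul_right (Nat.Coprime.coprime_dvd_right h1 hcop.symm)
      (Nat.Coprime.coprime_dvd_right h2 hcop.symm)
  obtain ⟨χ, ⟨hχ, hext, -⟩, -⟩ := Cfsg.Agent.S0867.result K (θ : K → ℂ) θ.2 hinv _ hd hc
  exact ⟨⟨χ, hχ⟩, hext⟩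

/-- An irreducible character of `G` whose degree is prime to the index of the normal subgroup `K`
restricts irreducibly to `K`. -/
theorem restrict_irr_of_coprime (K : Subgroup G) [hK : K.Normal] (χ : IrrCharacter G)
    (hdeg : (charDegree (χ : G → ℂ)).Coprime K.index) :
    IsIrrCharacter K (fun k : K => (χ : G → ℂ) k) := by
  classical
  have hres : IsCharacter K (fun k : K => (χ : G → ℂ) k) :=
    Helper79.isCharacter_restrict (Helper79.irr_isCharacter χ) K
  have hone : (fun k : K => (χ : G → ℂ) k) 1 ≠ 0 := by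
    change (χ : G → ℂ) ((1 : K) : G) ≠ 0
    rw [Subgroup.coe_one, Helper80.irr_one_eq χ]
    exact_mod_cast (Helper80.irr_degree_pos χ).ne'
  obtain ⟨θ, hθ, hcon⟩ := Helper75.exists_irr_constituent hres hone
  have hdiv := Cfsg.Agent.S0887.result K (χ : G → ℂ) χ.2 θ hθ hcon
    (charDegree (χ : G → ℂ)) (charDegree θ) (Helper80.irr_one_eq χ)
    (Helper80.irr_one_eq ⟨θ, hθ⟩)
  have hq : charDegree (χ : G → ℂ) / charDegree θ = 1 := by
    have h1 : charDegree (χ : G → ℂ) / charDegree θ ∣ charDegree (χ : G → ℂ) :=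
      Nat.div_dvd_of_dvd hdiv.1
    have h2 := Nat.Coprime.coprime_dvd_left h1 hdeg
    exact Nat.Coprime.eq_one_of_dvd h2 hdiv.2
  have heq : charDegree (χ : G → ℂ) = charDegree θ :=
    (Nat.eq_of_dvd_of_div_eq_one hdiv.1 hq).symm
  have hdeg' : charDegree (fun k : K => (χ : G → ℂ) k) = charDegree θ := by
    rw [← heq]
    unfold charDegree
    change ⌊((χ : G → ℂ) ((1 : K) : G)).re⌋₊ = _
    rw [Subgroup.coe_one]
  have := (Helper79.irr_charDegree_le_of_classInner_ne_zero hres ⟨θ, hθ⟩ hcon).2 hdeg'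
  rw [this]
  exact hθ

/-- **Characters of degree prime to the index of a normal Hall subgroup**: if `G = K H` with `K`
normal and `(|K|, |H|) = 1`, then the irreducible characters of `G` of degree prime to `|H|` are
counted by the `G`-invariant irreducible characters of `K` times the linear characters of `G`
trivial on `K`. -/
theorem card_pdeg (K H : Subgroup G) [hK : K.Normal] (hKH : K ⊔ H = ⊤)
    (hcop : (Nat.card K).Coprime (Nat.card H)) :
    Nat.card {χ : IrrCharacter G // (charDegree (χ : G → ℂ)).Coprime (Nat.card H)} =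
    Nat.card {θ : IrrCharacter K // ∀ (g : G) (k : K),
      (θ : K → ℂ) ⟨g * k * g⁻¹, hK.conj_mem (k : G) k.2 g⟩ = (θ : K → ℂ) k} *
    Nat.card {f : G →* ℂˣ // ∀ k ∈ K, f k = 1} := by
  classical
  have hKHbot : K ⊓ H = ⊥ := disjoint_iff.mp (Subgroup.disjoint_of_coprime_natCard hcop)
  have hcompl : K.IsComplement' H := Cfsg.Agent.Helper35.isComplement'_of_normal hKHbot hKH
  have hidx : K.index = Nat.card H := hcompl.symm.index_eq_card
  have hcop' : (Nat.card K).Coprime K.index := by rw [hidx]; exact hcop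
  rw [← Nat.card_prod]
  symm
  -- chosen extensions
  have hex : ∀ θ : {θ : IrrCharacter K // ∀ (g : G) (k : K),
      (θ : K → ℂ) ⟨g * k * g⁻¹, hK.conj_mem (k : G) k.2 g⟩ = (θ : K → ℂ) k},
      ∃ χ : IrrCharacter G, ∀ k : K, (χ : G → ℂ) k = (θ.1 : K → ℂ) k :=
    fun θ => exists_ext_of_coprime K hcop' θ.1 θ.2
  choose E hE using hex
  have hdegE : ∀ θ, charDegree (E θ : G → ℂ) = charDegree (θ.1 : K → ℂ) := by
    intro θ
    unfold charDegree
    rw [← hE θ 1, Subgroup.coe_one]
  let F : {θ : IrrCharacter K // ∀ (g : G) (k : K),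
      (θ : K → ℂ) ⟨g * k * g⁻¹, hK.conj_mem (k : G) k.2 g⟩ = (θ : K → ℂ) k} ×
      {f : G →* ℂˣ // ∀ k ∈ K, f k = 1} →
      {χ : IrrCharacter G // (charDegree (χ : G → ℂ)).Coprime (Nat.card H)} :=
    fun x => ⟨Helper79.irrTwist x.2.1 (E x.1), by
      rw [Helper79.charDegree_irrTwist, hdegE]
      exact Nat.Coprime.coprime_dvd_left (Helper79.irr_charDegree_dvd_card x.1.1) hcop⟩
  have hFval : ∀ x g, ((F x).1 : G → ℂ) g = (x.2.1 g : ℂ) * (E x.1 : G → ℂ) g := fun x g => rfl
  apply Nat.card_congr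
  refine Equiv.ofBijective F ⟨?_, ?_⟩
  · -- injective
    rintro ⟨θ, l⟩ ⟨θ', l'⟩ h
    have hval : ∀ g, (l.1 g : ℂ) * (E θ : G → ℂ) g = (l'.1 g : ℂ) * (E θ' : G → ℂ) g := by
      intro g
      have := congrArg (fun x => (x.1 : G → ℂ) g) h
      simpa [hFval] using this
    have hθ : θ = θ' := by
      apply Subtype.ext
      apply Subtype.ext
      funext k
      have := hval k
      rw [l.2 k k.2, l'.2 k k.2, hE, hE] at this
      simpa using this
    subst hθ
    have hl : l = l' := by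
      have hφ : IsIrrCharacter K (fun _ => (1 : ℂ)) := Helper79.isIrrCharacter_one
      have hprod : IsIrrCharacter K ((fun _ => (1 : ℂ)) * (θ.1 : K → ℂ)) := by
        have : ((fun _ => (1 : ℂ)) * (θ.1 : K → ℂ)) = (θ.1 : K → ℂ) := by
          funext k; simp
        rw [this]; exact θ.1.2
      have hβ : IsIrrCharacter G (fun g => (l.1 g : ℂ)) := Helper79.isIrrCharacter_of_hom l.1
      have hγ : IsIrrCharacter G (fun g => (l'.1 g : ℂ)) := Helper79.isIrrCharacter_of_hom l'.1
      have hβφ : classInner (indFun K (fun _ => (1 : ℂ))) (fun g => (l.1 g : ℂ)) ≠ 0 :=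
        (Cfsg.Agent.Helper15.inner_ind_one_ne_zero_iff K hβ).mpr (fun x hx => by
          simp [l.2 x hx])
      have hγφ : classInner (indFun K (fun _ => (1 : ℂ))) (fun g => (l'.1 g : ℂ)) ≠ 0 :=
        (Cfsg.Agent.Helper15.inner_ind_one_ne_zero_iff K hγ).mpr (fun x hx => by
          simp [l'.2 x hx])
      have hfun := Cfsg.Agent.Helper15.gallagher_inj K (fun _ => (1 : ℂ)) (θ.1 : K → ℂ) hφ
        (fun _ _ => rfl) hprod (E θ : G → ℂ) (Helper79.irr_isCharacter (E θ)) (hE θ)
        (fun g => (l.1 g : ℂ)) (fun g => (l'.1 g : ℂ)) hβ hγ hβφ hγφ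
        (by funext g; simpa using hval g)
      apply Subtype.ext
      apply MonoidHom.ext
      intro g
      apply Units.ext
      exact congrFun hfun g
    rw [hl]
  · -- surjective
    rintro ⟨χ, hχ⟩
    have hirr : IsIrrCharacter K (fun k : K => (χ : G → ℂ) k) :=
      restrict_irr_of_coprime K χ (by rw [hidx]; exact hχ)
    have hinv : ∀ (g : G) (k : K),
        (fun k : K => (χ : G → ℂ) k) ⟨g * k * g⁻¹, hK.conj_mem (k : G) k.2 g⟩ =
          (fun k : K => (χ : G → ℂ) k) k := by
      intro g k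
      exact Helper79.isCharacter_isClassFunction (Helper79.irr_isCharacter χ) (k : G) g
    let θ : {θ : IrrCharacter K // ∀ (g : G) (k : K),
      (θ : K → ℂ) ⟨g * k * g⁻¹, hK.conj_mem (k : G) k.2 g⟩ = (θ : K → ℂ) k} :=
      ⟨⟨fun k : K => (χ : G → ℂ) k, hirr⟩, hinv⟩
    have hEirr : IsIrrCharacter K (fun k : K => (E θ : G → ℂ) k) := by
      have : (fun k : K => (E θ : G → ℂ) k) = (fun k : K => (χ : G → ℂ) k) := funext (hE θ)
      rw [this]; exact hirr
    have hne : classInner (fun n : K => (χ : G → ℂ) n) (fun n : K => (E θ : G → ℂ) n) ≠ 0 := by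
      have : (fun k : K => (E θ : G → ℂ) k) = (fun k : K => (χ : G → ℂ) k) := funext (hE θ)
      rw [this, Cfsg.Agent.Helper15.irr_inner_self hirr]
      exact one_ne_zero
    obtain ⟨hβirr, hβK, hβeq⟩ :=
      (Cfsg.Agent.Helper15.gallagher_average K (E θ : G → ℂ) (E θ).2 hEirr (χ : G → ℂ) χ.2).1 hne
    set β := Cfsg.Agent.Helper15.avgN K
      (fun g => (χ : G → ℂ) g * (starRingEnd ℂ) ((E θ : G → ℂ) g)) with hβdef
    have hβ1 : β 1 = 1 := by
      have h1 := congrFun hβeq 1
      rw [Pi.mul_apply] at h1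
      have h2 : (E θ : G → ℂ) 1 = (χ : G → ℂ) 1 := by
        have := hE θ 1
        rw [Subgroup.coe_one] at this
        exact this
      rw [h2] at h1
      have h3 : (χ : G → ℂ) 1 ≠ 0 := by
        rw [Helper80.irr_one_eq χ]
        exact_mod_cast (Helper80.irr_degree_pos χ).ne'
      have h4 : (1 : ℂ) * (χ : G → ℂ) 1 = β 1 * (χ : G → ℂ) 1 := by rw [one_mul]; exact h1
      exact (mul_right_cancel₀ h3 h4).symm
    obtain ⟨f, hf⟩ := Cfsg.Agent.Helper15.linChar_exists_hom β
      ⟨Cfsg.Agent.Helper15.isChar_of_irr hβirr, hβ1⟩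
    have hfK : ∀ k ∈ K, f k = 1 := by
      intro k hk
      apply Units.ext
      rw [← hf, hβK k hk, hβ1]
      rfl
    refine ⟨(θ, ⟨f, hfK⟩), ?_⟩
    apply Subtype.ext
    apply Subtype.ext
    funext g
    rw [hFval]
    have h1 := congrFun hβeq g
    rw [Pi.mul_apply, hf] at h1
    exact h1.symm

end PDeg

end Cfsg.Agent.Helper74
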