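/-
Helper library of seat helper74: counting linear characters trivial on a normal complement,
invariant conjugacy classes versus classes of the fixed-point subgroup (Glauberman's lemma), and
the count of irreducible characters of degree prime to `|H|` in `G = K H` and in `N_G(H)`.
-/
import Cfsg.Agent.Helper74.PDeg
import Cfsg.Agent.Helper74.GlaubCount3
import Cfsg.Agent.Helper35.Glauberman

set_option autoImplicit false

namespace Cfsg.Agent.Helper74

open Cfsg

universe u

section Lin

variable {G : Type u} [Group G]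

/-- Linear characters trivial on a normal subgroup with complement `H` are the linear characters
of `H`. -/
theorem card_lin_trivial (K H : Subgroup G) [hK : K.Normal] (hbot : K ⊓ H = ⊥) (htop : K ⊔ H = ⊤) :
    Nat.card {f : G →* ℂˣ // ∀ k ∈ K, f k = 1} = Nat.card (H →* ℂˣ) := by
  classical
  let φ : H →* G ⧸ K := (QuotientGroup.mk' K).comp H.subtype
  have hφinj : Function.Injective φ := by
    rw [injective_iff_map_eq_one]
    intro x hx
    have h1 : (x : G) ∈ K := (QuotientGroup.eq_one_iff (x : G)).mp hx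
    have h2 : (x : G) ∈ K ⊓ H := ⟨h1, x.2⟩
    rw [hbot, Subgroup.mem_bot] at h2
    exact Subtype.ext h2
  have hφsurj : Function.Surjective φ := by
    intro q
    obtain ⟨g, rfl⟩ := QuotientGroup.mk_surjective q
    have hg : g ∈ K ⊔ H := by rw [htop]; trivial
    obtain ⟨k, hk, h, hh, rfl⟩ := Subgroup.mem_sup_of_normal_left.mp hg
    refine ⟨⟨h, hh⟩, ?_⟩
    change (QuotientGroup.mk h : G ⧸ K) = QuotientGroup.mk (k * h)
    rw [QuotientGroup.eq]
    have : h⁻¹ * (k * h) = h⁻¹ * k * h⁻¹⁻¹ := by group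
    rw [this]
    exact hK.conj_mem k hk h⁻¹
  let e : H ≃* G ⧸ K := MulEquiv.ofBijective φ ⟨hφinj, hφsurj⟩
  let r : G →* H := e.symm.toMonoidHom.comp (QuotientGroup.mk' K)
  have hrH : ∀ x : H, r (x : G) = x := by
    intro x
    change e.symm (e x) = x
    exact e.symm_apply_apply x
  have hrK : ∀ k ∈ K, r k = 1 := by
    intro k hk
    change e.symm (QuotientGroup.mk' K k) = 1
    have : QuotientGroup.mk' K k = 1 := (QuotientGroup.eq_one_iff k).mpr hk
    rw [this, map_one]
  apply Nat.card_congr
  refine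
    { toFun := fun f => f.1.comp H.subtype
      invFun := fun μ => ⟨μ.comp r, fun k hk => by
        change μ (r k) = 1
        rw [hrK k hk, map_one]⟩
      left_inv := ?_
      right_inv := ?_ }
  · intro f
    apply Subtype.ext
    apply MonoidHom.ext
    intro g
    have hg : g ∈ K ⊔ H := by rw [htop]; trivial
    obtain ⟨k, hk, h, hh, rfl⟩ := Subgroup.mem_sup_of_normal_left.mp hg
    change f.1 ((r (k * h) : H) : G) = f.1 (k * h)
    rw [map_mul, hrK k hk, one_mul, map_mul, f.2 k hk, one_mul]
    have := hrH ⟨h, hh⟩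
    rw [show r h = r ((⟨h, hh⟩ : H) : G) from rfl, this]
  · intro μ
    apply MonoidHom.ext
    intro x
    change μ (r (x : G)) = μ x
    rw [hrH]

end Lin

section Conj

variable {G : Type u} [Group G] [Finite G]

/-- Glauberman's lemma for the conjugation action on the group itself. -/
theorem glauberman_conjAct {A K : Subgroup G} (hAK : A ≤ Subgroup.normalizer (K : Set G))
    (hcop : (Nat.card A).Coprime (Nat.card K))
    (hsolv : Group.IsSolvable A ∨ Group.IsSolvable K) {S : Set G} (hS : S.Nonempty)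
    (hA : ∀ a ∈ A, ∀ s ∈ S, a * s * a⁻¹ ∈ S) (hK : ∀ k ∈ K, ∀ s ∈ S, k * s * k⁻¹ ∈ S)
    (htrans : ∀ s ∈ S, ∀ t ∈ S, ∃ k ∈ K, k * s * k⁻¹ = t) :
    ∃ s ∈ S, ∀ a ∈ A, a * s * a⁻¹ = s := by
  letI : MulAction G G := MulAction.compHom G (MulAut.conj : G →* MulAut G)
  exact Cfsg.Agent.Helper35.glauberman (X := G) hAK hcop hsolv hS hA hK htrans

/-- Glauberman's lemma, conjugacy part, for the conjugation action on the group itself. -/
theorem glauberman_conj_conjAct {A K : Subgroup G} (hAK : A ≤ Subgroup.normalizer (K : Set G))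
    (hcop : (Nat.card A).Coprime (Nat.card K))
    (hsolv : Group.IsSolvable A ∨ Group.IsSolvable K) {s t : G}
    (hsA : ∀ a ∈ A, a * s * a⁻¹ = s) (htA : ∀ a ∈ A, a * t * a⁻¹ = t) {k : G} (hk : k ∈ K)
    (hks : k * s * k⁻¹ = t) :
    ∃ c ∈ K ⊓ Subgroup.centralizer (A : Set G), c * s * c⁻¹ = t := by
  letI : MulAction G G := MulAction.compHom G (MulAut.conj : G →* MulAut G)
  exact Cfsg.Agent.Helper35.glauberman_conj (X := G) hAK hcop hsolv hsA htA hk hks

end Conj

end Cfsg.Agent.Helper74
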