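import Mathlib
import Cfsg.Agent.Helper21.PEDefs

/-!
# CALL S2276: auxiliary lemmas for the pieces G3O and G3E (helper74)
-/

set_option autoImplicit false

namespace Cfsg.Agent.Helper74.PEG3Aux

open Equiv Cfsg.Agent.Helper21.PE

/-- the value of the rotation -/
theorem g3_rot_val (k : ℕ) (y : Fin (k + 1)) :
    (finRotate (k + 1) y).val = if y.val = k then 0 else y.val + 1 := by
  rw [coe_finRotate]
  by_cases h : y = Fin.last k
  · rw [if_pos h, if_pos (by rw [h]; rfl)]
  · have h' : ¬ y.val = k := fun h' => h (Fin.ext h')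
    rw [if_neg h, if_neg h']

/-- the value of a transposition -/
theorem g3_swap_val {n : ℕ} (a b y : Fin n) :
    (Equiv.swap a b y).val
      = if y.val = a.val then b.val else if y.val = b.val then a.val else y.val := by
  rw [Equiv.swap_apply_def]
  by_cases h1 : y = a
  · rw [if_pos h1, if_pos (by rw [h1])]
  · rw [if_neg h1, if_neg (fun h' => h1 (Fin.ext h'))]
    by_cases h2 : y = b
    · rw [if_pos h2, if_pos (by rw [h2])]
    · rw [if_neg h2, if_neg (fun h' => h2 (Fin.ext h'))]

/-- the common criterion -/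
theorem g3_good (hS : ShiftStmt) (hF : FixcntStmt) (p n : ℕ) (hp : p.Prime) (hn5 : 5 ≤ n)
    (hodd : Odd n) (hpn : p ∣ n) (v θ : Perm (Fin n)) (a b c : Fin n)
    (hθ : θ ∈ Subgroup.closure ({finRotate n, v} : Set (Perm (Fin n))))
    (h3 : θ.IsThreeCycle) (hab : a < b) (hbc : b < c) (hsupp : θ.support = {a, b, c})
    (hne : ¬ (b.val - a.val = c.val - b.val ∧ 3 * (b.val - a.val) = n))
    (k : ℕ) (hk : ¬ p ∣ k)
    (hfix : (Finset.univ.filter (fun x => (finRotate n * v) x = x)).card = k) :
    Good p (finRotate n) v := by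
  constructor
  · apply hF p (Fin n) (finRotate n * v) hp
    rw [hfix, Fintype.card_fin]
    intro hmod
    apply hk
    have h1 : n ≡ 0 [MOD p] := (Nat.modEq_zero_iff_dvd).mpr hpn
    exact (Nat.modEq_zero_iff_dvd).mp (hmod.symm.trans h1)
  · exact hS n _ θ a b c hn5 hodd
      (Subgroup.subset_closure (Set.mem_insert _ _)) hθ h3 hab hbc hsupp hne

end Cfsg.Agent.Helper74.PEG3Aux
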