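import Mathlib
import Cfsg.Agent.Helper21.PEDefs
import Cfsg.Agent.Helper74.PEG3Aux

/-!
# CALL S2276, piece G3E: a good even conjugate of the `n`-cycle (helper74)
-/

set_option autoImplicit false

namespace Cfsg.Agent.Helper74.PEG3E

open Equiv Cfsg.Agent.Helper21.PE Cfsg.Agent.Helper74.PEG3Aux

theorem pe_g3e : ShiftStmt → FixcntStmt → G3EStmt := by
  intro hS hF p n a hp hp3 hn hn5
  obtain ⟨m, rfl⟩ : ∃ m, n = m + 5 := ⟨n - 5, by omega⟩
  have hodd : Odd (m + 5) := by
    rw [hn]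
    exact Odd.pow (hp.odd_of_ne_two (by omega))
  have hm1 : m ≠ 1 := by
    rintro rfl
    exact absurd hodd (by decide)
  have hpn : p ∣ m + 5 := by
    rw [hn]
    have ha : a ≠ 0 := by
      rintro rfl
      rw [pow_zero] at hn
      omega
    exact dvd_pow_self p ha
  obtain ⟨e0, he0⟩ : ∃ e : Fin (m + 5), e.val = 0 := ⟨⟨0, by omega⟩, rfl⟩
  obtain ⟨e2, he2⟩ : ∃ e : Fin (m + 5), e.val = 2 := ⟨⟨2, by omega⟩, rfl⟩
  obtain ⟨e4, he4⟩ : ∃ e : Fin (m + 5), e.val = 4 := ⟨⟨4, by omega⟩, rfl⟩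
  obtain ⟨e6, he6⟩ : ∃ e : Fin (m + 5), e.val = if m = 0 then 1 else 6 :=
    ⟨⟨if m = 0 then 1 else 6, by split_ifs <;> omega⟩, rfl⟩
  have h02 : e0 ≠ e2 := fun h => by rw [Fin.ext_iff] at h; omega
  have h04 : e0 ≠ e4 := fun h => by rw [Fin.ext_iff] at h; omega
  have h24 : e2 ≠ e4 := fun h => by rw [Fin.ext_iff] at h; omega
  have h06 : e0 ≠ e6 := fun h => by rw [Fin.ext_iff, he0, he6] at h; split_ifs at h <;> omega
  have h26 : e2 ≠ e6 := fun h => by rw [Fin.ext_iff, he2, he6] at h; split_ifs at h <;> omega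
  have h46 : e4 ≠ e6 := fun h => by rw [Fin.ext_iff, he4, he6] at h; split_ifs at h <;> omega
  have hρ0 : (finRotate (m + 5) * finRotate (m + 5)) e0 = e2 := by
    apply Fin.ext
    simp only [Perm.mul_apply, g3_rot_val, he0, he2]
    split_ifs
    all_goals first | omega | contradiction
  have hρ2 : (finRotate (m + 5) * finRotate (m + 5)) e2 = e4 := by
    apply Fin.ext
    simp only [Perm.mul_apply, g3_rot_val, he2, he4]
    split_ifs
    all_goals first | omega | contradiction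
  have hρ4 : (finRotate (m + 5) * finRotate (m + 5)) e4 = e6 := by
    apply Fin.ext
    simp only [Perm.mul_apply, g3_rot_val, he4, he6]
    split_ifs
    all_goals first | omega | contradiction
  refine ⟨swap e0 e2 * swap e2 e4, ?_, ?_⟩
  · rw [Perm.sign_mul, Perm.sign_swap h02, Perm.sign_swap h24]
    rfl
  have hgrp : ∀ π σ : Perm (Fin (m + 5)), (π * σ * π⁻¹) * (π * σ * π⁻¹) * σ⁻¹ * σ⁻¹
      = π * ((σ * σ) * π * (σ * σ)⁻¹)⁻¹ := by
    intro π σ
    simp only [mul_inv_rev, inv_inv, mul_assoc, inv_mul_cancel_left]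
  have hgrp2 : ∀ ρ a b : Perm (Fin (m + 5)), ρ * (a * b) * ρ⁻¹
      = (ρ * a * ρ⁻¹) * (ρ * b * ρ⁻¹) := by
    intro ρ a b
    simp only [mul_assoc, inv_mul_cancel_left]
  have hθeq : (swap e0 e2 * swap e2 e4 * finRotate (m + 5) * (swap e0 e2 * swap e2 e4)⁻¹)
      * (swap e0 e2 * swap e2 e4 * finRotate (m + 5) * (swap e0 e2 * swap e2 e4)⁻¹)
      * (finRotate (m + 5))⁻¹ * (finRotate (m + 5))⁻¹
      = swap e0 e2 * swap e2 e6 := by
    have h1 : (finRotate (m + 5) * finRotate (m + 5)) * (swap e0 e2 * swap e2 e4)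
        * (finRotate (m + 5) * finRotate (m + 5))⁻¹ = swap e2 e4 * swap e4 e6 := by
      rw [hgrp2, ← swap_apply_apply, ← swap_apply_apply, hρ0, hρ2, hρ4]
    have h2 : swap e2 e4 * swap e4 e6 * (swap e2 e4)⁻¹ = swap e2 e6 := by
      rw [← swap_apply_apply, swap_apply_right, swap_apply_of_ne_of_ne h26.symm h46.symm]
    rw [hgrp, h1, ← h2, mul_inv_rev, swap_inv, swap_inv]
    simp only [mul_assoc]
  have hfix : ∀ x : Fin (m + 5),
      (finRotate (m + 5) * (swap e0 e2 * swap e2 e4 * finRotate (m + 5)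
        * (swap e0 e2 * swap e2 e4)⁻¹)) x = x ↔ x = e2 ∨ x = e4 := by
    intro x
    have e : (finRotate (m + 5) * (swap e0 e2 * swap e2 e4 * finRotate (m + 5)
        * (swap e0 e2 * swap e2 e4)⁻¹)) x
        = finRotate (m + 5) (swap e0 e2 (swap e2 e4 (finRotate (m + 5)
            (swap e2 e4 (swap e0 e2 x))))) := by
      simp only [Perm.mul_apply, mul_inv_rev, swap_inv]
    rw [e]
    have h1 := g3_swap_val e0 e2 x
    generalize swap e0 e2 x = y1 at h1 ⊢
    have h2 := g3_swap_val e2 e4 y1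
    generalize swap e2 e4 y1 = y2 at h2 ⊢
    have h3 : (finRotate (m + 5) y2).val = if y2.val = m + 4 then 0 else y2.val + 1 :=
      g3_rot_val (m + 4) y2
    generalize finRotate (m + 5) y2 = y3 at h3 ⊢
    have h4 := g3_swap_val e2 e4 y3
    generalize swap e2 e4 y3 = y4 at h4 ⊢
    have h5 := g3_swap_val e0 e2 y4
    generalize swap e0 e2 y4 = y5 at h5 ⊢
    have h6 : (finRotate (m + 5) y5).val = if y5.val = m + 4 then 0 else y5.val + 1 :=
      g3_rot_val (m + 4) y5
    generalize finRotate (m + 5) y5 = y6 at h6 ⊢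
    rw [Fin.ext_iff, Fin.ext_iff, Fin.ext_iff, he2, he4]
    rw [he0, he2] at h1 h5
    rw [he2, he4] at h2 h4
    have hx := x.isLt
    split_ifs at h1 <;> split_ifs at h2 <;> (try omega) <;> split_ifs at h3 <;> (try omega) <;>
      split_ifs at h4 <;> (try omega) <;> split_ifs at h5 <;> (try omega) <;>
      split_ifs at h6 <;> omega
  have hmemθ : swap e0 e2 * swap e2 e6 ∈ Subgroup.closure
      ({finRotate (m + 5), swap e0 e2 * swap e2 e4 * finRotate (m + 5)
        * (swap e0 e2 * swap e2 e4)⁻¹} : Set (Perm (Fin (m + 5)))) := by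
    rw [← hθeq]
    have hv := Subgroup.subset_closure (Set.mem_insert_of_mem (finRotate (m + 5))
      (Set.mem_singleton (swap e0 e2 * swap e2 e4 * finRotate (m + 5)
        * (swap e0 e2 * swap e2 e4)⁻¹)))
    have hσ := Subgroup.inv_mem _ (Subgroup.subset_closure (Set.mem_insert (finRotate (m + 5))
      ({swap e0 e2 * swap e2 e4 * finRotate (m + 5)
        * (swap e0 e2 * swap e2 e4)⁻¹} : Set (Perm (Fin (m + 5))))))
    exact Subgroup.mul_mem _ (Subgroup.mul_mem _ (Subgroup.mul_mem _ hv hv) hσ) hσ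
  have h3c : (swap e0 e2 * swap e2 e6).IsThreeCycle := by
    rw [swap_comm e0 e2]
    exact Perm.isThreeCycle_swap_mul_swap_same h02.symm h26 h06
  have hsupp : (swap e0 e2 * swap e2 e6).support = {e0, e2, e6} := by
    apply Perm.support_swap_mul_swap
    simp [h02, h06, h26]
  have hp2 : ¬ p ∣ 2 := fun h => by
    have := Nat.le_of_dvd (by norm_num) h
    omega
  have hcard : (Finset.univ.filter (fun x => (finRotate (m + 5)
      * (swap e0 e2 * swap e2 e4 * finRotate (m + 5)
        * (swap e0 e2 * swap e2 e4)⁻¹)) x = x)).card = 2 := by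
    have : Finset.univ.filter (fun x => (finRotate (m + 5)
        * (swap e0 e2 * swap e2 e4 * finRotate (m + 5)
          * (swap e0 e2 * swap e2 e4)⁻¹)) x = x) = {e2, e4} := by
      ext x
      rw [Finset.mem_filter, Finset.mem_insert, Finset.mem_singleton, hfix]
      simp
    rw [this, Finset.card_pair h24]
  by_cases hm0 : m = 0
  · rw [if_pos hm0] at he6
    have hsupp' : (swap e0 e2 * swap e2 e6).support = {e0, e6, e2} := by
      rw [hsupp]
      congr 1
      exact Finset.pair_comm e2 e6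
    apply g3_good hS hF p (m + 5) hp hn5 hodd hpn _ (swap e0 e2 * swap e2 e6) e0 e6 e2
      hmemθ h3c _ _ hsupp' _ 2 hp2 hcard
    · rw [Fin.lt_def]; omega
    · rw [Fin.lt_def]; omega
    · rw [he0, he2, he6]
      omega
  · rw [if_neg hm0] at he6
    apply g3_good hS hF p (m + 5) hp hn5 hodd hpn _ (swap e0 e2 * swap e2 e6) e0 e2 e6
      hmemθ h3c _ _ hsupp _ 2 hp2 hcard
    · rw [Fin.lt_def]; omega
    · rw [Fin.lt_def]; omega
    · rw [he0, he2, he6]
      omega

end Cfsg.Agent.Helper74.PEG3E
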