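import Mathlib
import Cfsg.Agent.Helper21.PEDefs
import Cfsg.Agent.Helper74.PEG3Aux

/-!
# CALL S2276, piece G3O: a good odd conjugate of the `n`-cycle (helper74)
-/

set_option autoImplicit false

namespace Cfsg.Agent.Helper74.PEG3O

open Equiv Cfsg.Agent.Helper21.PE Cfsg.Agent.Helper74.PEG3Aux

theorem pe_g3o : ShiftStmt → FixcntStmt → G3OStmt := by
  intro hS hF p n a hp hp3 hn hn5
  obtain ⟨m, rfl⟩ : ∃ m, n = m + 5 := ⟨n - 5, by omega⟩
  have hodd : Odd (m + 5) := by
    rw [hn]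
    exact Odd.pow (hp.odd_of_ne_two (by omega))
  have hpn : p ∣ m + 5 := by
    rw [hn]
    have ha : a ≠ 0 := by
      rintro rfl
      rw [pow_zero] at hn
      omega
    exact dvd_pow_self p ha
  obtain ⟨e0, he0⟩ : ∃ e : Fin (m + 5), e.val = 0 := ⟨⟨0, by omega⟩, rfl⟩
  obtain ⟨e1, he1⟩ : ∃ e : Fin (m + 5), e.val = 1 := ⟨⟨1, by omega⟩, rfl⟩
  obtain ⟨e2, he2⟩ : ∃ e : Fin (m + 5), e.val = 2 := ⟨⟨2, by omega⟩, rfl⟩
  have h01 : e0 ≠ e1 := fun h => by rw [Fin.ext_iff] at h; omega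
  have h02 : e0 ≠ e2 := fun h => by rw [Fin.ext_iff] at h; omega
  have h12 : e1 ≠ e2 := fun h => by rw [Fin.ext_iff] at h; omega
  have hσ0 : finRotate (m + 5) e0 = e1 := by
    apply Fin.ext
    rw [g3_rot_val, he0, he1]
    simp
  have hσ1 : finRotate (m + 5) e1 = e2 := by
    apply Fin.ext
    rw [g3_rot_val, he1, he2]
    simp
  refine ⟨swap e0 e1, Perm.sign_swap h01, ?_⟩
  have hθeq : (swap e0 e1 * finRotate (m + 5) * (swap e0 e1)⁻¹) * (finRotate (m + 5))⁻¹
      = swap e0 e1 * swap e1 e2 := by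
    have h1 : finRotate (m + 5) * swap e0 e1 * (finRotate (m + 5))⁻¹ = swap e1 e2 := by
      rw [← swap_apply_apply, hσ0, hσ1]
    calc (swap e0 e1 * finRotate (m + 5) * (swap e0 e1)⁻¹) * (finRotate (m + 5))⁻¹
        = swap e0 e1 * (finRotate (m + 5) * swap e0 e1 * (finRotate (m + 5))⁻¹)⁻¹ := by group
      _ = swap e0 e1 * swap e1 e2 := by rw [h1, swap_inv]
  have hfix : ∀ x : Fin (m + 5),
      (finRotate (m + 5) * (swap e0 e1 * finRotate (m + 5) * (swap e0 e1)⁻¹)) x = x ↔ x = e1 := by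
    intro x
    simp only [Perm.mul_apply, swap_inv, Fin.ext_iff, g3_rot_val, g3_swap_val, he0, he1]
    split_ifs
    all_goals first | omega | contradiction
  apply g3_good hS hF p (m + 5) hp hn5 hodd hpn _ (swap e0 e1 * swap e1 e2) e0 e1 e2
  · rw [← hθeq]
    exact Subgroup.mul_mem _ (Subgroup.subset_closure (Set.mem_insert_of_mem _ rfl))
      (Subgroup.inv_mem _ (Subgroup.subset_closure (Set.mem_insert _ _)))
  · rw [swap_comm e0 e1]
    exact Perm.isThreeCycle_swap_mul_swap_same h01.symm h12 h02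
  · rw [Fin.lt_def]; omega
  · rw [Fin.lt_def]; omega
  · apply Perm.support_swap_mul_swap
    simp [h01, h02, h12]
  · rw [he0, he1, he2]
    omega
  · exact (Nat.Prime.one_lt hp).ne' ∘ Nat.dvd_one.mp
  · have : Finset.univ.filter (fun x => (finRotate (m + 5)
        * (swap e0 e1 * finRotate (m + 5) * (swap e0 e1)⁻¹)) x = x) = {e1} := by
      ext x
      rw [Finset.mem_filter, Finset.mem_singleton, hfix]
      simp
    rw [this, Finset.card_singleton]

end Cfsg.Agent.Helper74.PEG3O
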