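import Cfsg.Agent.Helper74.FSForm
import Cfsg.Agent.Helper80.CharOrtho

/-!
# Helper74: indicator one iff realizable over the reals

Part 1: the invariant-form theorem under the hypothesis `⟨χ, χ̄⟩`-type identity
`|G|⁻¹ ∑ χ(g)² = 1` only (no irreducibility of the representation needed).
Part 2: a real representation affording an irreducible character forces indicator `1`.
-/

set_option autoImplicit false

namespace Cfsg.Agent.Helper74

open Representation

variable {G : Type*} [Group G]

/-- Invariant bilinear forms: if `|G|⁻¹ ∑ χ(g)² = 1` then every invariant form `M` satisfies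
`Mᵀ = ν M`. -/
theorem invariant_form_transpose_of_sq [Fintype G] {n : ℕ} (ρ : Representation ℂ G (Fin n → ℂ))
    (hsq : (Nat.card G : ℂ)⁻¹ * ∑ g : G, ρ.character g * ρ.character g = 1) :
    (∃ M : Matrix (Fin n) (Fin n) ℂ, M ≠ 0 ∧ ∀ g : G,
      (LinearMap.toMatrix' (ρ g)).transpose * M * LinearMap.toMatrix' (ρ g) = M) ∧
    ∀ M : Matrix (Fin n) (Fin n) ℂ,
      (∀ g : G, (LinearMap.toMatrix' (ρ g)).transpose * M * LinearMap.toMatrix' (ρ g) = M) →
      M.transpose = ((Nat.card G : ℂ)⁻¹ * ∑ s : G, ρ.character (s * s)) • M := by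
  classical
  have hcard : (Nat.card G : ℂ) ≠ 0 := by exact_mod_cast Nat.card_pos.ne'
  let _i1 : Invertible (Nat.card G : ℂ) := invertibleOfNonzero hcard
  let _i2 : Invertible (Fintype.card G : ℂ) :=
    invertibleOfNonzero (by rw [Fintype.card_eq_nat_card]; exact hcard)
  set σ : Representation ℂ G (Matrix (Fin n) (Fin n) ℂ) := formRep ρ with hσ
  set T : Module.End ℂ (Matrix (Fin n) (Fin n) ℂ) :=
    (Matrix.transposeLinearEquiv (Fin n) (Fin n) ℂ ℂ).toLinearMap with hT
  set ν := (Nat.card G : ℂ)⁻¹ * ∑ s : G, ρ.character (s * s) with hν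
  have hTapp : ∀ M, T M = M.transpose := fun M => rfl
  -- invariance
  have hinv : ∀ M : Matrix (Fin n) (Fin n) ℂ, M ∈ invariants σ ↔
      ∀ g : G, (LinearMap.toMatrix' (ρ g)).transpose * M * LinearMap.toMatrix' (ρ g) = M := by
    intro M
    constructor
    · intro h g
      have := h g⁻¹
      rw [hσ, formRep_apply, inv_inv] at this
      exact this
    · intro h g
      rw [hσ, formRep_apply]
      exact h g⁻¹
  -- ν as a trace
  have hνtr : LinearMap.trace ℂ _ (T ∘ₗ averageMap σ) = ν := by
    show LinearMap.trace ℂ _ (T * averageMap σ) = ν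
    rw [Helper79.averageMap_eq_sum, mul_smul_comm, Finset.mul_sum, map_smul, map_sum, hν,
      smul_eq_mul]
    congr 1
    rw [← Equiv.sum_comp (Equiv.inv G)]
    refine Finset.sum_congr rfl fun g _ => ?_
    have := trace_transpose_formRep ρ g⁻¹
    rw [inv_inv] at this
    exact this
  -- dimension of the invariants
  have hd : (Module.finrank ℂ (invariants σ) : ℂ) = 1 := by
    rw [← card_inv_mul_sum_char_eq_finrank σ, ← hsq]
    congr 1
    rw [← Equiv.sum_comp (Equiv.inv G)]
    refine Finset.sum_congr rfl fun g _ => ?_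
    rw [hσ, formRep_character]
    simp
  have hfin : Module.finrank ℂ (invariants σ) = 1 := by exact_mod_cast hd
  have hTT : ∀ w, T (T w) = w := fun w => by rw [hTapp, hTapp, Matrix.transpose_transpose]
  have hTinv : ∀ w ∈ invariants σ, T w ∈ invariants σ := by
    intro w hw
    rw [hinv] at hw ⊢
    intro g
    have := congrArg Matrix.transpose (hw g)
    rw [Matrix.transpose_mul, Matrix.transpose_mul, Matrix.transpose_transpose,
      ← Matrix.mul_assoc] at this
    rw [hTapp]
    exact this
  have hproj := isProj_averageMap σ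
  obtain ⟨M₀, hM₀, hspan⟩ := (finrank_eq_one_iff' (K := ℂ) (V := invariants σ)).mp hfin
  obtain ⟨ε, hε⟩ := hspan ⟨T M₀, hTinv _ M₀.2⟩
  have hε' : T (M₀ : Matrix (Fin n) (Fin n) ℂ) = ε • (M₀ : _) := by
    have := congrArg Subtype.val hε
    simpa using this.symm
  have hM₀' : (M₀ : Matrix (Fin n) (Fin n) ℂ) ≠ 0 := fun h => hM₀ (Subtype.ext h)
  have hTP : T ∘ₗ averageMap σ = ε • averageMap σ := by
    refine LinearMap.ext fun w => ?_
    simp only [LinearMap.comp_apply, LinearMap.smul_apply]
    obtain ⟨c, hc⟩ := hspan ⟨averageMap σ w, hproj.map_mem w⟩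
    have hc' : averageMap σ w = c • (M₀ : Matrix (Fin n) (Fin n) ℂ) := by
      have := congrArg Subtype.val hc
      simpa using this.symm
    rw [hc', map_smul, hε', smul_comm]
  have hνε : ν = ε := by
    rw [← hνtr, hTP, map_smul, hproj.trace, hfin]
    simp
  refine ⟨⟨M₀, hM₀', (hinv _).mp M₀.2⟩, fun M hM => ?_⟩
  obtain ⟨c, hc⟩ := hspan ⟨M, (hinv M).mpr hM⟩
  have hc' : M = c • (M₀ : Matrix (Fin n) (Fin n) ℂ) := by
    have := congrArg Subtype.val hc
    simpa using this.symm
  rw [hνε, ← hTapp, hc', map_smul, hε', smul_comm]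

/-- The complexification of a real matrix representation. -/
noncomputable def complexify {n : ℕ} (ρ : Representation ℝ G (Fin n → ℝ)) :
    Representation ℂ G (Fin n → ℂ) where
  toFun g := Matrix.toLin' (Complex.ofRealHom.mapMatrix (LinearMap.toMatrix' (ρ g)))
  map_one' := by
    rw [map_one, LinearMap.toMatrix'_one, map_one, Matrix.toLin'_one]
    rfl
  map_mul' g h := by
    rw [map_mul, Module.End.mul_eq_comp, LinearMap.toMatrix'_comp, map_mul, Matrix.toLin'_mul]
    rfl

theorem toMatrix'_complexify {n : ℕ} (ρ : Representation ℝ G (Fin n → ℝ)) (g : G) :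
    LinearMap.toMatrix' (complexify ρ g) =
      Complex.ofRealHom.mapMatrix (LinearMap.toMatrix' (ρ g)) := by
  show LinearMap.toMatrix' (Matrix.toLin' _) = _
  rw [LinearMap.toMatrix'_toLin']

theorem complexify_character {n : ℕ} (ρ : Representation ℝ G (Fin n → ℝ)) (g : G) :
    (complexify ρ).character g = ((LinearMap.trace ℝ (Fin n → ℝ) (ρ g) : ℝ) : ℂ) := by
  unfold Representation.character
  rw [← trace_toMatrix', toMatrix'_complexify,
    LinearMap.trace_eq_matrix_trace ℝ (Pi.basisFun ℝ (Fin n)), LinearMap.toMatrix_eq_toMatrix']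
  simp [Matrix.trace]

/-- If an irreducible character is afforded by a real representation then its indicator is 1. -/
theorem indicator_eq_one_of_real [Fintype G] (χ : Cfsg.IrrCharacter G) {n : ℕ}
    (ρ : Representation ℝ G (Fin n → ℝ))
    (h : ∀ g : G, ((LinearMap.trace ℝ (Fin n → ℝ) (ρ g) : ℝ) : ℂ) = (χ : G → ℂ) g) :
    ((Nat.card G : ℂ)⁻¹ * ∑ s : G, (χ : G → ℂ) (s * s)) = 1 := by
  classical
  have hcard : (Nat.card G : ℂ) ≠ 0 := by exact_mod_cast Nat.card_pos.ne'
  have hχ : ∀ g, (complexify ρ).character g = (χ : G → ℂ) g := fun g => by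
    rw [complexify_character, h]
  have hreal : ∀ g, (starRingEnd ℂ) ((χ : G → ℂ) g) = (χ : G → ℂ) g := fun g => by
    rw [← h, Complex.conj_ofReal]
  have hsq : (Nat.card G : ℂ)⁻¹ * ∑ g : G, (complexify ρ).character g *
      (complexify ρ).character g = 1 := by
    have h1 := Helper80.irr_orthogonality_conj χ χ
    rw [if_pos rfl] at h1
    have h2 : ∑ g : G, (complexify ρ).character g * (complexify ρ).character g =
        (Fintype.card G : ℂ) := by
      rw [← h1]
      refine Finset.sum_congr rfl fun g _ => ?_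
      rw [hχ, hreal]
    rw [h2, Nat.card_eq_fintype_card]
    rw [Nat.card_eq_fintype_card] at hcard
    exact inv_mul_cancel₀ hcard
  obtain ⟨-, hM⟩ := invariant_form_transpose_of_sq (complexify ρ) hsq
  -- the invariant symmetric real form
  set Y : G → Matrix (Fin n) (Fin n) ℝ := fun g => LinearMap.toMatrix' (ρ g) with hY
  have hYmul : ∀ g h, Y (g * h) = Y g * Y h := fun g h => by
    simp only [hY]
    rw [map_mul, Module.End.mul_eq_comp, LinearMap.toMatrix'_comp]
  have hY1 : Y 1 = 1 := by
    simp only [hY]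
    rw [map_one, LinearMap.toMatrix'_one]
  set S : Matrix (Fin n) (Fin n) ℝ := ∑ g : G, (Y g).transpose * Y g with hS
  have hSinv : ∀ h : G, (Y h).transpose * S * Y h = S := by
    intro h
    rw [hS, Finset.mul_sum, Finset.sum_mul]
    rw [← Equiv.sum_comp (Equiv.mulRight h) (fun g => (Y g).transpose * Y g)]
    refine Finset.sum_congr rfl fun g _ => ?_
    simp only [Equiv.coe_mulRight, hYmul, Matrix.transpose_mul, Matrix.mul_assoc]
  have hSsymm : S.transpose = S := by
    rw [hS, Matrix.transpose_sum]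
    refine Finset.sum_congr rfl fun g _ => ?_
    rw [Matrix.transpose_mul, Matrix.transpose_transpose]
  have hn : 0 < n := by
    rcases Nat.eq_zero_or_pos n with h0 | h0
    · exfalso
      subst h0
      have h1 := h 1
      have : (χ : G → ℂ) 1 = 0 := by
        rw [← h1]
        simp
      exact Helper80.irr_one_ne_zero χ this
    · exact h0
  have hS0 : S ≠ 0 := by
    intro h0
    have h1 : S ⟨0, hn⟩ ⟨0, hn⟩ = 0 := by rw [h0]; rfl
    have h2 : (1 : ℝ) ≤ S ⟨0, hn⟩ ⟨0, hn⟩ := by
      rw [hS, Matrix.sum_apply]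
      have h3 : ∀ g ∈ (Finset.univ : Finset G),
          0 ≤ ((Y g).transpose * Y g) ⟨0, hn⟩ ⟨0, hn⟩ := by
        intro g _
        rw [Matrix.mul_apply]
        exact Finset.sum_nonneg fun k _ => by
          rw [Matrix.transpose_apply]; exact mul_self_nonneg _
      refine le_trans ?_ (Finset.single_le_sum h3 (Finset.mem_univ (1 : G)))
      rw [hY1]
      simp
    linarith
  have e1 : ∀ N : Matrix (Fin n) (Fin n) ℝ, (Complex.ofRealHom.mapMatrix N).transpose =
      Complex.ofRealHom.mapMatrix N.transpose := by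
    intro N
    simp only [RingHom.mapMatrix_apply, Matrix.transpose_map]
  have hMS := hM (Complex.ofRealHom.mapMatrix S) (fun g => by
    rw [toMatrix'_complexify]
    show (Complex.ofRealHom.mapMatrix (Y g)).transpose * _ *
      Complex.ofRealHom.mapMatrix (Y g) = _
    rw [e1, ← map_mul, ← map_mul, hSinv])
  rw [e1, hSsymm] at hMS
  simp only [hχ] at hMS
  set ν := (Nat.card G : ℂ)⁻¹ * ∑ s : G, (χ : G → ℂ) (s * s) with hν
  have hS0' : Complex.ofRealHom.mapMatrix S ≠ 0 := by
    intro h0
    apply hS0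
    ext i j
    have := congrFun (congrFun h0 i) j
    simpa using this
  have h3 : (1 - ν) • Complex.ofRealHom.mapMatrix S = 0 := by
    rw [sub_smul, one_smul, ← hMS, sub_self]
  rcases smul_eq_zero.mp h3 with h4 | h4
  · exact (sub_eq_zero.mp h4).symm
  · exact absurd h4 hS0'

end Cfsg.Agent.Helper74
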