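import Cfsg.Agent.Helper16.S4Defs2

/-!
# CALL S3702, piece VX1 (core): the counts `|N1(x)| = 648 |W|` and `|NP(x)| = 54 |W|`,
with the model facts as hypotheses.
-/

set_option autoImplicit false

namespace Cfsg.Agent.Helper74

open Cfsg Cfsg.Agent.Helper16 DihedralGroup

/-- fibres of `t ↦ t⁻¹ x t` over a set of conjugates of `x` -/
theorem s4vx1_fib {G : Type*} [Group G] [Finite G] (x : G) (Y : Set G)
    (hY : ∀ y ∈ Y, ∃ t : G, t⁻¹ * x * t = y) :
    Nat.card {t : G // t⁻¹ * x * t ∈ Y} =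
      Nat.card Y * Nat.card (Subgroup.centralizer ({x} : Set G)) := by
  classical
  choose! τ hτ using hY
  have hc : ∀ c : G, c ∈ Subgroup.centralizer ({x} : Set G) ↔ x * c = c * x := by
    intro c
    rw [Subgroup.mem_centralizer_iff]
    constructor
    · intro h; exact h x rfl
    · intro h y hy; rw [Set.mem_singleton_iff] at hy; subst hy; exact h
  have hf : ∀ (y : Y) (c : Subgroup.centralizer ({x} : Set G)),
      ((c : G) * τ y)⁻¹ * x * ((c : G) * τ y) = y := by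
    intro y c
    have h1 := (hc c).1 c.2
    have h2 := hτ y y.2
    calc ((c : G) * τ y)⁻¹ * x * ((c : G) * τ y)
        = (τ (y : G))⁻¹ * ((c : G)⁻¹ * (x * (c : G))) * τ y := by group
      _ = (τ (y : G))⁻¹ * x * τ y := by rw [h1]; group
      _ = y := h2
  let f : Y × Subgroup.centralizer ({x} : Set G) → {t : G // t⁻¹ * x * t ∈ Y} :=
    fun p => ⟨(p.2 : G) * τ p.1, by rw [hf p.1 p.2]; exact p.1.2⟩
  have hinj : Function.Injective f := by
    rintro ⟨y, c⟩ ⟨y', c'⟩ hEq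
    have h0 : (c : G) * τ y = (c' : G) * τ y' := congrArg Subtype.val hEq
    have hy : (y : G) = y' := by
      rw [← hf y c, ← hf y' c', h0]
    have hy' : y = y' := Subtype.ext hy
    subst hy'
    have hcc : (c : G) = c' := mul_right_cancel h0
    have : c = c' := Subtype.ext hcc
    subst this
    rfl
  have hsurj : Function.Surjective f := by
    rintro ⟨t, ht⟩
    have h2 := hτ _ ht
    obtain ⟨u, hu⟩ : ∃ u : G, u = τ (t⁻¹ * x * t) := ⟨_, rfl⟩
    rw [← hu] at h2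
    have hmem : t * u⁻¹ ∈ Subgroup.centralizer ({x} : Set G) := by
      rw [hc]
      calc x * (t * u⁻¹)
          = t * (t⁻¹ * x * t) * u⁻¹ := by group
        _ = t * (u⁻¹ * x * u) * u⁻¹ := by rw [h2]
        _ = t * u⁻¹ * x := by group
    refine ⟨(⟨t⁻¹ * x * t, ht⟩, ⟨_, hmem⟩), ?_⟩
    apply Subtype.ext
    show t * u⁻¹ * τ (t⁻¹ * x * t) = t
    rw [← hu]
    group
  rw [← Nat.card_prod]
  exact (Nat.card_congr (Equiv.ofBijective f ⟨hinj, hsurj⟩)).symm

/-- cardinality of the image of a decidable subset of the model -/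
theorem s4vx1_card_image {G : Type*} [Group G] (φ : SM →* G) (hφ : Function.Injective φ)
    (p : SM → Prop) [DecidablePred p] :
    Nat.card (φ '' {m | p m}) = (Finset.univ.filter p).card := by
  rw [Nat.card_image_of_injective hφ]
  have : Nat.card {m : SM // p m} = (Finset.univ.filter p).card := by
    rw [Nat.card_eq_fintype_card, Fintype.card_subtype]
  exact this

variable {G : Type*} [Group G] {φ : SM →* G} {W : Subgroup G}

theorem s4_vx1_core [Finite G] (h : S4Cfg φ) (hX : XFacts φ W)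
    (hx : sx ^ 3 = 1)
    (hord3 : ∀ m : SM, sR m → m ^ 3 = 1 → ∃ s : SM, m = s * sx * s⁻¹)
    (hcard3 : (Finset.univ.filter (fun m : SM => sR m ∧ m ^ 3 = 1)).card = 72)
    (hPR : ∀ p : SM, sP p → kap p ≠ 0 → sR p)
    (hPpow : ∀ p : SM, sP p → p ^ 3 = 1)
    (hPcard : (Finset.univ.filter (fun m : SM => sP m ∧ kap m ≠ 0)).card = 6) :
    Nat.card (s4N1 φ (φ sx)) = 648 * Nat.card W ∧ Nat.card (s4NP φ (φ sx)) = 54 * Nat.card W := by
  classical
  have hx3 : (φ sx) ^ 3 = 1 := by rw [← map_pow, hx, map_one]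
  -- conjugates of `sx` in the model map to conjugates of `x`
  have hconj : ∀ m : SM, sR m → m ^ 3 = 1 → ∃ t : G, t⁻¹ * φ sx * t = φ m := by
    intro m hm hm3
    obtain ⟨s, hs⟩ := hord3 m hm hm3
    refine ⟨(φ s)⁻¹, ?_⟩
    rw [hs, map_mul, map_mul, map_inv, inv_inv]
  constructor
  · have hset : s4N1 φ (φ sx) = {t : G | t⁻¹ * φ sx * t ∈ φ '' {m : SM | sR m ∧ m ^ 3 = 1}} := by
      ext t
      constructor
      · rintro ⟨m, hm, hEq⟩
        have hm3 : m ^ 3 = 1 := by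
          apply h.inj
          rw [map_pow, map_one, ← hEq]
          have : (t⁻¹ * φ sx * t) ^ 3 = t⁻¹ * (φ sx) ^ 3 * t := by
            simp [pow_succ, mul_assoc]
          rw [this, hx3]; group
        exact ⟨m, ⟨hm, hm3⟩, hEq.symm⟩
      · rintro ⟨m, ⟨hm, _⟩, hEq⟩
        exact ⟨m, hm, hEq.symm⟩
    have hfib := s4vx1_fib (φ sx) (φ '' {m : SM | sR m ∧ m ^ 3 = 1}) (by
      rintro y ⟨m, ⟨hm, hm3⟩, rfl⟩
      exact hconj m hm hm3)
    have hcard : Nat.card (φ '' {m : SM | sR m ∧ m ^ 3 = 1}) = 72 := by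
      rw [s4vx1_card_image φ h.inj (fun m : SM => sR m ∧ m ^ 3 = 1)]
      convert hcard3
    rw [hset]
    change Nat.card {t : G // t⁻¹ * φ sx * t ∈ φ '' {m : SM | sR m ∧ m ^ 3 = 1}} = _
    rw [hfib, hcard, hX.card]
    ring
  · have hset : s4NP φ (φ sx) = {t : G | t⁻¹ * φ sx * t ∈ φ '' {m : SM | sP m ∧ kap m ≠ 0}} := by
      ext t
      constructor
      · rintro ⟨m, hm, hk, hEq⟩
        exact ⟨m, ⟨hm, hk⟩, hEq.symm⟩
      · rintro ⟨m, ⟨hm, hk⟩, hEq⟩
        exact ⟨m, hm, hk, hEq.symm⟩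
    have hfib := s4vx1_fib (φ sx) (φ '' {m : SM | sP m ∧ kap m ≠ 0}) (by
      rintro y ⟨m, ⟨hm, hk⟩, rfl⟩
      exact hconj m (hPR m hm hk) (hPpow m hm))
    have hcard : Nat.card (φ '' {m : SM | sP m ∧ kap m ≠ 0}) = 6 := by
      rw [s4vx1_card_image φ h.inj (fun m : SM => sP m ∧ kap m ≠ 0)]
      convert hPcard
    rw [hset]
    change Nat.card {t : G // t⁻¹ * φ sx * t ∈ φ '' {m : SM | sP m ∧ kap m ≠ 0}} = _
    rw [hfib, hcard, hX.card]
    ring

end Cfsg.Agent.Helper74
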